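import Cfsg.Agent.H47.SymplecticType
import Cfsg.Prelude.Def_LocalEven

/-!
Klinger–Mason, basic tools: in a group of local characteristic `p` the involutions centralising a
`p`-subgroup act faithfully, and the resulting bound on elementary 2-groups centralising an
elementary `p`-group in terms of the 2-local `p`-rank.
-/

set_option autoImplicit false
set_option linter.style.haveILetI false

namespace Cfsg.Agent.H29.KM

open Subgroup
open scoped commutatorElement
open Cfsg.Agent.H47 (commute_of_elementaryAbelian elementaryAbelian_of_le isPGroup_of_elementaryAbelian)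
open Cfsg.Agent.H47.Sympl (exists_ne_one_of_ne_bot elementary_sup_zpowers)

universe u
variable {G : Type u} [Group G]

/-- `C(A)` has characteristic `p`. -/
def CentConstrained (p : ℕ) (A : Subgroup G) : Prop :=
  centralizer (Cfsg.pCore p ↥(centralizer (A : Set G)) : Set ↥(centralizer (A : Set G))) ≤
    Cfsg.pCore p ↥(centralizer (A : Set G))

/-- The standing hypotheses: the 2-local `p`-rank is at most `n` with `3 ≤ n`; the centralisers of
the non-trivial subgroups of elementary abelian `p`-groups of rank three have characteristic `p`. -/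
structure Setting (p n : ℕ) (G : Type u) [Group G] : Prop where
  hp2 : p ≠ 2
  hn : 3 ≤ n
  hmax : Cfsg.TwoLocalPRankLE p n G
  hloc : ∀ A B : Subgroup G, Cfsg.IsElementaryAbelian p B → p ^ 3 ≤ Nat.card B → A ≤ B → A ≠ ⊥ →
    CentConstrained p A
  hG2 : Cfsg.IsCharacteristicTwoType G

/-- `Q` is a `p`-subgroup of exponent `p` and class two normalised by `C(A)`, on which the
`p'`-elements of `C(A)` act faithfully. -/
structure IsFaithful (p : ℕ) (A Q : Subgroup G) : Prop where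
  pgroup : IsPGroup p Q
  le_cent : Q ≤ centralizer (A : Set G)
  norm : centralizer (A : Set G) ≤ normalizer (Q : Set G)
  exp : ∀ x ∈ Q, x ^ p = 1
  cls : ∀ x ∈ Q, ∀ y ∈ Q, ∀ z ∈ Q, Commute ⁅x, y⁆ z
  faith : ∀ g ∈ centralizer (A : Set G), (orderOf g).Coprime p → (∀ x ∈ Q, Commute g x) → g = 1

variable [Finite G] {p : ℕ} [hp : Fact p.Prime]
set_option linter.unusedSectionVars false

omit [Finite G] in
/-- An element of order prime to `p` moving `q` by a fixed `p`-element does not move it. -/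
theorem commute_of_fixed_error {g q d : G} {k : ℕ} (hg : (orderOf g).Coprime p) (hd : d ^ p ^ k = 1)
    (hgd : Commute g d) (h : g * q * g⁻¹ = d * q) : Commute g q := by
  have hpow : ∀ m : ℕ, g ^ m * q * (g ^ m)⁻¹ = d ^ m * q := by
    intro m
    induction m with
    | zero => simp
    | succ m ih =>
      rw [pow_succ' g, mul_inv_rev]
      calc g * g ^ m * q * ((g ^ m)⁻¹ * g⁻¹) = g * (g ^ m * q * (g ^ m)⁻¹) * g⁻¹ := by group
        _ = (g * d ^ m * g⁻¹) * (g * q * g⁻¹) := by rw [ih]; group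
        _ = d ^ (m + 1) * q := by
          rw [h, (hgd.pow_right m).eq, mul_inv_cancel_right, pow_succ]; group
  have h1 := hpow (orderOf g)
  rw [pow_orderOf_eq_one, one_mul, inv_one, mul_one] at h1
  have h2 : d ^ orderOf g = 1 := mul_eq_right.mp h1.symm
  have h3 : d = 1 := (pow_eq_one_iff_of_coprime (hg.pow_right k)).mp ⟨h2, hd⟩
  rw [h3, one_mul] at h
  exact mul_inv_eq_iff_eq_mul.mp h

omit [Finite G] in
theorem eq_one_of_coprime_of_pGroup {P : Subgroup G} (hP : IsPGroup p P) {g : G} (hg : g ∈ P)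
    (hc : (orderOf g).Coprime p) : g = 1 := by
  obtain ⟨k, hk⟩ := hP ⟨g, hg⟩
  exact (pow_eq_one_iff_of_coprime (hc.pow_right k)).mp ⟨pow_orderOf_eq_one g, by simpa using congrArg Subtype.val hk⟩

/-- A subgroup without nontrivial elements of order prime to `p` is a `p`-group. -/
theorem isPGroup_of_forall_coprime {P : Subgroup G}
    (h : ∀ g ∈ P, (orderOf g).Coprime p → g = 1) : IsPGroup p P := by
  intro x
  refine ⟨(orderOf (x : G)).factorization p, Subtype.ext ?_⟩
  simp only [SubmonoidClass.coe_pow, OneMemClass.coe_one]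
  refine h _ (pow_mem x.2 _) ?_
  rw [orderOf_pow_of_dvd (by positivity [hp.out.pos]) (Nat.ordProj_dvd _ _)]
  exact (Nat.coprime_ordCompl hp.out (orderOf_pos _).ne').symm

/-- Centralisers of nontrivial `p`-subgroups are `p`-constrained without `p'`-core. -/
theorem pCore_constrained (hloc : Cfsg.IsOfLocalCharacteristic p G) {A : Subgroup G} (hA : IsPGroup p A)
    (hA1 : A ≠ ⊥) :
    centralizer (Cfsg.pCore p ↥(centralizer (A : Set G)) : Set ↥(centralizer (A : Set G))) ≤
      Cfsg.pCore p ↥(centralizer (A : Set G)) := by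
  set C := centralizer (A : Set G)
  set N := normalizer (A : Set G)
  have hCN : C ≤ N := centralizer_le_normalizer _
  have hN := hloc.2 A hA hA1
  refine le_sSup ⟨inferInstance, isPGroup_of_forall_coprime fun g hg hcop => ?_⟩
  have hgN : ∀ q ∈ Cfsg.pCore p ↥N, Commute (⟨g, hCN g.2⟩ : ↥N) q := by
    intro q hq
    haveI : (C.subgroupOf N).Normal := normal_subgroupOf_centralizer_normalizer _
    set d : ↥N := ⁅(⟨g, hCN g.2⟩ : ↥N), q⁆ with hd
    have hdO : d ∈ Cfsg.pCore p ↥N := by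
      rw [hd, commutatorElement_def]
      exact mul_mem (Subgroup.Normal.conj_mem inferInstance _ hq _)
        (inv_mem hq)
    have hdC : d ∈ C.subgroupOf N := by
      rw [hd, commutatorElement_def]
      have h1 : (⟨g, hCN g.2⟩ : ↥N) ∈ C.subgroupOf N := g.2
      rw [show (⟨g, hCN g.2⟩ : ↥N) * q * (⟨g, hCN g.2⟩ : ↥N)⁻¹ * q⁻¹ =
        (⟨g, hCN g.2⟩ : ↥N) * (q * (⟨g, hCN g.2⟩ : ↥N)⁻¹ * q⁻¹) by group]
      exact mul_mem h1 (Subgroup.Normal.conj_mem inferInstance _ (inv_mem h1) q)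
    -- `d` lies in the core of `C`
    have hdO' : (⟨(d : G), hdC⟩ : ↥C) ∈ Cfsg.pCore p ↥C := by
      have hn : ((Cfsg.pCore p ↥N).comap (Subgroup.inclusion hCN)).Normal :=
        Subgroup.Normal.comap inferInstance _
      have hpg : IsPGroup p ↥((Cfsg.pCore p ↥N).comap (Subgroup.inclusion hCN)) :=
        (Cores.pCore_isPGroup (p := p) (G := ↥N)).comap_of_injective _ (Subgroup.inclusion_injective hCN)
      exact (le_sSup ⟨hn, hpg⟩ : _ ≤ Cfsg.pCore p ↥C)
        (show Subgroup.inclusion hCN ⟨(d : G), hdC⟩ ∈ Cfsg.pCore p ↥N from hdO)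
    have hgd : Commute (⟨g, hCN g.2⟩ : ↥N) d := Subtype.ext
      (congrArg Subtype.val (mem_centralizer_iff.mp hg _ hdO')).symm
    obtain ⟨k, hk⟩ := Cores.pCore_isPGroup (p := p) (G := ↥N) ⟨d, hdO⟩
    refine commute_of_fixed_error (k := k) ?_ (by simpa using congrArg Subtype.val hk) hgd ?_
    · rwa [← Subgroup.orderOf_coe, Subgroup.orderOf_coe g]
    · rw [hd, commutatorElement_def]; group
  have hgO : (⟨g, hCN g.2⟩ : ↥N) ∈ Cfsg.pCore p ↥N :=
    hN (mem_centralizer_iff.mpr fun q hq => (hgN q hq).eq.symm)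
  have := eq_one_of_coprime_of_pGroup (Cores.pCore_isPGroup (p := p) (G := ↥N)) hgO
    (by rwa [← Subgroup.orderOf_coe, Subgroup.orderOf_coe g])
  exact Subtype.ext (congrArg Subtype.val this :)

theorem genFitting_isPGroup {A : Subgroup G} (hc : CentConstrained p A) : IsPGroup p ↥(Cfsg.generalizedFittingSubgroup ↥(centralizer (A : Set G))) := by
  rw [Components.genFitting_eq_pCore_iff.mpr hc]
  exact Cores.pCore_isPGroup

theorem exists_isFaithful (hp2 : p ≠ 2) {A : Subgroup G} (hc : CentConstrained p A) :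
    ∃ Q, IsFaithful p A Q := by
  set C := centralizer (A : Set G)
  have hFQ : centralizer (Cfsg.pCore p ↥C : Set ↥C) ≤ Cfsg.pCore p ↥C := hc
  set Q := (Cfsg.pCore p ↥C).map C.subtype with hQdef
  have hQC : Q ≤ C := map_subtype_le _
  have hQp : IsPGroup p Q := (Cores.pCore_isPGroup (p := p) (G := ↥C)).map C.subtype
  have hCQ : C ≤ normalizer (Q : Set G) :=
    haveI : (Cfsg.pCore p ↥C).Characteristic := inferInstance
    Components.le_normalizer_map_characteristic _ le_normalizer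
  obtain ⟨D, hDc, hDexp, hD2, hDf⟩ := H47.Sympl.exists_char_exponent_class_two hp2 hQp
  haveI := hDc
  refine ⟨D.map Q.subtype, ⟨(hQp.to_subgroup D).map Q.subtype, (map_subtype_le D).trans hQC,
    Components.le_normalizer_map_characteristic D hCQ, ?_, ?_, fun g hg hg2 hgc => ?_⟩⟩
  · rintro _ ⟨x, hx, rfl⟩
    rw [← map_pow, hDexp x hx, map_one]
  · rintro _ ⟨x, hx, rfl⟩ _ ⟨y, hy, rfl⟩ _ ⟨z, hz, rfl⟩
    rw [← map_commutatorElement]
    exact (hD2 x hx y hy z hz).map _
  let a : MulAut Q := Q.normalizerMonoidHom ⟨g, hCQ hg⟩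
  have hcop : (orderOf a).Coprime p := Nat.Coprime.coprime_dvd_left
    ((orderOf_map_dvd _ _).trans (by rw [← Subgroup.orderOf_coe])) hg2
  have ha : a = 1 := hDf a hcop fun x hx => Subtype.ext (by
    show g * x * g⁻¹ = x
    rw [(hgc x ⟨x, hx, rfl⟩).eq, mul_inv_cancel_right])
  have hgQ : (⟨g, hg⟩ : C) ∈ Cfsg.pCore p ↥C := hFQ (mem_centralizer_iff.mpr fun x hx => Subtype.ext (by
    have := congrArg (fun f : MulAut Q => (f ⟨x, ⟨x, hx, rfl⟩⟩ : G)) ha
    show (x : G) * g = g * x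
    exact (mul_inv_eq_iff_eq_mul.mp this).symm))
  exact eq_one_of_coprime_of_pGroup hQp ⟨⟨g, hg⟩, hgQ, rfl⟩ hg2

omit [Finite G] in
theorem IsFaithful.not_commute_involution (hp2 : p ≠ 2) {A Q : Subgroup G} (hQ : IsFaithful p A Q) {u : G}
    (hu : u ∈ centralizer (A : Set G)) (h2 : orderOf u = 2) : ∃ x ∈ Q, ¬ Commute u x := by
  by_contra h
  push Not at h
  have := hQ.faith u hu (by rw [h2]; exact (Nat.coprime_primes Nat.prime_two hp.out).mpr hp2.symm) h
  rw [this, orderOf_one] at h2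
  exact absurd h2 (by norm_num)

theorem not_dvd_two_card (hp2 : p ≠ 2) {Q : Subgroup G} (hQ : IsPGroup p Q) : ¬ 2 ∣ Nat.card Q := fun h => by
  obtain ⟨j, hj⟩ := IsPGroup.iff_card.mp hQ
  exact hp2 ((Nat.prime_dvd_prime_iff_eq Nat.prime_two hp.out).mp
    (Nat.prime_two.dvd_of_dvd_pow (hj ▸ h))).symm

/-- Strict growth of `p`-groups is by a factor of at least `p`. -/
theorem card_mul_le {E E' : Subgroup G} (hE' : IsPGroup p E') (hle : E ≤ E') {c : G} (hc : c ∈ E')
    (hcE : c ∉ E) : Nat.card E * p ≤ Nat.card E' := by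
  obtain ⟨a, ha⟩ := IsPGroup.iff_card.mp (hE'.to_le hle)
  obtain ⟨b, hb⟩ := IsPGroup.iff_card.mp hE'
  have hlt : Nat.card E < Nat.card E' := by
    by_contra h
    exact hcE ((eq_of_le_of_card_ge hle (not_lt.mp h)).ge hc)
  rw [ha, hb] at hlt ⊢
  rw [← pow_succ]
  exact Nat.pow_le_pow_right hp.out.pos ((Nat.pow_lt_pow_iff_right hp.out.one_lt).mp hlt)

omit [Finite G] in
theorem commute_sup {D F : Subgroup G} {x : G} (h1 : ∀ d ∈ D, Commute d x) (h2 : ∀ d ∈ F, Commute d x) :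
    ∀ e ∈ D ⊔ F, Commute e x := fun e he => by
  have h : D ⊔ F ≤ centralizer ({x} : Set G) := sup_le
    (fun d hd => mem_centralizer_singleton_iff.mpr (h1 d hd).eq)
    (fun d hd => mem_centralizer_singleton_iff.mpr (h2 d hd).eq)
  exact mem_centralizer_singleton_iff.mp (h he)

variable {n : ℕ}

/-- One step of the generation lemma: a hyperplane of `U` fixes a new element of `Q`. -/
theorem gen_step (hp2 : p ≠ 2) {D Q E U : Subgroup G} (hQ : IsFaithful p D Q)
    (hDE : D ≤ E) (hEQ : E ≤ D ⊔ (E ⊓ Q))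
    (hU : Cfsg.IsElementaryAbelian 2 U) (hUE : U ≤ centralizer (E : Set G)) {k : ℕ}
    (hk : Nat.card U = 2 ^ (k + 1)) (hk1 : 1 ≤ k) :
    ∃ U' ≤ U, Nat.card U' = 2 ^ k ∧ ∃ c ∈ Q, c ^ p = 1 ∧ c ∉ E ∧
      (∀ e ∈ E, Commute e c) ∧ ∀ f ∈ U', Commute f c := by
  have hUD : U ≤ centralizer (D : Set G) := hUE.trans (centralizer_le hDE)
  have hUQ : U ≤ normalizer (Q : Set G) := hUD.trans hQ.norm
  obtain ⟨u, hu, hu1⟩ : ∃ u ∈ U, u ≠ 1 := exists_ne_one_of_ne_bot fun h => by
    rw [h, card_bot] at hk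
    exact absurd hk.symm (Nat.ne_of_gt (Nat.one_lt_two_pow (Nat.succ_ne_zero k)))
  have hord : orderOf u = 2 := orderOf_eq_prime (hU.2 u hu) hu1
  obtain ⟨q, hq, huq⟩ := hQ.not_commute_involution hp2 (hUD hu) hord
  obtain ⟨W0, h0, hc0, c, hc, hcW0, huc⟩ : ∃ W0 ≤ U, Nat.card W0 = 2 ^ k ∧ ∃ c ∈ Q,
      c ∈ centralizer (W0 : Set G) ∧ ¬ Commute u c := by
    by_contra hno
    refine huq (mem_centralizer_singleton_iff.mp (H47.le_of_hyperplanes_le hU (n := k) hk.ge hk1 hUQ
      (not_dvd_two_card hp2 hQ.pgroup) (W := centralizer ({u} : Set G)) (fun v hv => le_normalizer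
        (mem_centralizer_singleton_iff.mpr (commute_of_elementaryAbelian hU hv hu).eq))
      (fun W0 h0 hc0 c hc => ?_) hq)).symm
    by_contra hcu
    exact hno ⟨W0, h0, hc0, c, hc.1, hc.2, fun h => hcu (mem_centralizer_singleton_iff.mpr h.eq.symm)⟩
  obtain ⟨x, hx, hx1, hxW0, hxinv⟩ := H47.Sympl.exists_inverted hU hk h0 hc0 hUQ hc hcW0 hu huc
  have hu0 : u ∉ W0 := fun h => huc (mem_centralizer_iff.mp hcW0 u h)
  have huE : ∀ e ∈ E, Commute u e := fun e he => (mem_centralizer_iff.mp (hUE hu) e he).symm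
  suffices key : ∀ y ∈ Q, y ≠ 1 → u * y * u⁻¹ = y⁻¹ → (∀ f ∈ W0, Commute f y) →
      (∀ e ∈ E ⊓ Q, Commute e y) → ∃ U' ≤ U, Nat.card U' = 2 ^ k ∧ ∃ c ∈ Q, c ^ p = 1 ∧ c ∉ E ∧
        (∀ e ∈ E, Commute e c) ∧ ∀ f ∈ U', Commute f c by
    by_cases hcomm : ∀ e ∈ E ⊓ Q, Commute e x
    · exact key x hx hx1 (hxinv u hu hu0) hxW0 hcomm
    push Not at hcomm
    obtain ⟨e, he, hex⟩ := hcomm
    have hexQ : ⁅e, x⁆ ∈ Q := by
      rw [commutatorElement_def]
      exact mul_mem (mul_mem (mul_mem he.2 hx) (inv_mem he.2)) (inv_mem hx)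
    refine key _ hexQ (fun h => hex (commutatorElement_eq_one_iff_commute.mp h)) ?_ (fun f hf => ?_)
      (fun e' he' => (hQ.cls e he.2 x hx e' he'.2).symm)
    · have hue : u * e * u⁻¹ = e := by rw [(huE e he.1).eq, mul_inv_cancel_right]
      rw [show u * ⁅e, x⁆ * u⁻¹ = ⁅u * e * u⁻¹, u * x * u⁻¹⁆ by
        simp only [commutatorElement_def]; group, hue, hxinv u hu hu0]
      calc ⁅e, x⁻¹⁆ = x⁻¹ * ⁅e, x⁆⁻¹ * x := by simp only [commutatorElement_def]; group
        _ = ⁅e, x⁆⁻¹ := by rw [mul_assoc, (hQ.cls e he.2 x hx x hx).inv_left.eq, inv_mul_cancel_left]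
    · have hfe : Commute f e := (mem_centralizer_iff.mp (hUE (h0 hf)) e he.1).symm
      rw [commutatorElement_def]
      exact ((hfe.mul_right (hxW0 f hf)).mul_right hfe.inv_right).mul_right (hxW0 f hf).inv_right
  intro y hy hy1 hyinv hyW0 hyE
  refine ⟨W0, h0, hc0, y, hy, hQ.exp y hy, fun h => ?_, fun e he => ?_, hyW0⟩
  · exact hy1 (H47.Sympl.eq_one_of_inverted hp2 (hQ.exp y hy) hyinv (huE y h))
  · exact commute_sup (fun d hd => mem_centralizer_iff.mp (hQ.le_cent hy) d hd) hyE e (hEQ he)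

/-- The hypothesis applies inside an elementary group of order `p ^ n`. -/
theorem Setting.constrained (hS : Setting p n G) {A B : Subgroup G}
    (hB : Cfsg.IsElementaryAbelian p B) (hBn : Nat.card B = p ^ n) (hAB : A ≤ B) (hA1 : A ≠ ⊥) :
    CentConstrained p A :=
  hS.hloc A B hB (hBn ▸ Nat.pow_le_pow_right hp.out.pos hS.hn) hAB hA1

/-- Generation lemma: an elementary 2-group of order `2 ^ (r + 2)` cannot centralise an elementary
`p`-group of order `p ^ (n - r)`. -/
theorem gen (hS : Setting p n G) {D W : Subgroup G} (hD : Cfsg.IsElementaryAbelian p D) (hD1 : D ≠ ⊥)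
    (hW : Cfsg.IsElementaryAbelian 2 W) (hWD : W ≤ centralizer (D : Set G)) (r : ℕ)
    (hDc : D ≠ ⊥ → CentConstrained p D) (hWr : 2 ^ (r + 2) ≤ Nat.card W) (hDr : p ^ n ≤ Nat.card D * p ^ r) : False := by
  obtain ⟨Q, hQ⟩ := exists_isFaithful hS.hp2 (hDc hD1)
  haveI : Fact (Nat.Prime 2) := ⟨Nat.prime_two⟩
  obtain ⟨m, hm⟩ := IsPGroup.iff_card.mp (isPGroup_of_elementaryAbelian hW)
  have hmr : r + 2 ≤ m := by
    rw [hm] at hWr
    exact (Nat.pow_le_pow_iff_right (by norm_num)).mp hWr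
  have key : ∀ j ≤ r, ∃ U E : Subgroup G, Cfsg.IsElementaryAbelian 2 U ∧ Nat.card U = 2 ^ (m - j) ∧
      Cfsg.IsElementaryAbelian p E ∧ D ≤ E ∧ E ≤ D ⊔ (E ⊓ Q) ∧ U ≤ centralizer (E : Set G) ∧
      Nat.card D * p ^ j ≤ Nat.card E := by
    intro j
    induction j with
    | zero => exact fun _ => ⟨W, D, hW, hm, hD, le_rfl, le_sup_left, hWD, by simp⟩
    | succ j ih =>
      intro hj
      obtain ⟨U, E, hU, hUc, hE, hDE, hEQ, hUE, hcard⟩ := ih (by omega)
      obtain ⟨U', hU', hU'c, c, hcQ, hcp, hcE, hcc, hcU⟩ := gen_step hS.hp2 hQ hDE hEQ hU hUE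
        (k := m - (j + 1)) (by rw [hUc]; congr 1; omega) (by omega)
      have hE' := elementary_sup_zpowers hE hcp hcc
      refine ⟨U', E ⊔ zpowers c, elementaryAbelian_of_le hU hU', hU'c, hE', hDE.trans le_sup_left,
        sup_le (hEQ.trans (sup_le_sup_left (inf_le_inf_right Q le_sup_left) D))
          (le_sup_of_le_right (le_inf le_sup_right (zpowers_le.mpr hcQ))),
        fun v hv => mem_centralizer_iff.mpr fun e he =>
          (commute_sup (F := zpowers c) (fun d hd => mem_centralizer_iff.mp (hUE (hU' hv)) d hd)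
            (fun d hd => ?_) e he).eq, ?_⟩
      · obtain ⟨i, rfl⟩ := hd
        exact (hcU v hv).symm.zpow_left i
      · calc Nat.card D * p ^ (j + 1) = Nat.card D * p ^ j * p := by rw [pow_succ, mul_assoc]
          _ ≤ Nat.card E * p := Nat.mul_le_mul_right p hcard
          _ ≤ _ := card_mul_le (isPGroup_of_elementaryAbelian hE') le_sup_left
              (mem_sup_right (mem_zpowers c)) hcE
  obtain ⟨U, E, hU, hUc, hE, hDE, hEQ, hUE, hcard⟩ := key r le_rfl
  obtain ⟨U', hU', hU'c, c, hcQ, hcp, hcE, hcc, hcU⟩ := gen_step hS.hp2 hQ hDE hEQ hU hUE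
    (k := m - r - 1) (by rw [hUc]; congr 1; omega) (by omega)
  obtain ⟨w, hw, hw1⟩ : ∃ w ∈ U', w ≠ 1 := exists_ne_one_of_ne_bot fun h => by
    rw [h, card_bot] at hU'c
    exact absurd hU'c.symm (Nat.ne_of_gt (Nat.one_lt_two_pow (by omega)))
  exact H47.Sympl.no_extension hS.hmax (orderOf_eq_prime (hU.2 w (hU' hw)) hw1) hE
    (fun e he => mem_centralizer_iff.mp (hUE (hU' hw)) e he) (hDr.trans hcard) hcp hcc (hcU w hw).symm hcE

end Cfsg.Agent.H29.KM
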