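import Cfsg.Agent.H29.KM.Basic

/-!
Klinger–Mason: some elementary `p`-group of maximal 2-local rank centralises an involution.
-/

set_option autoImplicit false
set_option linter.style.haveILetI false
set_option linter.unusedSectionVars false

namespace Cfsg.Agent.H29.KM

open Subgroup
open Cfsg.Agent.H47 (commute_of_elementaryAbelian elementaryAbelian_of_le isPGroup_of_elementaryAbelian normalizer_inf_centralizer)
open Cfsg.Agent.H47.Sympl (exists_ne_one_of_ne_bot elementary_sup_zpowers)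

universe u
variable {G : Type u} [Group G] [Finite G] {p n : ℕ} [hp : Fact p.Prime]

/-- The elements of order dividing two of the centre of `T`. -/
def omegaCenter (T : Subgroup G) : Subgroup G where
  carrier := {x | x ∈ T ∧ (∀ t ∈ T, Commute t x) ∧ x ^ 2 = 1}
  one_mem' := ⟨one_mem _, fun _ _ => Commute.one_right _, one_pow 2⟩
  mul_mem' {a b} ha hb := ⟨mul_mem ha.1 hb.1, fun t ht => (ha.2.1 t ht).mul_right (hb.2.1 t ht), by
    rw [(hb.2.1 a ha.1).mul_pow, ha.2.2, hb.2.2, one_mul]⟩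
  inv_mem' {a} ha := ⟨inv_mem ha.1, fun t ht => (ha.2.1 t ht).inv_right, by rw [inv_pow, ha.2.2, inv_one]⟩

theorem omegaCenter_le (T : Subgroup G) : omegaCenter T ≤ T := fun _ h => h.1

theorem omegaCenter_elementary (T : Subgroup G) : Cfsg.IsElementaryAbelian 2 (omegaCenter T) :=
  ⟨⟨⟨fun a b => Subtype.ext (b.2.2.1 a a.2.1).eq⟩⟩, fun _ h => h.2.2⟩

theorem le_normalizer_omegaCenter {T X : Subgroup G} (hX : X ≤ normalizer (T : Set G)) :
    X ≤ normalizer (omegaCenter T : Set G) := by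
  intro g hg
  have key : ∀ g ∈ normalizer (T : Set G), ∀ x ∈ omegaCenter T, g * x * g⁻¹ ∈ omegaCenter T := by
    intro g hg x hx
    refine ⟨(mem_normalizer_iff.mp hg x).mp hx.1, fun t ht => ?_, by rw [conj_pow, hx.2.2, mul_one, mul_inv_cancel]⟩
    have h := hx.2.1 (g⁻¹ * t * g) (by
      simpa using (mem_normalizer_iff.mp (inv_mem hg) t).mp ht)
    have := congrArg (fun a => g * a * g⁻¹) h.eq
    simpa [Commute, SemiconjBy, mul_assoc] using this
  exact mem_normalizer_iff.mpr fun x => ⟨key g (hX hg) x, fun h => by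
    simpa [mul_assoc] using key g⁻¹ (inv_mem (hX hg)) _ h⟩

theorem omegaCenter_ne_bot {T : Subgroup G} (hT : IsPGroup 2 T) (h1 : T ≠ ⊥) : omegaCenter T ≠ ⊥ := by
  haveI : Fact (Nat.Prime 2) := ⟨Nat.prime_two⟩
  haveI : Nontrivial T := T.nontrivial_iff_ne_bot.mpr h1
  haveI : Nontrivial (Subgroup.center T) := hT.center_nontrivial
  obtain ⟨k, hk0, hk⟩ := (hT.to_subgroup (Subgroup.center T)).nontrivial_iff_card.mp inferInstance
  obtain ⟨x, hx⟩ := exists_prime_orderOf_dvd_card' (G := Subgroup.center T) 2 (hk ▸ dvd_pow_self 2 hk0.ne')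
  intro h
  have hmem : ((x : T) : G) ∈ omegaCenter T := ⟨(x : T).2, fun t ht =>
    congrArg Subtype.val (Subgroup.mem_center_iff.mp x.2 ⟨t, ht⟩), by
      have := pow_orderOf_eq_one x
      rw [hx] at this
      exact congrArg (fun y : Subgroup.center T => ((y : T) : G)) this⟩
  rw [h, mem_bot] at hmem
  have : x = 1 := Subtype.ext (Subtype.ext hmem)
  rw [this, orderOf_one] at hx
  exact absurd hx (by norm_num)

theorem elementary_sup {q : ℕ} [Fact q.Prime] {E F : Subgroup G} (hE : Cfsg.IsElementaryAbelian q E)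
    (hF : Cfsg.IsElementaryAbelian q F) (hc : ∀ e ∈ E, ∀ f ∈ F, Commute e f) :
    Cfsg.IsElementaryAbelian q (E ⊔ F) := by
  have hcc : E ⊔ F = closure ((E : Set G) ∪ F) := by rw [Subgroup.closure_union, closure_eq, closure_eq]
  refine ⟨?_, fun a ha => ?_⟩
  · rw [hcc]
    refine isMulCommutative_closure ?_
    rintro a (ha | ha) b (hb | hb)
    exacts [(commute_of_elementaryAbelian hE ha hb).eq, (hc a ha b hb).eq, (hc b hb a ha).eq.symm,
      (commute_of_elementaryAbelian hF ha hb).eq]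
  · obtain ⟨e, he, f, hf, rfl⟩ := (Coprime.mem_sup_iff (show F ≤ normalizer (E : Set G) from fun f hf =>
      centralizer_le_normalizer _ (mem_centralizer_iff.mpr fun e he => (hc e he f hf).eq))).mp ha
    rw [(hc e he f hf).mul_pow, hE.2 e he, hF.2 f hf, one_mul]

theorem le_centralizer_of_elementary {B : Subgroup G} (hB : Cfsg.IsElementaryAbelian p B) {A : Subgroup G}
    (hAB : A ≤ B) : B ≤ centralizer (A : Set G) := fun _ hb =>
  mem_centralizer_iff.mpr fun _ ha => (commute_of_elementaryAbelian hB (hAB ha) hb).eq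

/-- Two hyperplanes of an elementary group. -/
theorem hyperplanes_inf_sup {B A1 A2 : Subgroup G} (hB : Cfsg.IsElementaryAbelian p B)
    (hBn : Nat.card B = p ^ n) (hn : 2 ≤ n) (h1 : A1 ≤ B) (h2 : A2 ≤ B)
    (hc1 : Nat.card A1 = p ^ (n - 1)) (hc2 : Nat.card A2 = p ^ (n - 1)) (hne : A1 ≠ A2) :
    A1 ⊔ A2 = B ∧ Nat.card ↥(A1 ⊓ A2) = p ^ (n - 2) := by
  have hP := isPGroup_of_elementaryAbelian hB
  have hnle : ¬ A2 ≤ A1 := fun h => hne (eq_of_le_of_card_ge h (hc1.le.trans hc2.ge)).symm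
  obtain ⟨a, ha2, ha1⟩ := SetLike.not_le_iff_exists.mp hnle
  refine ⟨eq_of_le_of_card_ge (sup_le h1 h2) ?_, ?_⟩
  · calc Nat.card B = Nat.card A1 * p := by rw [hBn, hc1, ← pow_succ]; congr 1; omega
      _ ≤ _ := card_mul_le (hP.to_le (sup_le h1 h2)) le_sup_left (mem_sup_right ha2) ha1
  · have hrelB : A1.relIndex B * Nat.card A1 = Nat.card B := by
      rw [← relIndex_bot_left A1, mul_comm, relIndex_mul_relIndex ⊥ A1 B bot_le h1, relIndex_bot_left]
    have hp0 := hp.out.pos
    rw [hc1, hBn, show p ^ n = p * p ^ (n - 1) by rw [← pow_succ']; congr 1; omega] at hrelB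
    have hB' : A1.relIndex B = p := Nat.eq_of_mul_eq_mul_right (by positivity) hrelB
    have hle : A1.relIndex A2 ≤ p := hB' ▸ relIndex_le_of_le_right h2 (by rw [hB']; exact hp.out.ne_zero)
    have heq : Nat.card ↥(A1 ⊓ A2) * A1.relIndex A2 = p ^ (n - 1) := by
      rw [← inf_relIndex_right, ← relIndex_bot_left, relIndex_mul_relIndex ⊥ _ A2 bot_le inf_le_right,
        relIndex_bot_left, hc2]
    obtain ⟨i, hi, hri⟩ := (Nat.dvd_prime_pow hp.out).mp (Dvd.intro_left _ heq : A1.relIndex A2 ∣ p ^ (n - 1))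
    have hi1 : i = 1 := by
      have hile : i ≤ 1 := by
        rw [hri] at hle
        exact (Nat.pow_le_pow_iff_right hp.out.one_lt).mp (hle.trans (pow_one p).ge)
      by_contra h
      obtain rfl : i = 0 := by omega
      exact hnle (relIndex_eq_one.mp (hri.trans (pow_zero p)))
    rw [hri, hi1, pow_one, show p ^ (n - 1) = p ^ (n - 2) * p by rw [← pow_succ]; congr 1; omega] at heq
    exact Nat.eq_of_mul_eq_mul_right hp0 heq

/-- A group of order at most two normalised by `B` is centralised. -/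
theorem le_centralizer_of_card_le_two {B U : Subgroup G} (hBU : B ≤ normalizer (U : Set G))
    (h2 : Nat.card U ≤ 2) : U ≤ centralizer (B : Set G) := by
  intro u hu
  by_cases hu1 : u = 1
  · rw [hu1]; exact one_mem _
  refine mem_centralizer_iff.mpr fun b hb => ?_
  have hbu : b * u * b⁻¹ ∈ U := (mem_normalizer_iff.mp (hBU hb) u).mp hu
  suffices h : b * u * b⁻¹ = u by exact mul_inv_eq_iff_eq_mul.mp h
  by_contra h
  have hb1 : b * u * b⁻¹ ≠ 1 := fun e => hu1 (conj_eq_one_iff.mp e)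
  classical
  haveI := Fintype.ofFinite U
  rw [Nat.card_eq_fintype_card] at h2
  have h3 : ({⟨1, one_mem _⟩, ⟨u, hu⟩, ⟨_, hbu⟩} : Finset U).card = 3 := by
    rw [Finset.card_insert_of_notMem, Finset.card_insert_of_notMem, Finset.card_singleton]
    · simp [Subtype.ext_iff, Ne.symm h]
    · simp [Subtype.ext_iff, Ne.symm hu1, Ne.symm hb1]
  have := Finset.card_le_univ ({⟨1, one_mem _⟩, ⟨u, hu⟩, ⟨_, hbu⟩} : Finset U)
  omega

/-- Fixed points of a hyperplane in an elementary 2-group without `B`-fixed points form a four-group. -/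
theorem card_fixed_eq_four (hS : Setting p n G) {B A U : Subgroup G} (hB : Cfsg.IsElementaryAbelian p B)
    (hU : Cfsg.IsElementaryAbelian 2 U) (hBU : B ≤ normalizer (U : Set G))
    (hfree : U ⊓ centralizer (B : Set G) = ⊥) (hBn : Nat.card B = p ^ n) (hAB : A ≤ B)
    (hA : Nat.card A = p ^ (n - 1)) (hne : U ⊓ centralizer (A : Set G) ≠ ⊥) : Nat.card ↥(U ⊓ centralizer (A : Set G)) = 4 := by
  haveI : Fact (Nat.Prime 2) := ⟨Nat.prime_two⟩
  have hA' := elementaryAbelian_of_le hB hAB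
  have hA1 : A ≠ ⊥ := fun h => by
    rw [h, card_bot] at hA
    exact absurd hA.symm (Nat.ne_of_gt (Nat.one_lt_pow (by have := hS.hn; omega) hp.out.one_lt))
  have hU' := elementaryAbelian_of_le hU (inf_le_left : U ⊓ centralizer (A : Set G) ≤ U)
  obtain ⟨j, hj⟩ := IsPGroup.iff_card.mp (isPGroup_of_elementaryAbelian hU')
  rw [hj]
  have hj2 : j ≤ 2 := by
    by_contra h
    refine H47.Sympl.no_eight (by have := hS.hn; omega) hS.hmax hS.hp2 hA' hA
      (genFitting_isPGroup (hS.constrained hB hBn hAB hA1)) hU' inf_le_right ?_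
    rw [hj]
    exact le_trans (by norm_num) (Nat.pow_le_pow_right two_pos (show 3 ≤ j by omega))
  have hj1 : ¬ j ≤ 1 := fun h => hne (le_bot_iff.mp (hfree ▸ le_inf inf_le_left
    (le_centralizer_of_card_le_two (normalizer_inf_centralizer hBU (le_centralizer_of_elementary hB hAB))
      (hj.le.trans ((Nat.pow_le_pow_right two_pos h).trans (pow_one 2).le)))))
  obtain rfl : j = 2 := by omega
  norm_num

/-- Some involution centralises an elementary `p`-group of maximal rank. -/
theorem exists_base (hS : Setting p n G) (hbig : ¬ Cfsg.TwoLocalPRankLE p (n - 1) G) :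
    ∃ (z : G) (B : Subgroup G), orderOf z = 2 ∧ Cfsg.IsElementaryAbelian p B ∧ Nat.card B = p ^ n ∧
      B ≤ centralizer ({z} : Set G) := by
  haveI : Fact (Nat.Prime 2) := ⟨Nat.prime_two⟩
  simp only [Cfsg.TwoLocalPRankLE, Cfsg.PRankLE, not_forall, not_le] at hbig
  obtain ⟨N, ⟨T0, hT0, hT01, hN⟩, E, hEc, hEp, hEcard⟩ := hbig
  set B := E.map N.subtype with hBdef
  have hB : Cfsg.IsElementaryAbelian p B := by
    refine ⟨⟨⟨?_⟩⟩, ?_⟩
    · rintro ⟨_, a, ha, rfl⟩ ⟨_, b, hb, rfl⟩
      exact Subtype.ext (congrArg N.subtype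
        (congrArg Subtype.val (hEc.is_comm.comm (⟨a, ha⟩ : E) ⟨b, hb⟩)))
    · rintro _ ⟨a, ha, rfl⟩
      rw [← map_pow, hEp a ha, map_one]
  have hBn : Nat.card B = p ^ n := by
    have h1 : Nat.card B = Nat.card E := card_map_of_injective N.subtype_injective
    obtain ⟨b, hb⟩ := IsPGroup.iff_card.mp (isPGroup_of_elementaryAbelian hB)
    have h2 := hS.hmax N ⟨T0, hT0, hT01, hN⟩ E hEc hEp
    rw [← h1, hb] at h2 hEcard
    rw [hb]
    have := (Nat.pow_le_pow_iff_right hp.out.one_lt).mp h2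
    have := (Nat.pow_lt_pow_iff_right hp.out.one_lt).mp hEcard
    congr 1; omega
  by_contra hno
  have hn := hS.hn
  have hfree : ∀ T : Subgroup G, IsPGroup 2 T → T ⊓ centralizer (B : Set G) = ⊥ := fun T hT => by
    by_contra h
    obtain ⟨k, hk0, hk⟩ := (hT.to_le (inf_le_left : T ⊓ centralizer (B : Set G) ≤ T)).nontrivial_iff_card.mp
      ((nontrivial_iff_ne_bot _).mpr h)
    obtain ⟨x, hx⟩ := exists_prime_orderOf_dvd_card' (G := ↥(T ⊓ centralizer (B : Set G))) 2
      (hk ▸ dvd_pow_self 2 hk0.ne')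
    exact hno ⟨x, B, (Subgroup.orderOf_coe x).trans hx, hB, hBn, fun b hb =>
      mem_centralizer_singleton_iff.mpr (mem_centralizer_iff.mp x.2.2 b hb)⟩
  set T := (Cfsg.pCore 2 ↥N).map N.subtype with hTdef
  have hBN : B ≤ N := map_subtype_le _
  have hBT : B ≤ normalizer (T : Set G) :=
    haveI : (Cfsg.pCore 2 ↥N).Characteristic := inferInstance
    Components.le_normalizer_map_characteristic _ (hBN.trans le_normalizer)
  have hT : IsPGroup 2 T := (Cores.pCore_isPGroup (p := 2) (G := ↥N)).map N.subtype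
  have hT1 : T ≠ ⊥ := by
    intro h
    refine hT01 (le_bot_iff.mp (h ▸ fun x hx => ⟨⟨x, hN ▸ le_normalizer hx⟩, ?_, rfl⟩))
    haveI : (T0.subgroupOf N).Normal := by subst hN; exact normal_in_normalizer
    exact (Cores.le_pCore (p := 2) (N := T0.subgroupOf N) (hT0.comap_subtype)) (mem_subgroupOf.mpr hx)
  have hc2 : Cfsg.IsOfCharacteristicTwo ↥N := by subst hN; exact hS.hG2.2 T0 hT0 hT01
  have hfaith : ∀ b ∈ B, (∀ t ∈ T, Commute t b) → b = 1 := fun b hb hc => by
    have hmem : (⟨b, hBN hb⟩ : N) ∈ Cfsg.pCore 2 ↥N :=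
      hc2 (mem_centralizer_iff.mpr fun t ht => Subtype.ext (hc t ⟨t, ht, rfl⟩).eq)
    refine eq_one_of_coprime_of_pGroup hT ⟨_, hmem, rfl⟩ ?_
    exact Nat.Coprime.coprime_dvd_left (orderOf_dvd_of_pow_eq_one (hB.2 b hb))
      ((Nat.coprime_primes hp.out Nat.prime_two).mpr hS.hp2)
  set U := omegaCenter T with hUdef
  have hU := omegaCenter_elementary T
  have hBU : B ≤ normalizer (U : Set G) := le_normalizer_omegaCenter hBT
  have hUf : U ⊓ centralizer (B : Set G) = ⊥ := hfree U (isPGroup_of_elementaryAbelian hU)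
  have hn1 : p ^ (n - 1 + 1) ≤ Nat.card B := by rw [hBn, Nat.sub_add_cancel (by omega)]
  have hpU : ∀ V : Subgroup G, IsPGroup 2 V → ¬ p ∣ Nat.card V := fun V hV h => by
    obtain ⟨j, hj⟩ := IsPGroup.iff_card.mp hV
    exact hS.hp2 ((Nat.prime_dvd_prime_iff_eq hp.out Nat.prime_two).mp (hp.out.dvd_of_dvd_pow (hj ▸ h)))
  -- two four-groups over different hyperplanes give a contradiction
  have hsixteen : ∀ A1 A2 U1 U2 : Subgroup G, A1 ≤ B → A2 ≤ B → Nat.card A1 = p ^ (n - 1) →
      Nat.card A2 = p ^ (n - 1) → A1 ≠ A2 → Cfsg.IsElementaryAbelian 2 U1 →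
      Cfsg.IsElementaryAbelian 2 U2 → U1 ≤ centralizer (A1 : Set G) → U2 ≤ centralizer (A2 : Set G) →
      (∀ e ∈ U1, ∀ f ∈ U2, Commute e f) → Nat.card U1 = 4 → Nat.card U2 = 4 → False := by
    intro A1 A2 U1 U2 h1 h2 hc1 hc2 hne hU1 hU2 hUA1 hUA2 hcomm h4 h4'
    obtain ⟨hsup, hinf⟩ := hyperplanes_inf_sup hB hBn (by omega) h1 h2 hc1 hc2 hne
    have hbot : U1 ⊓ U2 = ⊥ := le_bot_iff.mp (hfree U1 (isPGroup_of_elementaryAbelian hU1) ▸
      le_inf inf_le_left (fun x hx => by
        have h : B ≤ centralizer ({x} : Set G) := hsup ▸ sup_le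
          (fun a ha => mem_centralizer_singleton_iff.mpr (mem_centralizer_iff.mp (hUA1 hx.1) a ha))
          (fun a ha => mem_centralizer_singleton_iff.mpr (mem_centralizer_iff.mp (hUA2 hx.2) a ha))
        exact mem_centralizer_iff.mpr fun b hb => mem_centralizer_singleton_iff.mp (h hb)))
    have hnorm : U2 ≤ normalizer (U1 : Set G) := fun f hf => centralizer_le_normalizer _
      (mem_centralizer_iff.mpr fun e he => (hcomm e he f hf).eq)
    refine gen hS (elementaryAbelian_of_le hB (inf_le_left.trans h1 : A1 ⊓ A2 ≤ B)) (fun h => ?_)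
      (elementary_sup hU1 hU2 hcomm) (sup_le (hUA1.trans (centralizer_le inf_le_left))
        (hUA2.trans (centralizer_le inf_le_right))) 2 (hS.constrained hB hBn (inf_le_left.trans h1)) ?_ ?_
    · rw [h, card_bot] at hinf
      exact absurd hinf.symm (Nat.ne_of_gt (Nat.one_lt_pow (by omega) hp.out.one_lt))
    · rw [Coprime.card_sup hnorm hbot, h4, h4']; norm_num
    · rw [hinf, ← pow_add]; exact Nat.pow_le_pow_right hp.out.pos (by omega)
  obtain ⟨A', hA'B, hA'c, hA'U⟩ : ∃ A ≤ B, Nat.card A = p ^ (n - 1) ∧ U ⊓ centralizer (A : Set G) ≠ ⊥ := by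
    by_contra h
    refine omegaCenter_ne_bot hT hT1 (le_bot_iff.mp (H47.le_of_hyperplanes_le hB hn1 (by omega) hBU
      (hpU U (isPGroup_of_elementaryAbelian hU)) (W := ⊥) (fun b _ => mem_normalizer_iff.mpr fun x => by simp) ?_))
    exact fun A hA hAc => le_of_eq (by_contra fun hh => h ⟨A, hA, hAc, hh⟩)
  have hnorm' : ∀ {V A : Subgroup G}, B ≤ normalizer (V : Set G) → A ≤ B →
      B ≤ normalizer ((V ⊓ centralizer (A : Set G) : Subgroup G) : Set G) := fun hV hA =>
    normalizer_inf_centralizer hV (le_centralizer_of_elementary hB hA)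
  have h4' := card_fixed_eq_four hS hB hU hBU hUf hBn hA'B hA'c hA'U
  have hUA' : U ≤ centralizer (A' : Set G) := by
    refine le_trans (H47.le_of_hyperplanes_le hB hn1 (by omega) hBU (hpU U (isPGroup_of_elementaryAbelian hU))
      (hnorm' hBU hA'B) fun A hA hAc => ?_) inf_le_right
    by_contra hA1
    have hne : A' ≠ A := fun h => hA1 (h ▸ le_rfl)
    exact hsixteen A' A _ _ hA'B hA hA'c hAc hne (elementaryAbelian_of_le hU inf_le_left)
      (elementaryAbelian_of_le hU inf_le_left) inf_le_right inf_le_right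
      (fun e he f hf => commute_of_elementaryAbelian hU he.1 hf.1) h4'
      (card_fixed_eq_four hS hB hU hBU hUf hBn hA hAc fun h => hA1 (by rw [h]; exact bot_le))
  rw [inf_eq_left.mpr hUA'] at h4'
  obtain ⟨A2, hA2B, hA2c, hA2ne, hA2T⟩ : ∃ A ≤ B, Nat.card A = p ^ (n - 1) ∧ A' ≠ A ∧
      T ⊓ centralizer (A : Set G) ≠ ⊥ := by
    by_contra h
    have hle : T ≤ T ⊓ centralizer (A' : Set G) := by
      refine H47.le_of_hyperplanes_le hB hn1 (by omega) hBT (hpU T hT) (hnorm' hBT hA'B) fun A hA hAc => ?_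
      by_cases he : A' = A
      · exact he ▸ le_rfl
      · rw [show T ⊓ centralizer (A : Set G) = ⊥ from by_contra fun hh => h ⟨A, hA, hAc, he, hh⟩]
        exact bot_le
    obtain ⟨a, ha, ha1⟩ : ∃ a ∈ A', a ≠ 1 := exists_ne_one_of_ne_bot fun h0 => by
      rw [h0, card_bot] at hA'c
      exact absurd hA'c.symm (Nat.ne_of_gt (Nat.one_lt_pow (by omega) hp.out.one_lt))
    exact ha1 (hfaith a (hA'B ha) fun t ht => (mem_centralizer_iff.mp (hle ht).2 a ha).symm)
  set T2 := T ⊓ centralizer (A2 : Set G) with hT2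
  have hT2p : IsPGroup 2 T2 := hT.to_le inf_le_left
  have hU2A : omegaCenter T2 ≤ centralizer (A2 : Set G) := (omegaCenter_le T2).trans inf_le_right
  have h42 := card_fixed_eq_four hS hB (omegaCenter_elementary T2)
    (le_normalizer_omegaCenter (hnorm' hBT hA2B)) (hfree _ (hT2p.to_le (omegaCenter_le T2))) hBn hA2B hA2c
    (by rw [inf_eq_left.mpr hU2A]; exact omegaCenter_ne_bot hT2p hA2T)
  rw [inf_eq_left.mpr hU2A] at h42
  exact hsixteen A' A2 U _ hA'B hA2B hA'c hA2c hA2ne hU (omegaCenter_elementary T2) hUA' hU2A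
    (fun e he f hf => (he.2.1 f (omegaCenter_le T2 hf).1).symm) h4' h42

end Cfsg.Agent.H29.KM
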