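import Cfsg.Agent.H29.KM.Quat

/-!
Klinger–Mason: two quaternion planes, the group on which their centraliser acts faithfully, the
derived frame, and the contradiction for rank at least four.
-/

set_option autoImplicit false
set_option linter.style.haveILetI false
set_option linter.unusedSectionVars false

namespace Cfsg.Agent.H29.KM

open Subgroup
open scoped commutatorElement
open Cfsg.Agent.H47 (commute_of_elementaryAbelian elementaryAbelian_of_le isPGroup_of_elementaryAbelian)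
open Cfsg.Agent.H47.Sympl (exists_ne_one_of_ne_bot elementary_sup_zpowers eq_one_of_inverted)

universe u
variable {G : Type u} [Group G]

theorem conj_transfer {a g x e : G} (h : a * g = g * e) :
    a * (g * x * g⁻¹) * a⁻¹ = g * (e * x * e⁻¹) * g⁻¹ := by
  calc a * (g * x * g⁻¹) * a⁻¹ = (a * g) * x * (a * g)⁻¹ := by group
    _ = _ := by rw [h]; group

theorem conj_eq_self {a x : G} (h : Commute a x) : a * x * a⁻¹ = x := by rw [h.eq, mul_inv_cancel_right]

theorem commute_of_conj_eq {a x : G} (h : a * x * a⁻¹ = x) : Commute a x := mul_inv_eq_iff_eq_mul.mp h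

theorem conj_commutatorElement (a x y : G) : a * ⁅x, y⁆ * a⁻¹ = ⁅a * x * a⁻¹, a * y * a⁻¹⁆ := by
  simp only [commutatorElement_def]; group

theorem comm_inv_left {x y : G} (h : Commute x ⁅x, y⁆) : ⁅x⁻¹, y⁆ = ⁅x, y⁆⁻¹ := by
  calc ⁅x⁻¹, y⁆ = x⁻¹ * ⁅x, y⁆⁻¹ * x := by simp only [commutatorElement_def]; group
    _ = _ := by rw [mul_assoc, ← h.inv_right.eq, inv_mul_cancel_left]

theorem comm_inv_right {x y : G} (h : Commute y ⁅x, y⁆) : ⁅x, y⁻¹⁆ = ⁅x, y⁆⁻¹ := by
  calc ⁅x, y⁻¹⁆ = y⁻¹ * ⁅x, y⁆⁻¹ * y := by simp only [commutatorElement_def]; group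
    _ = _ := by rw [mul_assoc, ← h.inv_right.eq, inv_mul_cancel_left]

variable [Finite G] {p n : ℕ} [hp : Fact p.Prime]

theorem coprime_of_mem_twoGroup (hp2 : p ≠ 2) {S : Subgroup G} (hS : IsPGroup 2 S) {g : G} (hg : g ∈ S) :
    (orderOf g).Coprime p := by
  obtain ⟨k, hk⟩ := hS ⟨g, hg⟩
  exact Nat.Coprime.coprime_dvd_left (orderOf_dvd_of_pow_eq_one (by simpa using congrArg Subtype.val hk))
    (((Nat.coprime_primes Nat.prime_two hp.out).mpr hp2.symm).pow_left k)

/-- Two planes and generators of their quaternion groups. -/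
structure Quad (p n : ℕ) (z : G) (B S A1 A2 : Subgroup G) (q1 r1 q2 r2 : G) : Prop where
  base : Base p n z B S
  pl1 : IsPlane p n B S A1
  pl2 : IsPlane p n B S A2
  ne : A1 ≠ A2
  hq1 : q1 ∈ planeGroup z B S A1
  hr1 : r1 ∈ planeGroup z B S A1
  hq2 : q2 ∈ planeGroup z B S A2
  hr2 : r2 ∈ planeGroup z B S A2
  q1sq : q1 ^ 2 = z
  r1sq : r1 ^ 2 = z
  q2sq : q2 ^ 2 = z
  r2sq : r2 ^ 2 = z
  c1 : r1 * q1 = z * (q1 * r1)
  c2 : r2 * q2 = z * (q2 * r2)

namespace Quad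

variable {z : G} {B S A1 A2 : Subgroup G} {q1 r1 q2 r2 : G} (hS : Setting p n G)
  (h : Quad p n z B S A1 A2 q1 r1 q2 r2)
include hS h

theorem hn : 1 ≤ n := by have := hS.hn; omega

theorem group_le_one {a : G} (ha : a ∈ planeGroup z B S A1) :
    a ∈ S ⊓ centralizer ((A1 ⊓ A2 : Subgroup G) : Set G) :=
  ⟨(h.base.group_le h.pl1 ha).1, centralizer_le inf_le_left (h.base.group_le h.pl1 ha).2⟩

theorem group_le_two {a : G} (ha : a ∈ planeGroup z B S A2) :
    a ∈ S ⊓ centralizer ((A1 ⊓ A2 : Subgroup G) : Set G) :=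
  ⟨(h.base.group_le h.pl2 ha).1, centralizer_le inf_le_right (h.base.group_le h.pl2 ha).2⟩

theorem cross {a c : G} (ha : a ∈ planeGroup z B S A1) (hc : c ∈ planeGroup z B S A2) : Commute a c :=
  h.base.commute_planes h.pl1 h.pl2.1 h.pl2.2.1 h.ne (h.hn hS) ha (h.base.group_le h.pl2 hc)

theorem zq1 : Commute q1 z := h.base.z_commute (h.base.group_le h.pl1 h.hq1).1
theorem zr1 : Commute r1 z := h.base.z_commute (h.base.group_le h.pl1 h.hr1).1
theorem zq2 : Commute q2 z := h.base.z_commute (h.base.group_le h.pl2 h.hq2).1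
theorem zr2 : Commute r2 z := h.base.z_commute (h.base.group_le h.pl2 h.hr2).1

theorem w_sq : (q1 * q2) ^ 2 = 1 := by
  rw [(h.cross hS h.hq1 h.hq2).mul_pow, h.q1sq, h.q2sq, h.base.zz]

theorem u_sq : (r1 * r2) ^ 2 = 1 := by
  rw [(h.cross hS h.hr1 h.hr2).mul_pow, h.r1sq, h.r2sq, h.base.zz]

theorem r1_w : r1 * (q1 * q2) = z * (q1 * q2 * r1) := by
  rw [← mul_assoc, h.c1, mul_assoc z, mul_assoc q1, (h.cross hS h.hr1 h.hq2).eq, mul_assoc q1]

theorem w_r1 : (q1 * q2) * r1 = r1 * (z * (q1 * q2)) := by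
  rw [← mul_assoc r1 z, (h.zr1 hS).eq, mul_assoc z r1, h.r1_w hS, ← mul_assoc z, h.base.zz, one_mul]

theorem r1_u : Commute r1 (r1 * r2) := (Commute.refl r1).mul_right (h.cross hS h.hr1 h.hr2)

theorem q1_w : Commute q1 (q1 * q2) := (Commute.refl q1).mul_right (h.cross hS h.hq1 h.hq2)

theorem q1_u : q1 * (r1 * r2) = z * (r1 * r2 * q1) := by
  rw [mul_assoc r1, ← (h.cross hS h.hq1 h.hr2).eq, ← mul_assoc r1, h.c1, ← mul_assoc, ← mul_assoc,
    ← mul_assoc, h.base.zz, one_mul]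

theorem u_q1 : (r1 * r2) * q1 = q1 * (z * (r1 * r2)) := by
  rw [← mul_assoc q1 z, (h.zq1 hS).eq, mul_assoc z q1, h.q1_u hS, ← mul_assoc z, h.base.zz, one_mul]

theorem w_u : Commute (q1 * q2) (r1 * r2) := by
  show q1 * q2 * (r1 * r2) = r1 * r2 * (q1 * q2)
  calc q1 * q2 * (r1 * r2) = (q1 * r1) * (q2 * r2) := by
        rw [mul_assoc, ← mul_assoc q2, ← (h.cross hS h.hr1 h.hq2).eq]; group
    _ = (z * z) * ((q1 * r1) * (q2 * r2)) := by rw [h.base.zz, one_mul]
    _ = (z * (q1 * r1)) * (z * (q2 * r2)) := by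
      rw [mul_assoc z (q1 * r1), ← mul_assoc (q1 * r1) z, ((h.zq1 hS).mul_left (h.zr1 hS)).eq]; group
    _ = _ := by
      rw [← h.c1, ← h.c2, mul_assoc r1, ← mul_assoc q1, (h.cross hS h.hq1 h.hr2).eq]; group

theorem z_w : Commute z (q1 * q2) := ((h.zq1 hS).mul_left (h.zq2 hS)).symm
theorem z_u : Commute z (r1 * r2) := ((h.zr1 hS).mul_left (h.zr2 hS)).symm

theorem w_mem : q1 * q2 ∈ S ⊓ centralizer ((A1 ⊓ A2 : Subgroup G) : Set G) :=
  mul_mem (h.group_le_one hS h.hq1) (h.group_le_two hS h.hq2)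

theorem u_mem : r1 * r2 ∈ S ⊓ centralizer ((A1 ⊓ A2 : Subgroup G) : Set G) :=
  mul_mem (h.group_le_one hS h.hr1) (h.group_le_two hS h.hr2)

theorem not_r1_w : ¬ Commute r1 (q1 * q2) := fun hc => h.base.z_ne_one (by
  have := h.r1_w hS
  rw [hc.eq] at this
  exact mul_eq_right.mp this.symm)

theorem not_q1_u : ¬ Commute q1 (r1 * r2) := fun hc => h.base.z_ne_one (by
  have := h.q1_u hS
  rw [hc.eq] at this
  exact mul_eq_right.mp this.symm)

theorem w_order : orderOf (q1 * q2) = 2 :=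
  haveI : Fact (Nat.Prime 2) := ⟨Nat.prime_two⟩
  orderOf_eq_prime (h.w_sq hS) fun e => h.not_r1_w hS (by rw [e]; exact Commute.one_right r1)

/-- An element of the faithful group inverted by `z` and fixed by `w` and `u`. -/
theorem exists_eigen {Q : Subgroup G} (hQ : IsFaithful p (A1 ⊓ A2) Q) :
    ∃ x ∈ Q, x ≠ 1 ∧ z * x * z⁻¹ = x⁻¹ ∧ Commute (q1 * q2) x ∧ Commute (r1 * r2) x := by
  haveI : Fact (Nat.Prime 2) := ⟨Nat.prime_two⟩
  set w := q1 * q2 with hw
  set u := r1 * r2 with hu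
  have hE0 := elementary_zpowers (q := 2) (show z ^ 2 = 1 by rw [pow_two]; exact h.base.zz)
  have hE1 := elementary_sup_zpowers hE0 (h.w_sq hS) (fun a ha => by
    obtain ⟨i, rfl⟩ := ha; exact (h.z_w hS).zpow_left i)
  have hcomu : ∀ a ∈ zpowers z ⊔ zpowers w, Commute a u := commute_sup
    (fun a ha => by obtain ⟨i, rfl⟩ := ha; exact (h.z_u hS).zpow_left i)
    (fun a ha => by obtain ⟨i, rfl⟩ := ha; exact (h.w_u hS).zpow_left i)
  have hW := elementary_sup_zpowers hE1 (h.u_sq hS) hcomu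
  set W := zpowers z ⊔ zpowers w ⊔ zpowers u with hWdef
  have hz : z ∈ W := mem_sup_left (mem_sup_left (mem_zpowers z))
  have h1 := two_mul_card_le hE1 (H := zpowers z) le_sup_left (x := w) (mem_sup_right (mem_zpowers w))
    (fun hm => h.not_r1_w hS (by
      obtain ⟨i, hi⟩ := hm; simp only at hi; show Commute r1 w; rw [← hi]; exact (h.zr1 hS).zpow_right i))
  have h2 := two_mul_card_le hW (H := zpowers z ⊔ zpowers w) le_sup_left (x := u)
    (mem_sup_right (mem_zpowers u)) (fun hm => h.not_q1_u hS ((commute_sup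
      (fun a ha => by obtain ⟨i, rfl⟩ := ha; exact (h.zq1 hS).symm.zpow_left i)
      (fun a ha => by obtain ⟨i, rfl⟩ := ha; exact (h.q1_w hS).symm.zpow_left i) u hm)).symm)
  change Nat.card (zpowers z) * 2 ≤ Nat.card ↥(zpowers z ⊔ zpowers w) at h1
  rw [Nat.card_zpowers, h.base.z2] at h1
  change Nat.card ↥(zpowers z ⊔ zpowers w) * 2 ≤ Nat.card W at h2
  obtain ⟨k, hk⟩ := IsPGroup.iff_card.mp (isPGroup_of_elementaryAbelian hW)
  obtain ⟨r, rfl⟩ : ∃ r, k = r + 1 := ⟨k - 1, by rcases k with - | k <;> simp_all⟩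
  have hr : 1 ≤ r := by
    by_contra hr
    obtain rfl : r = 0 := by omega
    omega
  have hWX : W ≤ S ⊓ centralizer ((A1 ⊓ A2 : Subgroup G) : Set G) := sup_le (sup_le
    (zpowers_le.mpr ⟨h.base.symp.zmem, centralizer_le inf_le_left (h.base.z_mem_cent h.pl1).2⟩)
    (zpowers_le.mpr (h.w_mem hS))) (zpowers_le.mpr (h.u_mem hS))
  have hWQ : W ≤ normalizer (Q : Set G) := (hWX.trans inf_le_right).trans hQ.norm
  obtain ⟨q, hq, hzq⟩ := hQ.not_commute_involution hS.hp2 (hWX hz).2 h.base.z2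
  obtain ⟨W0, h0, hc0, c, hc, hcW0, hzc⟩ : ∃ W0 ≤ W, Nat.card W0 = 2 ^ r ∧ ∃ c ∈ Q,
      c ∈ centralizer (W0 : Set G) ∧ ¬ Commute z c := by
    by_contra hno
    refine hzq (mem_centralizer_singleton_iff.mp (H47.le_of_hyperplanes_le hW (n := r) hk.ge hr hWQ
      (not_dvd_two_card hS.hp2 hQ.pgroup) (W := centralizer ({z} : Set G)) (fun v hv => le_normalizer
        (mem_centralizer_singleton_iff.mpr (commute_of_elementaryAbelian hW hv hz).eq))
      (fun W0 h0 hc0 c hc => ?_) hq)).symm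
    by_contra hcu
    exact hno ⟨W0, h0, hc0, c, hc.1, hc.2, fun h => hcu (mem_centralizer_singleton_iff.mpr h.eq.symm)⟩
  obtain ⟨x, hx, hx1, hxf, hxi⟩ := H47.Sympl.exists_inverted hW hk h0 hc0 hWQ hc hcW0 hz hzc
  have hzx : z * x * z⁻¹ = x⁻¹ := hxi z hz fun hm => hzc (mem_centralizer_iff.mp hcW0 z hm)
  have step1 : ∃ x ∈ Q, x ≠ 1 ∧ z * x * z⁻¹ = x⁻¹ ∧ Commute w x ∧ (Commute u x ∨ u * x * u⁻¹ = x⁻¹) := by
    have hux : ∀ {y}, y ∈ W → Commute y x ∨ y * x * y⁻¹ = x⁻¹ := fun {y} hy => by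
      by_cases hy0 : y ∈ W0
      exacts [Or.inl (hxf y hy0), Or.inr (hxi y hy hy0)]
    rcases hux (mem_sup_left (mem_sup_right (mem_zpowers w))) with hwx | hwx
    · exact ⟨x, hx, hx1, hzx, hwx, hux (mem_sup_right (mem_zpowers u))⟩
    · refine ⟨r1 * x * r1⁻¹, (mem_normalizer_iff.mp (hQ.norm (h.group_le_one hS h.hr1).2) x).mp hx,
        fun e => hx1 (conj_eq_one_iff.mp e), ?_, commute_of_conj_eq ?_, ?_⟩
      · rw [conj_transfer (e := z) (h.zr1 hS).symm.eq, hzx]; group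
      · rw [conj_transfer (h.w_r1 hS), show z * w * x * (z * w)⁻¹ = z * (w * x * w⁻¹) * z⁻¹ by group, hwx]
        rw [show z * x⁻¹ * z⁻¹ = (z * x * z⁻¹)⁻¹ by group, hzx, inv_inv]
      · have : u * r1 = r1 * u := (h.r1_u hS).symm.eq
        rcases hux (mem_sup_right (mem_zpowers u)) with e | e
        · exact Or.inl (commute_of_conj_eq (by rw [conj_transfer this, conj_eq_self e]))
        · exact Or.inr (by rw [conj_transfer this, e]; group)
  obtain ⟨x, hx, hx1, hzx, hwx, hux | hux⟩ := step1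
  · exact ⟨x, hx, hx1, hzx, hwx, hux⟩
  refine ⟨q1 * x * q1⁻¹, (mem_normalizer_iff.mp (hQ.norm (h.group_le_one hS h.hq1).2) x).mp hx,
    fun e => hx1 (conj_eq_one_iff.mp e), ?_, commute_of_conj_eq ?_, commute_of_conj_eq ?_⟩
  · rw [conj_transfer (e := z) (h.zq1 hS).symm.eq, hzx]; group
  · rw [conj_transfer (e := w) (h.q1_w hS).symm.eq, conj_eq_self hwx]
  · rw [conj_transfer (h.u_q1 hS), show z * u * x * (z * u)⁻¹ = z * (u * x * u⁻¹) * z⁻¹ by group, hux]
    rw [show z * x⁻¹ * z⁻¹ = (z * x * z⁻¹)⁻¹ by group, hzx, inv_inv]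

end Quad

/-- A pair of planes with its faithful group and an eigenvector. -/
structure FD (p n : ℕ) (G : Type u) [Group G] where
  z : G
  B : Subgroup G
  S : Subgroup G
  A1 : Subgroup G
  A2 : Subgroup G
  Q : Subgroup G
  q1 : G
  r1 : G
  q2 : G
  r2 : G
  x : G
  quad : Quad p n z B S A1 A2 q1 r1 q2 r2
  faith : IsFaithful p (A1 ⊓ A2) Q
  hx : x ∈ Q
  x_ne : x ≠ 1
  zx : z * x * z⁻¹ = x⁻¹
  wx : Commute (q1 * q2) x
  ux : Commute (r1 * r2) x

theorem Base.exists_generators (hS : Setting p n G) {z : G} {B S A : Subgroup G} (hb : Base p n z B S)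
    (hA : IsPlane p n B S A) : ∃ q r, q ∈ planeGroup z B S A ∧ r ∈ planeGroup z B S A ∧ q ^ 2 = z ∧
      r ^ 2 = z ∧ r * q = z * (q * r) := by
  have hn := hS.hn
  obtain ⟨-, hsq⟩ := hb.card_group_of_involution_free hA hS (hb.eq_three hS)
  obtain ⟨q, hq, hqz⟩ := hb.exists_notMem_group hA hS.hp2 (by omega)
  obtain ⟨r, hr, hqr⟩ := hb.not_central hA hS.hp2 (by omega) hq hqz
  have hrz : r ∉ zpowers z := fun h => hqr (by
    obtain ⟨i, rfl⟩ := h
    exact (hb.z_commute (hb.group_le hA hq).1).zpow_right i)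
  refine ⟨q, r, hq, hr, hsq q hq hqz, hsq r hr hrz, ?_⟩
  rcases hb.symp.comm r (hb.group_le hA hr).1 q (hb.group_le hA hq).1 with e | e
  · exact absurd (commutatorElement_eq_one_iff_commute.mp e).symm hqr
  · rw [← e, commutatorElement_def]; group

theorem exists_FD (hS : Setting p n G) {z : G} {B S A1 A2 : Subgroup G} (hb : Base p n z B S)
    (h1 : IsPlane p n B S A1) (h2 : IsPlane p n B S A2) (hne : A1 ≠ A2) :
    ∃ F : FD p n G, F.z = z ∧ F.B = B ∧ F.S = S ∧ F.A1 = A1 ∧ F.A2 = A2 := by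
  have hn := hS.hn
  obtain ⟨q1, r1, hq1, hr1, e1, e1', c1⟩ := hb.exists_generators hS h1
  obtain ⟨q2, r2, hq2, hr2, e2, e2', c2⟩ := hb.exists_generators hS h2
  have hq : Quad p n z B S A1 A2 q1 r1 q2 r2 := ⟨hb, h1, h2, hne, hq1, hr1, hq2, hr2, e1, e1', e2, e2', c1, c2⟩
  obtain ⟨-, hinf⟩ := hyperplanes_inf_sup hb.elem hb.card (by omega) h1.1 h2.1 h1.2.1 h2.2.1 hne
  obtain ⟨Q, hQ⟩ := exists_isFaithful hS.hp2 (A := A1 ⊓ A2)
    (hS.constrained hb.elem hb.card (inf_le_left.trans h1.1) (fun h => by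
      rw [h, card_bot] at hinf
      exact absurd hinf.symm (Nat.ne_of_gt (Nat.one_lt_pow (by omega) hp.out.one_lt))))
  obtain ⟨x, hx, hx1, hzx, hwx, hux⟩ := hq.exists_eigen hS hQ
  exact ⟨⟨z, B, S, A1, A2, Q, q1, r1, q2, r2, x, hq, hQ, hx, hx1, hzx, hwx, hux⟩, rfl, rfl, rfl, rfl, rfl⟩

namespace FD

variable (F : FD p n G)

/-- The intersection of the two planes. -/
def D : Subgroup G := F.A1 ⊓ F.A2
/-- The centraliser of `D` in `S`. -/
def X : Subgroup G := F.S ⊓ centralizer (F.D : Set G)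
/-- The involution `q₁ q₂`. -/
def w : G := F.q1 * F.q2
/-- The involution `r₁ r₂`. -/
def u : G := F.r1 * F.r2
/-- The translate of `x` by `q₁`. -/
def y : G := F.q1 * F.x * F.q1⁻¹
/-- The span of `x` and `y`. -/
def T : Subgroup G := zpowers F.x ⊔ zpowers F.y
/-- The derived elementary group. -/
def E : Subgroup G := F.D ⊔ F.T

variable {F} (hS : Setting p n G)
include hS

theorem D_le : F.D ≤ F.B := inf_le_left.trans F.quad.pl1.1

theorem D_elem : Cfsg.IsElementaryAbelian p F.D := elementaryAbelian_of_le F.quad.base.elem (F.D_le hS)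

theorem D_card : Nat.card F.D = p ^ (n - 2) :=
  (hyperplanes_inf_sup F.quad.base.elem F.quad.base.card (by have := hS.hn; omega) F.quad.pl1.1 F.quad.pl2.1
    F.quad.pl1.2.1 F.quad.pl2.2.1 F.quad.ne).2

theorem D_ne_bot : F.D ≠ ⊥ := fun h => by
  have := hS.hn
  have hc := F.D_card hS
  rw [h, card_bot] at hc
  exact absurd hc.symm (Nat.ne_of_gt (Nat.one_lt_pow (by omega) hp.out.one_lt))

theorem z_mem_X : F.z ∈ F.X :=
  ⟨F.quad.base.symp.zmem, centralizer_le inf_le_left (F.quad.base.z_mem_cent F.quad.pl1).2⟩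

theorem q1_mem_X : F.q1 ∈ F.X := F.quad.group_le_one hS F.quad.hq1
theorem r1_mem_X : F.r1 ∈ F.X := F.quad.group_le_one hS F.quad.hr1
theorem q2_mem_X : F.q2 ∈ F.X := F.quad.group_le_two hS F.quad.hq2
theorem r2_mem_X : F.r2 ∈ F.X := F.quad.group_le_two hS F.quad.hr2
theorem w_mem_X : F.w ∈ F.X := F.quad.w_mem hS
theorem u_mem_X : F.u ∈ F.X := F.quad.u_mem hS

theorem conj_Q {g q : G} (hg : g ∈ centralizer (F.D : Set G)) (hq : q ∈ F.Q) : g * q * g⁻¹ ∈ F.Q :=
  (mem_normalizer_iff.mp (F.faith.norm hg) q).mp hq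

theorem D_comm {g d : G} (hg : g ∈ centralizer (F.D : Set G)) (hd : d ∈ F.D) : Commute g d :=
  (mem_centralizer_iff.mp hg d hd).symm

theorem Q_le : F.Q ≤ centralizer (F.D : Set G) := F.faith.le_cent

theorem D_le_cent : F.D ≤ centralizer (F.D : Set G) := fun _ hd => mem_centralizer_iff.mpr fun _ he =>
  (commute_of_elementaryAbelian (F.D_elem hS) he hd).eq

theorem conj_z_X {g : G} (hg : g ∈ F.X) : Commute g F.z := F.quad.base.z_commute hg.1

theorem y_mem : F.y ∈ F.Q := F.conj_Q hS (F.q1_mem_X hS).2 F.hx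

theorem y_ne : F.y ≠ 1 := fun e => F.x_ne (conj_eq_one_iff.mp e)

theorem zy : F.z * F.y * F.z⁻¹ = F.y⁻¹ := by
  rw [FD.y, conj_transfer (e := F.z) (F.quad.zq1 hS).symm.eq, F.zx]; group

theorem wy : Commute F.w F.y := commute_of_conj_eq (by
  rw [FD.y, conj_transfer (a := F.w) (e := F.w) (F.quad.q1_w hS).symm.eq, conj_eq_self (a := F.w) F.wx])

theorem uy : F.u * F.y * F.u⁻¹ = F.y⁻¹ := by
  rw [FD.y, conj_transfer (a := F.u) (e := F.z * F.u) (F.quad.u_q1 hS),
    show F.z * F.u * F.x * (F.z * F.u)⁻¹ = F.z * (F.u * F.x * F.u⁻¹) * F.z⁻¹ by group,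
    conj_eq_self (a := F.u) F.ux, F.zx]
  group

theorem z_sq : F.z * F.z = 1 := F.quad.base.zz

theorem z_inv : F.z⁻¹ = F.z := inv_eq_of_mul_eq_one_right (F.z_sq hS)

theorem free {P : Subgroup G} (hP : IsPGroup p P) (hPn : centralizer (F.D : Set G) ≤ normalizer (P : Set G))
    {c : G} (hc : c ∈ P) (hcz : Commute c F.z) {s : G} (hs : s ∈ F.X) : Commute s c := by
  rw [← commutatorElement_eq_one_iff_commute]
  have hcS : c ∈ normalizer (F.S : Set G) :=
    F.quad.base.symp.norm (mem_centralizer_singleton_iff.mpr hcz.eq)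
  refine eq_one_of_coprime_of_pGroup hP ?_ (coprime_of_mem_twoGroup hS.hp2 F.quad.base.symp.pgroup ?_)
  · rw [commutatorElement_def]
    exact mul_mem ((mem_normalizer_iff.mp (hPn hs.2) c).mp hc) (inv_mem hc)
  · rw [commutatorElement_def, show s * c * s⁻¹ * c⁻¹ = s * (c * s⁻¹ * c⁻¹) by group]
    exact mul_mem hs.1 ((mem_normalizer_iff.mp hcS _).mp (inv_mem hs.1))

/-- A `z`-fixed element of `Q` commutes with `X`. -/
theorem free_Q {c : G} (hc : c ∈ F.Q) (hcz : Commute c F.z) {s : G} (hs : s ∈ F.X) : Commute s c :=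
  F.free hS F.faith.pgroup F.faith.norm hc hcz hs

theorem xy : Commute F.x F.y := by
  rw [← commutatorElement_eq_one_iff_commute]
  set c := ⁅F.x, F.y⁆ with hc
  have hcQ : c ∈ F.Q := by
    rw [hc, commutatorElement_def]
    exact mul_mem (mul_mem (mul_mem F.hx (F.y_mem hS)) (inv_mem F.hx)) (inv_mem (F.y_mem hS))
  have hk := F.faith.cls _ F.hx _ (F.y_mem hS)
  have hcz : Commute c F.z := (commute_of_conj_eq (by
    rw [hc, conj_commutatorElement, F.zx, F.zy hS,
      comm_inv_left (x := F.x) (y := F.y⁻¹) (by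
        rw [comm_inv_right (hk _ (F.y_mem hS)).symm]; exact (hk _ F.hx).symm.inv_right),
      comm_inv_right (hk _ (F.y_mem hS)).symm, inv_inv])).symm
  refine eq_one_of_inverted hS.hp2 (F.faith.exp c hcQ) (u := F.u) ?_ (F.free_Q hS hcQ hcz (F.u_mem_X hS))
  rw [hc, conj_commutatorElement, conj_eq_self (a := F.u) F.ux, F.uy hS,
    comm_inv_right (hk _ (F.y_mem hS)).symm]

theorem T_le : F.T ≤ F.Q := sup_le (zpowers_le.mpr F.hx) (zpowers_le.mpr (F.y_mem hS))

theorem T_elem : Cfsg.IsElementaryAbelian p F.T :=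
  elementary_sup_zpowers (elementary_zpowers (F.faith.exp _ F.hx)) (F.faith.exp _ (F.y_mem hS))
    (fun a ha => by obtain ⟨i, rfl⟩ := ha; exact (F.xy hS).zpow_left i)

theorem mem_T {t : G} (ht : t ∈ F.T) : ∃ i j : ℤ, t = F.x ^ i * F.y ^ j := by
  obtain ⟨a, ⟨i, hi⟩, b, ⟨j, hj⟩, rfl⟩ := mem_sup_zpowers (x := F.y)
    (fun a ha => by obtain ⟨i, rfl⟩ := ha; exact (F.xy hS).zpow_left i) ht
  exact ⟨i, j, by rw [← hi, ← hj]⟩

theorem T_inv {t : G} (ht : t ∈ F.T) : F.z * t * F.z⁻¹ = t⁻¹ := by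
  obtain ⟨i, j, rfl⟩ := F.mem_T hS ht
  rw [← conj_mul, ← conj_zpow, ← conj_zpow, F.zx, F.zy hS, inv_zpow, inv_zpow, ← mul_inv_rev,
    ((F.xy hS).zpow_zpow i j).eq]

theorem T_w {t : G} (ht : t ∈ F.T) : Commute F.w t := by
  obtain ⟨i, j, rfl⟩ := F.mem_T hS ht
  exact ((F.wx : Commute F.w F.x).zpow_right i).mul_right ((F.wy hS).zpow_right j)

theorem T_u {t : G} (ht : t ∈ F.T) (htu : Commute F.u t) : t ∈ zpowers F.x := by
  obtain ⟨i, j, rfl⟩ := F.mem_T hS ht
  have h1 : Commute F.u (F.y ^ j) := by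
    have := ((F.ux : Commute F.u F.x).zpow_right i).inv_right.mul_right htu
    rwa [inv_mul_cancel_left] at this
  have : F.y ^ j = 1 := eq_one_of_inverted hS.hp2 (F.faith.exp _ (zpow_mem (F.y_mem hS) j))
    (by rw [← conj_zpow, F.uy hS, inv_zpow]) h1
  rw [this, mul_one]
  exact ⟨i, rfl⟩

theorem D_T_comm {d t : G} (hd : d ∈ F.D) (ht : t ∈ F.T) : Commute d t :=
  (F.D_comm hS (F.Q_le hS (F.T_le hS ht)) hd).symm

theorem E_elem : Cfsg.IsElementaryAbelian p F.E :=
  elementary_sup (F.D_elem hS) (F.T_elem hS) fun _ hd _ ht => F.D_T_comm hS hd ht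

theorem mem_E {e : G} (he : e ∈ F.E) : ∃ d ∈ F.D, ∃ t ∈ F.T, e = d * t := by
  obtain ⟨d, hd, t, ht, h⟩ := (Coprime.mem_sup_iff (show F.T ≤ normalizer (F.D : Set G) from
    ((F.T_le hS).trans (F.Q_le hS)).trans (centralizer_le_normalizer _))).mp he
  exact ⟨d, hd, t, ht, h.symm⟩

theorem z_D {d : G} (hd : d ∈ F.D) : Commute F.z d := (F.quad.base.z_commute_B (F.D_le hS hd)).symm

theorem w_sq : F.w * F.w = 1 := by rw [← pow_two]; exact F.quad.w_sq hS

theorem w_order : orderOf F.w = 2 := F.quad.w_order hS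

theorem E_w {e : G} (he : e ∈ F.E) : Commute e F.w := by
  obtain ⟨d, hd, t, ht, rfl⟩ := F.mem_E hS he
  exact ((F.D_comm hS (F.w_mem_X hS).2 hd).symm).mul_left (F.T_w hS ht).symm

theorem eq_one_of_mem_D_T {d : G} (hd : d ∈ F.D) (hdT : d ∈ F.T) : d = 1 :=
  eq_one_of_inverted hS.hp2 ((F.D_elem hS).2 d hd) (F.T_inv hS hdT) (F.z_D hS hd)

theorem E_card : Nat.card F.E = p ^ n := by
  refine le_antisymm (H47.Sympl.rank_bound hS.hmax (F.w_order hS) (F.E_elem hS) fun e he => F.E_w hS he) ?_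
  have hP := isPGroup_of_elementaryAbelian (F.E_elem hS)
  have h1 : F.D ⊔ zpowers F.x ≤ F.E := sup_le_sup_left le_sup_left _
  have hx : F.x ∉ F.D := fun h => F.x_ne (F.eq_one_of_mem_D_T hS h (mem_sup_left (mem_zpowers _)))
  have hy : F.y ∉ F.D ⊔ zpowers F.x := fun h => F.y_ne hS (by
    have hu : Commute F.u F.y := (commute_sup (fun d hd => (F.D_comm hS (F.u_mem_X hS).2 hd).symm)
      (fun a ha => by obtain ⟨i, rfl⟩ := ha; exact (F.ux : Commute F.u F.x).symm.zpow_left i) F.y h).symm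
    exact eq_one_of_inverted hS.hp2 (F.faith.exp _ (F.y_mem hS)) (F.uy hS) hu)
  calc p ^ n = Nat.card F.D * p * p := by
        rw [F.D_card hS, ← pow_succ, ← pow_succ]; congr 1; have := hS.hn; omega
    _ ≤ Nat.card ↥(F.D ⊔ zpowers F.x) * p := Nat.mul_le_mul_right p
        (card_mul_le (hP.to_le h1) le_sup_left (mem_sup_right (mem_zpowers _)) hx)
    _ ≤ _ := card_mul_le hP h1 (mem_sup_right (mem_sup_right (mem_zpowers _))) hy

theorem mem_E_of_commute {c : G} (hc : c ∈ F.Q) (hcw : Commute c F.w) (hcx : Commute c F.x)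
    (hcy : Commute c F.y) : c ∈ F.E := by
  by_contra h
  refine H47.Sympl.no_extension hS.hmax (F.w_order hS) (F.E_elem hS) (fun e he => F.E_w hS he)
    (F.E_card hS).ge (F.faith.exp c hc) (fun e he => ?_) hcw h
  obtain ⟨d, hd, t, ht, rfl⟩ := F.mem_E hS he
  obtain ⟨i, j, rfl⟩ := F.mem_T hS ht
  exact (F.D_comm hS (F.Q_le hS hc) hd).symm.mul_left ((hcx.symm.zpow_left i).mul_left (hcy.symm.zpow_left j))

/-- The elements of `Q` fixed by `z` lie in `D`. -/
theorem fixed_mem_D {c : G} (hc : c ∈ F.Q) (hcz : Commute c F.z) : c ∈ F.D := by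
  have hX := fun {s : G} (hs : s ∈ F.X) => F.free_Q hS hc hcz hs
  have hcx : Commute c F.x := by
    set k := ⁅c, F.x⁆ with hk
    have hkQ : k ∈ F.Q := by
      rw [hk, commutatorElement_def]
      exact mul_mem (mul_mem (mul_mem hc F.hx) (inv_mem hc)) (inv_mem F.hx)
    have hkc := F.faith.cls c hc _ F.hx
    have hku : Commute F.u k := commute_of_conj_eq (by
      rw [hk, conj_commutatorElement, conj_eq_self (hX (F.u_mem_X hS)), conj_eq_self (a := F.u) F.ux])
    have hkw : Commute F.w k := commute_of_conj_eq (by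
      rw [hk, conj_commutatorElement, conj_eq_self (hX (F.w_mem_X hS)), conj_eq_self (a := F.w) F.wx])
    have hkz : F.z * k * F.z⁻¹ = k⁻¹ := by
      rw [hk, conj_commutatorElement, conj_eq_self hcz.symm, F.zx, comm_inv_right (hkc _ F.hx).symm]
    have hkE := F.mem_E_of_commute hS hkQ hkw.symm (hkc _ F.hx) (hkc _ (F.y_mem hS))
    obtain ⟨d, hd, t, ht, hdt⟩ := F.mem_E hS hkE
    have hd1 : d = 1 := by
      refine eq_one_of_inverted hS.hp2 ((F.D_elem hS).2 d hd) (u := F.z) ?_ (F.z_D hS hd)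
      rw [hdt, ← conj_mul, F.T_inv hS ht, mul_inv_rev] at hkz
      exact mul_right_cancel (hkz.trans (F.D_T_comm hS hd ht).inv_inv.eq.symm)
    rw [hd1, one_mul] at hdt
    have htu : Commute F.u t := hdt ▸ hku
    have htx := F.T_u hS ht htu
    rw [← commutatorElement_eq_one_iff_commute]
    by_contra hk1
    have hzp : zpowers k = zpowers F.x := eq_of_le_of_card_ge (zpowers_le.mpr (hdt ▸ htx)) (by
      rw [Nat.card_zpowers, Nat.card_zpowers, orderOf_eq_prime (F.faith.exp _ F.hx) F.x_ne,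
        orderOf_eq_prime (F.faith.exp _ hkQ) hk1])
    obtain ⟨i, hi⟩ := hzp.ge (mem_zpowers F.x)
    exact hk1 (commutatorElement_eq_one_iff_commute.mpr (hi ▸ ((hkc _ hc).symm.zpow_right i)))
  have hcy : Commute c F.y := by
    have h1 : Commute c F.q1 := (hX (F.q1_mem_X hS)).symm
    exact ((h1.mul_right hcx).mul_right h1.inv_right)
  obtain ⟨d, hd, t, ht, rfl⟩ := F.mem_E hS (F.mem_E_of_commute hS hc (hX (F.w_mem_X hS)).symm hcx hcy)
  have htz : Commute F.z t := by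
    have := (F.z_D hS hd).inv_right.mul_right hcz.symm
    rwa [inv_mul_cancel_left] at this
  rw [eq_one_of_inverted hS.hp2 ((F.T_elem hS).2 t ht) (F.T_inv hS ht) htz, mul_one]
  exact hd

/-- `Q` is the product of `Q ⊓ D` and the elements inverted by `z`. -/
theorem decomp {q : G} (hq : q ∈ F.Q) :
    ∃ d ∈ F.D, d ∈ F.Q ∧ ∃ t ∈ F.Q, F.z * t * F.z⁻¹ = t⁻¹ ∧ q = d * t := by
  obtain ⟨k, hk⟩ := hp.out.odd_of_ne_two hS.hp2
  have hzq : F.z * q * F.z⁻¹ ∈ F.Q := F.conj_Q hS (F.z_mem_X hS).2 hq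
  set v := q⁻¹ * (F.z * q * F.z⁻¹) with hv
  have hvQ : v ∈ F.Q := mul_mem (inv_mem hq) hzq
  have hvz : F.z * v * F.z⁻¹ = v⁻¹ := by
    rw [hv, F.z_inv hS]
    simp only [mul_inv_rev, inv_inv, F.z_inv hS]
    calc F.z * (q⁻¹ * (F.z * q * F.z)) * F.z = F.z * q⁻¹ * F.z * q * (F.z * F.z) := by group
      _ = _ := by rw [F.z_sq hS]; group
  set t := v ^ (k + 1) with ht
  have htQ : t ∈ F.Q := pow_mem hvQ _
  have htt : t * t = v := by
    rw [ht, ← pow_add, show k + 1 + (k + 1) = p + 1 by omega, pow_succ, F.faith.exp v hvQ, one_mul]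
  have htz : F.z * t * F.z⁻¹ = t⁻¹ := by rw [ht, ← conj_pow, hvz, inv_pow]
  have hqt : F.z * (q * t) * F.z⁻¹ = q * t := by
    rw [← conj_mul, htz, show F.z * q * F.z⁻¹ = q * v by rw [hv, mul_inv_cancel_left], ← htt]; group
  refine ⟨q * t, F.fixed_mem_D hS (mul_mem hq htQ) (commute_of_conj_eq hqt).symm, mul_mem hq htQ,
    t⁻¹, inv_mem htQ, ?_, by group⟩
  rw [← conj_inv, htz]

theorem comm_mem_D {a b : G} (ha : a ∈ F.Q) (hb : b ∈ F.Q) : ⁅a, b⁆ ∈ F.D := by
  obtain ⟨d, hd, -, t, ht, htz, rfl⟩ := F.decomp hS ha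
  obtain ⟨d', hd', -, t', ht', ht'z, rfl⟩ := F.decomp hS hb
  have h1 : ∀ {s}, s ∈ F.Q → Commute d s := fun hs => (F.D_comm hS (F.Q_le hS hs) hd).symm
  have h2 : ∀ {s}, s ∈ F.Q → Commute d' s := fun hs => (F.D_comm hS (F.Q_le hS hs) hd').symm
  have hdd : Commute d d' := commute_of_elementaryAbelian (F.D_elem hS) hd hd'
  have e : ⁅d * t, d' * t'⁆ = ⁅t, t'⁆ := by
    calc ⁅d * t, d' * t'⁆ = d * (t * d') * t' * t⁻¹ * d⁻¹ * t'⁻¹ * d'⁻¹ := by
          simp only [commutatorElement_def]; group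
      _ = d * (d' * t) * t' * t⁻¹ * (d⁻¹ * t'⁻¹) * d'⁻¹ := by rw [← (h2 ht).eq]; group
      _ = d * d' * (t * t' * t⁻¹ * t'⁻¹) * (d⁻¹ * d'⁻¹) := by rw [(h1 (inv_mem ht')).inv_left.eq]; group
      _ = (t * t' * t⁻¹ * t'⁻¹) * (d * d') * (d⁻¹ * d'⁻¹) := by
        rw [((h1 (mul_mem (mul_mem (mul_mem ht ht') (inv_mem ht)) (inv_mem ht'))).mul_left
          (h2 (mul_mem (mul_mem (mul_mem ht ht') (inv_mem ht)) (inv_mem ht')))).eq]
      _ = _ := by rw [hdd.eq, commutatorElement_def]; group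
  rw [e]
  have hk := F.faith.cls t ht t' ht'
  refine F.fixed_mem_D hS ?_ (commute_of_conj_eq ?_).symm
  · rw [commutatorElement_def]
    exact mul_mem (mul_mem (mul_mem ht ht') (inv_mem ht)) (inv_mem ht')
  · rw [conj_commutatorElement, htz, ht'z,
      comm_inv_left (x := t) (y := t'⁻¹) (by rw [comm_inv_right (hk _ ht').symm]; exact (hk _ ht).symm.inv_right),
      comm_inv_right (hk _ ht').symm, inv_inv]

omit hS in
/-- The elements of `C(D)` acting trivially on `Q` modulo `D`. -/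
def kset (F : FD p n G) : Subgroup G where
  carrier := {g | g ∈ centralizer (F.D : Set G) ∧ ∀ q ∈ F.Q, ⁅g, q⁆ ∈ F.D}
  one_mem' := ⟨one_mem _, fun q _ => by simp⟩
  mul_mem' := fun {g h} hg hh => ⟨mul_mem hg.1 hh.1, fun q hq => by
    rw [show ⁅g * h, q⁆ = g * ⁅h, q⁆ * g⁻¹ * ⁅g, q⁆ by simp only [commutatorElement_def]; group,
      ← mem_centralizer_iff.mp hg.1 _ (hh.2 q hq), mul_inv_cancel_right]
    exact mul_mem (hh.2 q hq) (hg.2 q hq)⟩
  inv_mem' := fun {g} hg => ⟨inv_mem hg.1, fun q hq => by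
    rw [show ⁅g⁻¹, q⁆ = g⁻¹ * ⁅g, q⁆⁻¹ * g by simp only [commutatorElement_def]; group, mul_assoc,
      mem_centralizer_iff.mp hg.1 _ (inv_mem (hg.2 q hq)), inv_mul_cancel_left]
    exact inv_mem (hg.2 q hq)⟩

theorem kset_conj {c g : G} (hc : c ∈ centralizer (F.D : Set G)) (hg : g ∈ F.kset) :
    c * g * c⁻¹ ∈ F.kset := ⟨mul_mem (mul_mem hc hg.1) (inv_mem hc), fun q hq => by
  have h := hg.2 _ (F.conj_Q hS (inv_mem hc) hq)
  rw [show ⁅c * g * c⁻¹, q⁆ = c * ⁅g, c⁻¹ * q * c⁻¹⁻¹⁆ * c⁻¹ by simp only [commutatorElement_def]; group,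
    conj_eq_self (F.D_comm hS hc h)]
  exact h⟩

theorem cent_le_normalizer_kset : centralizer (F.D : Set G) ≤ normalizer (F.kset : Set G) := fun c hc =>
  mem_normalizer_iff.mpr fun x => ⟨F.kset_conj hS hc, fun h => by
    simpa [mul_assoc] using F.kset_conj hS (inv_mem hc) h⟩

theorem kset_pgroup : IsPGroup p F.kset := isPGroup_of_forall_coprime fun g hg hcop =>
  F.faith.faith g hg.1 hcop fun q hq => commute_of_fixed_error (d := ⁅g, q⁆) (k := 1) hcop
    (by rw [pow_one]; exact (F.D_elem hS).2 _ (hg.2 q hq)) (F.D_comm hS hg.1 (hg.2 q hq))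
    (by simp only [commutatorElement_def]; group)

theorem mem_kset_of_inverted {g : G} (hg : g ∈ centralizer (F.D : Set G)) (hgz : F.z * g * F.z⁻¹ = g⁻¹)
    (hodd : (orderOf g).Coprime 2) : g ∈ F.kset := by
  have key : g ^ 2 ∈ F.kset := by
    refine ⟨pow_mem hg 2, fun q hq => ?_⟩
    obtain ⟨d, hd, -, t, ht, htz, rfl⟩ := F.decomp hS hq
    obtain ⟨d', hd', -, t', ht', ht'z, hgt⟩ := F.decomp hS (F.conj_Q hS hg ht)
    have hd't' : Commute d' t' := (F.D_comm hS (F.Q_le hS ht') hd').symm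
    have hstep : g⁻¹ * t * g = t' * d'⁻¹ := by
      have h := congrArg (fun s => F.z * s * F.z⁻¹) hgt
      simp only [← conj_mul, conj_eq_self (F.z_D hS hd'), ht'z, hgz, htz, ← conj_inv] at h
      have := congrArg Inv.inv h
      simpa [mul_assoc] using this
    have h2 : g ^ 2 * t * (g ^ 2)⁻¹ = d' * d' * t := by
      have e : g * t * g⁻¹ = d' * d' * (g⁻¹ * t * g) := by
        rw [hgt, hstep, ← hd't'.inv_left.eq]; group
      calc g ^ 2 * t * (g ^ 2)⁻¹ = g * (g * t * g⁻¹) * g⁻¹ := by rw [pow_two]; group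
        _ = (g * (d' * d') * g⁻¹) * t := by rw [e]; group
        _ = _ := by rw [conj_eq_self ((F.D_comm hS hg hd').mul_right (F.D_comm hS hg hd'))]
    rw [show ⁅g ^ 2, d * t⁆ = (g ^ 2 * d * (g ^ 2)⁻¹) * (g ^ 2 * t * (g ^ 2)⁻¹) * t⁻¹ * d⁻¹ by
      simp only [commutatorElement_def]; group, conj_eq_self (F.D_comm hS (pow_mem hg 2) hd), h2]
    rw [show d * (d' * d' * t) * t⁻¹ * d⁻¹ = d * (d' * d') * d⁻¹ by group]
    exact mul_mem (mul_mem hd (mul_mem hd' hd')) (inv_mem hd)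
  obtain ⟨m, hm⟩ := exists_pow_eq_self_of_coprime (Nat.coprime_comm.mp hodd)
  exact hm ▸ pow_mem key m

omit hS in
theorem map_conj_isPlane {w : G} {E S' A : Subgroup G} (hb : Base p n w E S') (hA : IsPlane p n E S' A)
    {g : G} (hgw : Commute g w) (hgE : g ∈ normalizer (E : Set G)) :
    IsPlane p n E S' (A.map (MulAut.conj g).toMonoidHom) := by
  refine ⟨?_, by rw [card_map_of_injective (MulAut.conj g).injective]; exact hA.2.1, fun hle => hA.2.2 ?_⟩
  · rintro _ ⟨a, ha, rfl⟩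
    exact (mem_normalizer_iff.mp hgE a).mp (hA.1 ha)
  intro c hc
  have hgS := hb.symp.norm (mem_centralizer_singleton_iff.mpr hgw.eq)
  have h' := hle (⟨(mem_normalizer_iff.mp hgS c).mp hc.1, mem_centralizer_iff.mpr fun _ ⟨a, ha, e⟩ => by
    rw [← e]
    show g * a * g⁻¹ * (g * c * g⁻¹) = g * c * g⁻¹ * (g * a * g⁻¹)
    rw [conj_mul, conj_mul, mem_centralizer_iff.mp hc.2 a ha]⟩ :
      g * c * g⁻¹ ∈ S' ⊓ centralizer ((A.map (MulAut.conj g).toMonoidHom : Subgroup G) : Set G))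
  refine mem_centralizer_iff.mpr fun e he => ?_
  have := mem_centralizer_iff.mp h' (g * e * g⁻¹) ((mem_normalizer_iff.mp hgE e).mp he)
  rw [conj_mul, conj_mul] at this
  exact mul_left_cancel (mul_right_cancel this)

/-- The derived base at the involution `w`. -/
theorem exists_derived : ∃ S', Base p n F.w F.E S' := by
  have hEw : F.E ≤ centralizer ({F.w} : Set G) := fun e he => mem_centralizer_singleton_iff.mpr (F.E_w hS he).eq
  obtain ⟨S', h⟩ := exists_charSympl hS (F.w_order hS) (F.E_elem hS) (F.E_card hS) hEw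
  exact ⟨S', F.w_order hS, F.E_elem hS, F.E_card hS, hEw, h⟩

/-- No derived plane contains `D`. -/
theorem not_D_le {S' A : Subgroup G} (hb : Base p n F.w F.E S') (hA : IsPlane p n F.E S' A) :
    ¬ F.D ≤ A := by
  intro hDA
  refine hA.2.2 fun s hs => ?_
  have hsD : s ∈ centralizer (F.D : Set G) := centralizer_le hDA hs.2
  have key : ∀ t ∈ F.T, Commute s t := fun t ht => by
    rw [← commutatorElement_eq_one_iff_commute]
    refine eq_one_of_coprime_of_pGroup F.faith.pgroup ?_ (coprime_of_mem_twoGroup hS.hp2 hb.symp.pgroup ?_)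
    · rw [commutatorElement_def]
      exact mul_mem (F.conj_Q hS hsD (F.T_le hS ht)) (inv_mem (F.T_le hS ht))
    · rw [commutatorElement_def, show s * t * s⁻¹ * t⁻¹ = s * (t * s⁻¹ * t⁻¹) by group]
      exact mul_mem hs.1 ((mem_normalizer_iff.mp (hb.symp.norm (mem_centralizer_singleton_iff.mpr
        (F.T_w hS ht).eq.symm)) _).mp (inv_mem hs.1))
  refine mem_centralizer_iff.mpr fun e he => ?_
  obtain ⟨d, hd, t, ht, rfl⟩ := F.mem_E hS he
  exact ((F.D_comm hS hsD hd).mul_right (key t ht)).eq.symm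

theorem sup_D_eq {S' A : Subgroup G} (hb : Base p n F.w F.E S') (hA : IsPlane p n F.E S' A) :
    A ⊔ F.D = F.E := by
  obtain ⟨d, hd, hdA⟩ := SetLike.not_le_iff_exists.mp (F.not_D_le hS hb hA)
  refine le_antisymm (sup_le hA.1 le_sup_left) ?_
  rw [← hb.sup_zpowers_eq hA (mem_sup_left hd) hdA (by have := hS.hn; omega)]
  exact sup_le_sup_left (zpowers_le.mpr hd) A

theorem q1_normalizer : F.q1 ∈ normalizer (F.E : Set G) ∧ F.z ∈ normalizer (F.E : Set G) := by
  have hz : ∀ e ∈ F.E, F.z * e * F.z⁻¹ ∈ F.E := fun e he => by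
    obtain ⟨d, hd, t, ht, rfl⟩ := F.mem_E hS he
    rw [← conj_mul, conj_eq_self (F.z_D hS hd), F.T_inv hS ht]
    exact mul_mem (mem_sup_left hd) (mem_sup_right (inv_mem ht))
  have hq : ∀ e ∈ F.E, F.q1 * e * F.q1⁻¹ ∈ F.E := fun e he => by
    obtain ⟨d, hd, t, ht, rfl⟩ := F.mem_E hS he
    obtain ⟨i, j, rfl⟩ := F.mem_T hS ht
    rw [← conj_mul, ← conj_mul, ← conj_zpow, ← conj_zpow, conj_eq_self (F.D_comm hS (F.q1_mem_X hS).2 hd)]
    have hy : F.q1 * F.y * F.q1⁻¹ = F.x⁻¹ := by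
      rw [← F.zx, ← F.quad.q1sq, FD.y, pow_two]; group
    rw [hy]
    exact mul_mem (mem_sup_left hd) (mem_sup_right (mul_mem (zpow_mem (mem_sup_right (mem_zpowers F.y)) i)
      (zpow_mem (inv_mem (mem_sup_left (mem_zpowers F.x))) j)))
  have mk : ∀ g : G, (∀ e ∈ F.E, g * e * g⁻¹ ∈ F.E) → g ∈ normalizer (F.E : Set G) := fun g hg => by
    have hmap : F.E.map (MulAut.conj g).toMonoidHom = F.E := eq_of_le_of_card_ge
      (by rintro _ ⟨e, he, rfl⟩; exact hg e he) (card_map_of_injective (MulAut.conj g).injective).ge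
    exact Components.mem_normalizer_of_map_conj_eq hmap
  exact ⟨mk _ hq, mk _ hz⟩

/-- Neither `z` nor `q₁` normalises a derived plane avoiding `x`. -/
theorem not_normalized {S' A : Subgroup G} (hb : Base p n F.w F.E S') (hA : IsPlane p n F.E S' A)
    (hxA : F.x ∉ A) :
    F.z ∉ normalizer (A : Set G) ∧ F.q1 ∉ normalizer (A : Set G) := by
  have main : ∀ g : G, g ∈ centralizer (F.D : Set G) → g ∈ normalizer (A : Set G) →
      ∀ t ∈ F.T, g * t * g⁻¹ * t⁻¹ ∈ A := by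
    intro g hg hgA t ht
    have hte : t ∈ A ⊔ F.D := F.sup_D_eq hS hb hA ▸ mem_sup_right ht
    have hAN : F.D ≤ normalizer (A : Set G) := fun d hd => centralizer_le_normalizer _
      (mem_centralizer_iff.mpr fun a ha =>
        (commute_of_elementaryAbelian hb.elem (hA.1 ha) (mem_sup_left hd)).eq)
    obtain ⟨a, ha, d, hd, rfl⟩ := (Coprime.mem_sup_iff hAN).mp hte
    rw [← conj_mul, conj_eq_self (F.D_comm hS hg hd),
      show g * a * g⁻¹ * d * (a * d)⁻¹ = g * a * g⁻¹ * a⁻¹ by group]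
    exact mul_mem ((mem_normalizer_iff.mp hgA a).mp ha) (inv_mem ha)
  have hxT : F.x ∈ F.T := mem_sup_left (mem_zpowers _)
  have hyT : F.y ∈ F.T := mem_sup_right (mem_zpowers _)
  obtain ⟨k, hk⟩ := hp.out.odd_of_ne_two hS.hp2
  have hhalf : F.x⁻¹ * F.x⁻¹ ∈ A → False := fun h => hxA (by
    have := pow_mem (inv_mem h) (k + 1)
    rwa [mul_inv_rev, inv_inv, ← pow_two, ← pow_mul, show 2 * (k + 1) = p + 1 by omega, pow_succ,
      F.faith.exp _ F.hx, one_mul] at this)
  refine ⟨fun h => hhalf ?_, fun h => hhalf ?_⟩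
  · have := main F.z (F.z_mem_X hS).2 h F.x hxT
    rwa [F.zx] at this
  · have h1 := main F.q1 (F.q1_mem_X hS).2 h F.x hxT
    have h2 := main F.q1 (F.q1_mem_X hS).2 h F.y hyT
    have hy : F.q1 * F.y * F.q1⁻¹ = F.x⁻¹ := by
      rw [← F.zx, ← F.quad.q1sq, FD.y, pow_two]; group
    rw [← FD.y] at h1
    rw [hy] at h2
    have := mul_mem h1 h2
    rwa [show F.y * F.x⁻¹ * (F.x⁻¹ * F.y⁻¹) = F.y * (F.x⁻¹ * F.x⁻¹) * F.y⁻¹ by group,
      conj_eq_self ((F.xy hS).symm.inv_right.mul_right (F.xy hS).symm.inv_right)] at this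

theorem exists_derived_plane {S' : Subgroup G} (hb : Base p n F.w F.E S') :
    ∃ A, IsPlane p n F.E S' A ∧ F.x ∉ A :=
  hb.exists_plane hS.hp2 (by have := hS.hn; omega) (mem_sup_right (mem_sup_left (mem_zpowers _))) F.x_ne

omit hS in
theorem conj_conj_map (g h : G) (A : Subgroup G) :
    (A.map (MulAut.conj h).toMonoidHom).map (MulAut.conj g).toMonoidHom =
      A.map (MulAut.conj (g * h)).toMonoidHom := by
  rw [map_map, map_mul]; rfl

theorem q1_conj_ne {S' A : Subgroup G} (hb : Base p n F.w F.E S') (hA : IsPlane p n F.E S' A)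
    (hxA : F.x ∉ A) {i j : ℕ} (hij : i < j) (hj : j < 4) :
    A.map (MulAut.conj (F.q1 ^ i)).toMonoidHom ≠ A.map (MulAut.conj (F.q1 ^ j)).toMonoidHom := by
  intro e
  obtain ⟨hnz, hnq⟩ := F.not_normalized hS hb hA hxA
  have h1 := congrArg (Subgroup.map (MulAut.conj (F.q1 ^ i)⁻¹).toMonoidHom) e
  rw [FD.conj_conj_map, FD.conj_conj_map, inv_mul_cancel, map_one,
    show (F.q1 ^ i)⁻¹ * F.q1 ^ j = F.q1 ^ (j - i) by rw [inv_mul_eq_iff_eq_mul, ← pow_add]; congr 1; omega] at h1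
  rw [show (1 : MulAut G).toMonoidHom = MonoidHom.id G from rfl, map_id] at h1
  have hN : F.q1 ^ (j - i) ∈ normalizer (A : Set G) := Components.mem_normalizer_of_map_conj_eq h1.symm
  have hd : j - i = 1 ∨ j - i = 2 ∨ j - i = 3 := by omega
  rcases hd with e' | e' | e' <;> rw [e'] at hN
  · exact hnq (by simpa using hN)
  · exact hnz (F.quad.q1sq ▸ hN)
  · refine hnq ?_
    have h4 : F.q1 ^ 4 = 1 := by rw [show (4:ℕ) = 2 * 2 from rfl, pow_mul, F.quad.q1sq, pow_two, F.z_sq hS]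
    have := inv_mem hN
    rwa [show (F.q1 ^ 3)⁻¹ = F.q1 from inv_eq_of_mul_eq_one_right (by rw [← pow_succ, h4])] at this

theorem not_four_le (F : FD p n G) (hn4 : 4 ≤ n) : False := by
  haveI : Fact (Nat.Prime 2) := ⟨Nat.prime_two⟩
  obtain ⟨S', hb⟩ := F.exists_derived hS
  obtain ⟨A, hA, hxA⟩ := F.exists_derived_plane hS hb
  let P : ℕ → Subgroup G := fun i => A.map (MulAut.conj (F.q1 ^ i)).toMonoidHom
  have hqw : Commute F.q1 F.w := F.quad.q1_w hS
  have hP : ∀ i, IsPlane p n F.E S' (P i) := fun i =>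
    FD.map_conj_isPlane hb hA (hqw.pow_left i) (pow_mem (F.q1_normalizer hS).1 i)
  have hne : ∀ i j, i < j → j < 4 → P i ≠ P j := fun i j => F.q1_conj_ne hS hb hA hxA
  have hgen : ∀ i, ∃ q r, q ∈ planeGroup F.w F.E S' (P i) ∧ r ∈ planeGroup F.w F.E S' (P i) ∧
      q ^ 2 = F.w ∧ r ^ 2 = F.w ∧ r * q = F.w * (q * r) := fun i => hb.exists_generators hS (hP i)
  choose q r hq hr hqs hrs hrq using hgen
  have hcross : ∀ {i j}, i ≠ j → i < 4 → j < 4 → ∀ {a c}, a ∈ planeGroup F.w F.E S' (P i) →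
      c ∈ planeGroup F.w F.E S' (P j) → Commute a c := by
    intro i j hij hi hj a c ha hc
    refine hb.commute_planes (hP i) (hP j).1 (hP j).2.1 ?_ (by have := hS.hn; omega) ha (hb.group_le (hP j) hc)
    rcases lt_or_gt_of_ne hij with h | h
    exacts [hne i j h hj, (hne j i h hi).symm]
  have hzg : ∀ {i a}, a ∈ planeGroup F.w F.E S' (P i) → Commute a F.w :=
    fun {i a} ha => hb.z_commute (hb.group_le (hP i) ha).1
  have hnc : ∀ i, ¬ Commute (r i) (q i) := fun i h => hb.z_ne_one (by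
    have := hrq i
    rw [h.eq] at this
    exact mul_eq_right.mp this.symm)
  set K := F.D ⊓ A with hK
  have hKc : ∀ i a, a ∈ planeGroup F.w F.E S' (P i) → a ∈ centralizer (K : Set G) := fun i a ha =>
    mem_centralizer_iff.mpr fun k hk => mem_centralizer_iff.mp (hb.group_le (hP i) ha).2 k
      ⟨k, hk.2, by
        show F.q1 ^ i * k * (F.q1 ^ i)⁻¹ = k
        exact conj_eq_self (F.D_comm hS (pow_mem (F.q1_mem_X hS).2 i) hk.1)⟩
  have hww : F.w ∈ centralizer (K : Set G) := centralizer_le inf_le_left (F.w_mem_X hS).2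
  have qq : ∀ {i j}, i ≠ j → i < 4 → j < 4 → Commute (q i) (q j) := fun h hi hj => hcross h hi hj (hq _) (hq _)
  have h1 := elementary_zpowers (q := 2) (show F.w ^ 2 = 1 by rw [pow_two]; exact F.w_sq hS)
  have hsq2 : ∀ j, j < 4 → 0 ≠ j → (q 0 * q j) ^ 2 = 1 := fun j hj h0 => by
    rw [(qq h0 (by norm_num) hj).mul_pow, hqs, hqs, F.w_sq hS]
  have qcomm : ∀ i, i < 4 → ∀ j, j < 4 → Commute (q i) (q j) := fun i hi j hj => by
    by_cases h : i = j
    exacts [h ▸ Commute.refl _, qq h hi hj]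
  have hzp : ∀ {a c : G}, Commute a c → ∀ t ∈ zpowers a, Commute t c := fun hac t ht => by
    obtain ⟨i, rfl⟩ := ht; exact hac.zpow_left i
  have hwq : ∀ i, Commute F.w (q i) := fun i => (hzg (hq i)).symm
  have h2 := elementary_sup_zpowers h1 (hsq2 1 (by norm_num) (by norm_num))
    (hzp ((hwq 0).mul_right (hwq 1)))
  have c3 := commute_sup (hzp ((hwq 0).mul_right (hwq 2)))
    (hzp (c := q 0 * q 2) (((qcomm 0 (by norm_num) 0 (by norm_num)).mul_left (qcomm 1 (by norm_num) 0 (by norm_num))).mul_right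
      ((qcomm 0 (by norm_num) 2 (by norm_num)).mul_left (qcomm 1 (by norm_num) 2 (by norm_num)))))
  have h3 := elementary_sup_zpowers h2 (hsq2 2 (by norm_num) (by norm_num)) c3
  have pairc : ∀ i j, i < 4 → j < 4 → Commute (q 0 * q i) (q 0 * q j) := fun i j hi hj =>
    ((qcomm 0 (by norm_num) 0 (by norm_num)).mul_left (qcomm i hi 0 (by norm_num))).mul_right
      ((qcomm 0 (by norm_num) j hj).mul_left (qcomm i hi j hj))
  have c4 := commute_sup (commute_sup (hzp ((hwq 0).mul_right (hwq 3))) (hzp (pairc 1 3 (by norm_num) (by norm_num))))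
    (hzp (pairc 2 3 (by norm_num) (by norm_num)))
  have h4 := elementary_sup_zpowers h3 (hsq2 3 (by norm_num) (by norm_num)) c4
  set R := r 0 * r 1 * r 2 * r 3 with hR
  have rr : ∀ {i j}, i ≠ j → i < 4 → j < 4 → Commute (r i) (r j) := fun h hi hj => hcross h hi hj (hr _) (hr _)
  have hRsq : R ^ 2 = 1 := by
    rw [hR, (((rr (by norm_num) (by norm_num) (by norm_num)).mul_left (rr (by norm_num) (by norm_num) (by norm_num))).mul_left
        (rr (by norm_num : (2:ℕ) ≠ 3) (by norm_num) (by norm_num))).mul_pow,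
      ((rr (by norm_num) (by norm_num) (by norm_num)).mul_left (rr (by norm_num : (1:ℕ) ≠ 2) (by norm_num) (by norm_num))).mul_pow,
      (rr (by norm_num : (0:ℕ) ≠ 1) (by norm_num) (by norm_num)).mul_pow, hrs, hrs, hrs, hrs,
      F.w_sq hS, one_mul, F.w_sq hS]
  -- `R` anticommutes with each `q i`
  have hRq : ∀ i, i < 4 → R * q i = F.w * (q i * R) := by
    intro i hi
    have rq : ∀ j, j ≠ i → j < 4 → Commute (r j) (q i) := fun j hj hj4 => hcross hj hj4 hi (hr j) (hq i)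
    have wr : ∀ j, Commute (r j) F.w := fun j => hzg (hr j)
    interval_cases i
    · calc R * q 0 = r 0 * (r 1 * r 2 * r 3 * q 0) := by rw [hR]; group
        _ = (r 0 * q 0) * (r 1 * r 2 * r 3) := by
          rw [(((rq 1 (by norm_num) (by norm_num)).mul_left (rq 2 (by norm_num) (by norm_num))).mul_left
            (rq 3 (by norm_num) (by norm_num))).eq, ← mul_assoc]
        _ = _ := by rw [hrq, hR]; group
    · calc R * q 1 = r 0 * (r 1 * (r 2 * r 3 * q 1)) := by rw [hR]; group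
        _ = r 0 * (r 1 * q 1) * (r 2 * r 3) := by
          rw [((rq 2 (by norm_num) (by norm_num)).mul_left (rq 3 (by norm_num) (by norm_num))).eq]; group
        _ = (r 0 * F.w) * q 1 * r 1 * (r 2 * r 3) := by rw [hrq]; group
        _ = F.w * (r 0 * q 1) * r 1 * (r 2 * r 3) := by rw [(wr 0).eq]; group
        _ = _ := by rw [(rq 0 (by norm_num) (by norm_num)).eq, hR]; group
    · calc R * q 2 = (r 0 * r 1) * (r 2 * (r 3 * q 2)) := by rw [hR]; group
        _ = (r 0 * r 1) * (r 2 * q 2) * r 3 := by rw [(rq 3 (by norm_num) (by norm_num)).eq]; group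
        _ = (r 0 * r 1 * F.w) * q 2 * r 2 * r 3 := by rw [hrq]; group
        _ = F.w * ((r 0 * r 1) * q 2) * r 2 * r 3 := by rw [((wr 0).mul_left (wr 1)).eq]; group
        _ = _ := by rw [((rq 0 (by norm_num) (by norm_num)).mul_left (rq 1 (by norm_num) (by norm_num))).eq, hR]; group
    · calc R * q 3 = (r 0 * r 1 * r 2) * (r 3 * q 3) := by rw [hR]; group
        _ = (r 0 * r 1 * r 2 * F.w) * q 3 * r 3 := by rw [hrq]; group
        _ = F.w * ((r 0 * r 1 * r 2) * q 3) * r 3 := by rw [(((wr 0).mul_left (wr 1)).mul_left (wr 2)).eq]; group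
        _ = _ := by
          rw [(((rq 0 (by norm_num) (by norm_num)).mul_left (rq 1 (by norm_num) (by norm_num))).mul_left
            (rq 2 (by norm_num) (by norm_num))).eq, hR]; group
  have hqR : ∀ i, i < 4 → Commute (q 0 * q i) R := by
    intro i hi
    show q 0 * q i * R = R * (q 0 * q i)
    calc q 0 * q i * R = (F.w * F.w) * (q 0 * q i * R) := by rw [F.w_sq hS, one_mul]
      _ = F.w * (q 0 * (F.w * (q i * R))) := by
        rw [← mul_assoc (q 0) F.w, ← (hwq 0).eq]; group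
      _ = F.w * (q 0 * R) * q i := by rw [← hRq i hi]; group
      _ = _ := by rw [← hRq 0 (by norm_num)]; group
  have hwR : Commute F.w R := ((((hzg (hr 0)).mul_left (hzg (hr 1))).mul_left (hzg (hr 2))).mul_left (hzg (hr 3))).symm
  have c5 := commute_sup (commute_sup (commute_sup (hzp hwR) (hzp (hqR 1 (by norm_num))))
    (hzp (hqR 2 (by norm_num)))) (hzp (hqR 3 (by norm_num)))
  have h5 := elementary_sup_zpowers h4 hRsq c5
  have hcard : Nat.card F.D ≤ Nat.card K * p := by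
    have h1 : Nat.card K * A.relIndex F.D = Nat.card F.D := by
      rw [hK, inf_comm, ← inf_relIndex_right, ← relIndex_bot_left, relIndex_mul_relIndex ⊥ _ F.D bot_le inf_le_right,
        relIndex_bot_left]
    have h2 : A.relIndex F.E * Nat.card A = Nat.card F.E := by
      rw [← relIndex_bot_left A, mul_comm, relIndex_mul_relIndex ⊥ A F.E bot_le hA.1, relIndex_bot_left]
    rw [hA.2.1, F.E_card hS, show p ^ n = p * p ^ (n - 1) by rw [← pow_succ']; congr 1; omega] at h2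
    have h3 : A.relIndex F.E = p := Nat.eq_of_mul_eq_mul_right (pow_pos hp.out.pos _) h2
    have h4 := relIndex_le_of_le_right (H := A) (L := F.E) (le_sup_left : F.D ≤ F.E) (by rw [h3]; exact hp.out.ne_zero)
    change A.relIndex F.D ≤ A.relIndex F.E at h4
    rw [h3] at h4
    calc Nat.card F.D = Nat.card K * A.relIndex F.D := h1.symm
      _ ≤ Nat.card K * p := Nat.mul_le_mul_left _ h4
  rw [F.D_card hS] at hcard
  refine gen hS (elementaryAbelian_of_le (F.D_elem hS) inf_le_left) (fun h => ?_) h5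
    (sup_le (sup_le (sup_le (sup_le (zpowers_le.mpr hww)
      (zpowers_le.mpr (mul_mem (hKc 0 _ (hq 0)) (hKc 1 _ (hq 1)))))
      (zpowers_le.mpr (mul_mem (hKc 0 _ (hq 0)) (hKc 2 _ (hq 2)))))
      (zpowers_le.mpr (mul_mem (hKc 0 _ (hq 0)) (hKc 3 _ (hq 3)))))
      (zpowers_le.mpr (mul_mem (mul_mem (mul_mem (hKc 0 _ (hr 0)) (hKc 1 _ (hr 1))) (hKc 2 _ (hr 2))) (hKc 3 _ (hr 3))))) 3
    (hS.constrained F.quad.base.elem F.quad.base.card (inf_le_left.trans (F.D_le hS))) ?_ ?_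
  · change K = ⊥ at h
    rw [h, card_bot, one_mul] at hcard
    have := (Nat.pow_le_pow_iff_right hp.out.one_lt).mp (hcard.trans (pow_one p).ge)
    omega
  · have notmem : ∀ {H : Subgroup G} {c a : G}, (∀ b ∈ H, Commute b c) → ¬ Commute a c → a ∉ H :=
      fun h1 h2 hm => h2 (h1 _ hm)
    have qr : ∀ {i j}, i ≠ j → i < 4 → j < 4 → Commute (q i) (r j) := fun h hi hj => hcross h hi hj (hq _) (hr _)
    have hbad : ∀ j, j < 4 → j ≠ 0 → ¬ Commute (q 0 * q j) (r j) := fun j hj h0 h => hnc j (by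
      have := (qr h0.symm (by norm_num) hj).inv_left.mul_left h
      rwa [inv_mul_cancel_left, Commute, SemiconjBy, eq_comm] at this)
    have hwr : ∀ j, ∀ t ∈ zpowers F.w, Commute t (r j) := fun j => hzp (hzg (hr j)).symm
    have qqr : ∀ {i j}, i ≠ j → i < 4 → j < 4 → 0 ≠ j → ∀ t ∈ zpowers (q 0 * q i), Commute t (r j) :=
      fun h hi hj h0 => hzp ((qr h0 (by norm_num) hj).mul_left (qr h hi hj))
    have e1 := two_mul_card_le h2 (H := zpowers F.w) le_sup_left (x := q 0 * q 1) (mem_sup_right (mem_zpowers _))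
      (notmem (hwr 1) (hbad 1 (by norm_num) (by norm_num)))
    have e2 := two_mul_card_le h3 le_sup_left (x := q 0 * q 2) (mem_sup_right (mem_zpowers _))
      (notmem (commute_sup (hwr 2) (qqr (by norm_num) (by norm_num) (by norm_num) (by norm_num)))
        (hbad 2 (by norm_num) (by norm_num)))
    have e3 := two_mul_card_le h4 le_sup_left (x := q 0 * q 3) (mem_sup_right (mem_zpowers _))
      (notmem (commute_sup (commute_sup (hwr 3) (qqr (by norm_num) (by norm_num) (by norm_num) (by norm_num)))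
        (qqr (by norm_num) (by norm_num) (by norm_num) (by norm_num))) (hbad 3 (by norm_num) (by norm_num)))
    have hq0 : ∀ j, j < 4 → Commute (q 0 * q j) (q 0) := fun j hj =>
      (qcomm 0 (by norm_num) 0 (by norm_num)).mul_left (qcomm j hj 0 (by norm_num))
    have e4 := two_mul_card_le h5 le_sup_left (x := R) (mem_sup_right (mem_zpowers _))
      (notmem (c := q 0) (commute_sup (commute_sup (commute_sup (hzp (hwq 0)) (hzp (hq0 1 (by norm_num))))
        (hzp (hq0 2 (by norm_num)))) (hzp (hq0 3 (by norm_num)))) fun h => hb.z_ne_one (by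
          have := hRq 0 (by norm_num)
          rw [h.eq] at this
          exact mul_eq_right.mp this.symm))
    rw [Nat.card_zpowers, F.w_order hS] at e1
    have : (2:ℕ) ^ (3 + 2) = 32 := by norm_num
    omega
  · calc p ^ n = p ^ (n - 2) * p ^ 2 := by rw [← pow_add]; congr 1; omega
      _ ≤ Nat.card K * p * p ^ 2 := Nat.mul_le_mul_right _ hcard
      _ = _ := by ring

end FD

end Cfsg.Agent.H29.KM
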