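import Cfsg.Agent.H29.KM.Three
import Cfsg.Agent.H61.CharP
import Cfsg.Agent.Cores.Constrained

/-!
Klinger–Mason under a weaker hypothesis: only centralisers inside elementary abelian `p`-groups of
rank three need to have characteristic `p`.
-/

set_option autoImplicit false
set_option linter.style.haveILetI false

namespace Cfsg.Agent.H29.KM

open Subgroup
open Cfsg.Agent.H47 (commute_of_elementaryAbelian elementaryAbelian_of_le isPGroup_of_elementaryAbelian)

universe u
variable {G : Type u} [Group G] [Finite G] {p : ℕ} [hp : Fact p.Prime]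

/-- Characteristic `p` passes to the centraliser of a `p`-subgroup. -/
theorem constrained_of_le {A H : Subgroup G} (hA : IsPGroup p A) (hAH : A ≤ H)
    (hCH : centralizer (A : Set G) ≤ H)
    (hH : centralizer (Cfsg.pCore p ↥H : Set ↥H) ≤ Cfsg.pCore p ↥H) : CentConstrained p A := by
  set C := centralizer (A : Set G)
  refine le_sSup ⟨inferInstance, isPGroup_of_forall_coprime fun g hg hcop => ?_⟩
  set R := Cfsg.pCore p ↥H with hR
  set g' : ↥H := ⟨g, hCH g.2⟩ with hg'
  have hco : (orderOf g').Coprime p := by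
    rwa [← Subgroup.orderOf_coe, Subgroup.orderOf_coe g]
  have hN : normalizer (R : Set ↥H) = ⊤ := normalizer_eq_top_iff.mpr inferInstance
  have key := H61.commute_of_commute_centralizer (P := R) (A := A.subgroupOf H) (c := g')
    Cores.pCore_isPGroup hA.comap_subtype (by rw [hN]; exact le_top) hco
    (by rw [hN]; exact mem_top _)
    (fun a ha => Subtype.ext (mem_centralizer_iff.mp g.2 a ha).symm)
    (fun x hx hxa => by
      have hxC : (x : G) ∈ C := mem_centralizer_iff.mpr fun a ha =>
        congrArg Subtype.val (hxa ⟨a, hAH ha⟩ ha).eq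
      have hn : (R.comap (Subgroup.inclusion hCH)).Normal := Subgroup.Normal.comap inferInstance _
      have hpg : IsPGroup p ↥(R.comap (Subgroup.inclusion hCH)) :=
        (Cores.pCore_isPGroup (p := p) (G := ↥H)).comap_of_injective _ (Subgroup.inclusion_injective hCH)
      have hxO : (⟨(x : G), hxC⟩ : ↥C) ∈ Cfsg.pCore p ↥C :=
        (le_sSup ⟨hn, hpg⟩ : _ ≤ Cfsg.pCore p ↥C)
          (show Subgroup.inclusion hCH ⟨(x : G), hxC⟩ ∈ R from hx)
      exact Subtype.ext (congrArg Subtype.val (mem_centralizer_iff.mp hg _ hxO)).symm)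
  have hgR : g' ∈ R := hH (mem_centralizer_iff.mpr fun y hy => (key y hy).eq.symm)
  have h1 := eq_one_of_coprime_of_pGroup (Cores.pCore_isPGroup (p := p) (G := ↥H)) hgR hco
  exact Subtype.ext (congrArg Subtype.val h1 :)

/-- Klinger–Mason with constrained centralisers in rank three. -/
theorem twoLocalPRankLE_two (hp2 : p ≠ 2) (hG2 : Cfsg.IsCharacteristicTwoType G)
    (hloc : ∀ A B : Subgroup G, Cfsg.IsElementaryAbelian p B → p ^ 3 ≤ Nat.card B → A ≤ B → A ≠ ⊥ →
      CentConstrained p A) : Cfsg.TwoLocalPRankLE p 2 G := by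
  classical
  by_contra hbad
  have hex : ∃ n, Cfsg.TwoLocalPRankLE p n G := ⟨Nat.card G, fun H _ A _ _ =>
    (A.card_le_card_group.trans H.card_le_card_group).trans
      (Nat.lt_pow_self (Fact.out : p.Prime).one_lt).le⟩
  obtain ⟨n, hn, hmin⟩ : ∃ n, Cfsg.TwoLocalPRankLE p n G ∧
      ∀ m < n, ¬ Cfsg.TwoLocalPRankLE p m G :=
    ⟨Nat.find hex, Nat.find_spec hex, fun m hm => Nat.find_min hex hm⟩
  have hn3 : 3 ≤ n := by
    by_contra h
    exact hbad fun H hH A hA hAp => (hn H hH A hA hAp).trans
      (Nat.pow_le_pow_right (Fact.out : p.Prime).pos (by omega))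
  have hS : Setting p n G := ⟨hp2, hn3, hn, hloc, hG2⟩
  obtain ⟨z, B, hz, hB, hBn, hBz⟩ := exists_base hS (hmin (n - 1) (by omega))
  obtain ⟨S, hSz⟩ := exists_charSympl hS hz hB hBn hBz
  have hb : Base p n z B S := ⟨hz, hB, hBn, hBz, hSz⟩
  obtain rfl := hb.eq_three hS
  obtain ⟨A1, A2, h1, h2, hne⟩ := hb.exists_two_planes hS
  obtain ⟨F, -⟩ := exists_FD hS hb h1 h2 hne
  rcases Nat.lt_or_ge n 4 with h | h
  · obtain rfl : n = 3 := by omega
    exact F.contradiction_three hS
  · exact FD.not_four_le hS F h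

/-- The same from solvable centralisers with trivial `p'`-cores in rank three. -/
theorem twoLocalPRankLE_two_of_cores (hp2 : p ≠ 2) (hG2 : Cfsg.IsCharacteristicTwoType G)
    (hsol : ∀ a : G, a ≠ 1 → Group.IsSolvable (centralizer ({a} : Set G)))
    (hcore : ∀ B : Subgroup G, Cfsg.IsElementaryAbelian p B → p ^ 3 ≤ Nat.card B →
      ∀ b ∈ B, b ≠ 1 → Cfsg.centralizerPPrimeCore p b = ⊥) :
    Cfsg.TwoLocalPRankLE p 2 G := by
  refine twoLocalPRankLE_two hp2 hG2 fun A B hB hB3 hAB hA1 => ?_
  obtain ⟨a, ha, ha1⟩ := A.bot_or_exists_ne_one.resolve_left hA1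
  haveI := hsol a ha1
  refine constrained_of_le (isPGroup_of_elementaryAbelian (elementaryAbelian_of_le hB hAB))
    (H := centralizer ({a} : Set G)) (fun x hx => ?_)
    (centralizer_le (Set.singleton_subset_iff.mpr ha))
    (Cores.centralizer_pCore_le Cores.isPSolvable_of_isSolvable
      ((Subgroup.map_eq_bot_iff_of_injective _ (centralizer ({a} : Set G)).subtype_injective).mp
        (hcore B hB hB3 a (hAB ha) ha1)))
  exact mem_centralizer_singleton_iff.mpr (commute_of_elementaryAbelian hB (hAB hx) (hAB ha)).eq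

end Cfsg.Agent.H29.KM
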