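import Cfsg.Agent.H29.KM.Exists
import Cfsg.Agent.H46.SympExpFour

/-!
Klinger–Mason: the characteristic symplectic subgroup of `C(z)` and the hyperplanes of `B` moving it.
-/

set_option autoImplicit false
set_option linter.style.haveILetI false
set_option linter.unusedSectionVars false

namespace Cfsg.Agent.H29.KM

open Subgroup
open scoped commutatorElement
open Cfsg.Agent.H47 (commute_of_elementaryAbelian elementaryAbelian_of_le isPGroup_of_elementaryAbelian normalizer_inf_centralizer)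
open Cfsg.Agent.H47.Sympl (exists_ne_one_of_ne_bot elementary_sup_zpowers)

universe u
variable {G : Type u} [Group G] [Finite G] {p n : ℕ} [hp : Fact p.Prime]

/-- A 2-subgroup of symplectic type and exponent four, normal in `C(z)`, on which the elements of
odd order of `C(z)` act faithfully. -/
structure IsCharSympl (z : G) (S : Subgroup G) : Prop where
  pgroup : IsPGroup 2 S
  zmem : z ∈ S
  le_cent : S ≤ centralizer ({z} : Set G)
  norm : centralizer ({z} : Set G) ≤ normalizer (S : Set G)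
  sq : ∀ a ∈ S, a ^ 2 = 1 ∨ a ^ 2 = z
  comm : ∀ a ∈ S, ∀ b ∈ S, ⁅a, b⁆ = 1 ∨ ⁅a, b⁆ = z
  centre : ∀ x ∈ S, (∀ s ∈ S, Commute s x) → x ^ 2 = 1 → x = 1 ∨ x = z
  faith : ∀ g ∈ centralizer ({z} : Set G), (orderOf g).Coprime 2 → (∀ x ∈ S, Commute g x) → g = 1

/-- An elementary `p`-group of maximal rank centralising the involution `z`, and the subgroup `S`. -/
structure Base (p n : ℕ) (z : G) (B S : Subgroup G) : Prop where
  z2 : orderOf z = 2
  elem : Cfsg.IsElementaryAbelian p B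
  card : Nat.card B = p ^ n
  bz : B ≤ centralizer ({z} : Set G)
  symp : IsCharSympl z S

/-- A hyperplane of `B` whose centraliser in `S` is not centralised by `B`. -/
def IsPlane (p n : ℕ) (B S A : Subgroup G) : Prop :=
  A ≤ B ∧ Nat.card A = p ^ (n - 1) ∧ ¬ S ⊓ centralizer (A : Set G) ≤ centralizer (B : Set G)

/-- The subgroup `[S ⊓ C(A), B] ⟨z⟩`. -/
def planeGroup (z : G) (B S A : Subgroup G) : Subgroup G :=
  closure ({z} ∪ {x | ∃ b ∈ B, ∃ c ∈ S ⊓ centralizer (A : Set G), x = ⁅b, c⁆})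

theorem normalizer_le_normalizer_cent (E : Subgroup G) :
    normalizer (E : Set G) ≤ normalizer ((centralizer (E : Set G) : Subgroup G) : Set G) := by
  intro g hg
  have key : ∀ g ∈ normalizer (E : Set G), ∀ x ∈ centralizer (E : Set G), g * x * g⁻¹ ∈ centralizer (E : Set G) :=
    fun g hg x hx => mem_centralizer_iff.mpr fun e he => by
      have h := mem_centralizer_iff.mp hx (g⁻¹ * e * g) (by simpa using (mem_normalizer_iff.mp (inv_mem hg) e).mp he)
      calc e * (g * x * g⁻¹) = g * (g⁻¹ * e * g * x) * g⁻¹ := by group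
        _ = _ := by rw [h]; group
  exact mem_normalizer_iff.mpr fun x => ⟨key g hg x, fun h => by
    simpa [mul_assoc] using key g⁻¹ (inv_mem hg) _ h⟩

theorem normalizer_zpowers_eq {z : G} (hz : orderOf z = 2) :
    normalizer ((zpowers z : Subgroup G) : Set G) = centralizer ({z} : Set G) := by
  refine le_antisymm (fun g hg => mem_centralizer_singleton_iff.mpr ?_) (fun g hg =>
    centralizer_le_normalizer _ (by
      rw [mem_centralizer_iff]
      rintro _ ⟨i, rfl⟩
      exact (((show Commute g z from mem_centralizer_singleton_iff.mp hg)).zpow_right i).eq.symm))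
  have hle : zpowers z ≤ centralizer (zpowers g : Set G) := le_centralizer_of_card_le_two
    (zpowers_le.mpr hg) (by rw [Nat.card_zpowers, hz])
  exact mem_centralizer_iff.mp (hle (mem_zpowers z)) g (mem_zpowers g)

/-- `C(z)` has a subgroup `S` as required when its `p`-rank is maximal. -/
theorem exists_charSympl (hS : Setting p n G) {z : G} (hz : orderOf z = 2) {B : Subgroup G}
    (hB : Cfsg.IsElementaryAbelian p B) (hBn : Nat.card B = p ^ n) (hBz : B ≤ centralizer ({z} : Set G)) :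
    ∃ S, IsCharSympl z S := by
  haveI : Fact (Nat.Prime 2) := ⟨Nat.prime_two⟩
  have hzp : IsPGroup 2 (zpowers z) := IsPGroup.of_card (n := 1) (by rw [Nat.card_zpowers, hz, pow_one])
  have hz1 : z ≠ 1 := fun h => by simp [h] at hz
  have hc2 : Cfsg.IsOfCharacteristicTwo ↥(centralizer ({z} : Set G)) :=
    normalizer_zpowers_eq hz ▸ hS.hG2.2 _ hzp (by rwa [Ne, zpowers_eq_bot])
  set C := centralizer ({z} : Set G)
  set T := (Cfsg.pCore 2 ↥C).map C.subtype with hTdef
  have hT : IsPGroup 2 T := (Cores.pCore_isPGroup (p := 2) (G := ↥C)).map C.subtype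
  have hCT : C ≤ normalizer (T : Set G) :=
    haveI : (Cfsg.pCore 2 ↥C).Characteristic := inferInstance
    Components.le_normalizer_map_characteristic _ le_normalizer
  have hTC : T ≤ C := map_subtype_le _
  have hzC : z ∈ C := mem_centralizer_singleton_iff.mpr rfl
  have hzT : z ∈ T := ⟨⟨z, hzC⟩, hc2 (mem_centralizer_iff.mpr fun t _ => Subtype.ext
    (mem_centralizer_singleton_iff.mp t.2)), rfl⟩
  obtain ⟨H, hHc, hfr, -, hCH⟩ := PGroups.exists_critical (p := 2) hT
  haveI := hHc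
  have hcent : ∀ a ∈ H, ∀ g ∈ H, Commute (a ^ 2) g := fun a ha g hg =>
    (mem_centralizer_iff.mp (hfr ⟨(⟨a, ha⟩ : H) ^ 2, PGroups.pow_mem_frattini (hT.to_subgroup H) _, rfl⟩) g hg).symm
  have hcomm : ∀ a ∈ H, ∀ g ∈ H, ∀ k ∈ H, Commute ⁅a, g⁆ k := by
    intro a ha g hg k hk
    have h : (⁅(⟨a, ha⟩ : H), ⟨g, hg⟩⁆ : H) ∈ frattini H :=
      PGroups.commutator_le_frattini (hT.to_subgroup H) (commutator_mem_commutator (mem_top _) (mem_top _))
    exact (mem_centralizer_iff.mp (hfr ⟨_, h, rfl⟩) k hk).symm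
  -- the elements of order dividing four of `H`
  let H4 : Subgroup T :=
    { carrier := {x | x ∈ H ∧ x ^ 4 = 1}
      one_mem' := ⟨one_mem _, one_pow 4⟩
      inv_mem' := fun {a} ha => ⟨inv_mem ha.1, by rw [inv_pow, ha.2, inv_one]⟩
      mul_mem' := fun {a b} ha hb => ⟨mul_mem ha.1 hb.1, by
        set c := b⁻¹ * a⁻¹ * b * a with hc
        have hk : ∀ k ∈ H, Commute c k := fun k hk => by
          rw [hc, show b⁻¹ * a⁻¹ * b * a = ⁅b⁻¹, a⁻¹⁆ by simp [commutatorElement_def]]
          exact hcomm _ (inv_mem hb.1) _ (inv_mem ha.1) k hk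
        have hba : b * a = a * b * c := by rw [hc]; group
        have hpb : ∀ m : ℕ, b ^ m * a = a * b ^ m * c ^ m := by
          intro m
          induction m with
          | zero => simp
          | succ m ih =>
            calc b ^ (m + 1) * a = b * (b ^ m * a) := by rw [pow_succ', mul_assoc]
              _ = (b * a) * b ^ m * c ^ m := by rw [ih]; simp only [mul_assoc]
              _ = a * b * (c * b ^ m) * c ^ m := by rw [hba]; simp only [mul_assoc]
              _ = _ := by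
                rw [((hk b hb.1).pow_right m).eq, pow_succ', pow_succ']
                simp only [mul_assoc]
        have hc21 : c ^ 2 = 1 := by
          have h2 := hpb 2
          rw [(hcent b hb.1 a ha.1).eq] at h2
          exact mul_eq_left.mp h2.symm
        have hsq : (a * b) ^ 2 = a ^ 2 * b ^ 2 * c := by
          calc (a * b) ^ 2 = a * (b * a) * b := by simp only [pow_two, mul_assoc]
            _ = a * (a * b) * (c * b) := by rw [hba]; simp only [mul_assoc]
            _ = _ := by rw [(hk b hb.1).eq]; simp only [pow_two, mul_assoc]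
        have h1 : Commute (a ^ 2) (b ^ 2) := hcent a ha.1 _ (pow_mem hb.1 2)
        have h2 : Commute (a ^ 2 * b ^ 2) c := (hk _ (mul_mem (pow_mem ha.1 2) (pow_mem hb.1 2))).symm
        rw [show (4 : ℕ) = 2 * 2 from rfl, pow_mul, hsq, h2.mul_pow, hc21, mul_one, h1.mul_pow,
          ← pow_mul, ← pow_mul, ha.2, hb.2, one_mul]⟩ }
  haveI hH4c : H4.Characteristic := by
    rw [characteristic_iff_le_comap]
    intro φ x hx
    exact ⟨(PGroups.apply_mem_iff_of_characteristic hHc φ).mpr hx.1, by rw [← map_pow, hx.2, map_one]⟩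
  set S := H4.map T.subtype with hSdef
  have hST : S ≤ T := map_subtype_le _
  have hCS : C ≤ normalizer (S : Set G) := Components.le_normalizer_map_characteristic H4 hCT
  have hzz : z * z = 1 := by rw [← pow_two, ← hz]; exact pow_orderOf_eq_one z
  have hzS : z ∈ S := ⟨⟨z, hzT⟩, ⟨hCH (mem_centralizer_iff.mpr fun t _ => Subtype.ext
    (mem_centralizer_singleton_iff.mp (hTC t.2))), Subtype.ext (by
      show z ^ 4 = 1
      rw [show (4 : ℕ) = 2 + 2 from rfl, pow_add, pow_two, hzz, one_mul])⟩, rfl⟩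
  have hSp : IsPGroup 2 S := hT.to_le hST
  have hn := hS.hn
  have hsy : Cfsg.IsOfSymplecticType S := H47.Sympl.isOfSymplecticType hS.hp2 (by omega) hB hBn hS.hmax hSp
    (hBz.trans hCS) (fun A hAB hA => genFitting_isPGroup (hS.constrained hB hBn hAB fun h => by
        rw [h, card_bot] at hA
        exact absurd hA.symm (Nat.ne_of_gt (Nat.one_lt_pow (by omega) hp.out.one_lt))))
    (fun _ h => hz1 (mem_bot.mp (h ▸ (⟨hzS, mem_centralizer_iff.mpr fun b hb =>
      mem_centralizer_singleton_iff.mp (hBz hb)⟩ : z ∈ S ⊓ centralizer (B : Set G)))))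
  have h4 : ∀ a : S, a ^ 4 = 1 := by
    rintro ⟨_, x, hx, rfl⟩
    exact Subtype.ext (by simpa using congrArg Subtype.val hx.2)
  have hzc : (⟨z, hzS⟩ : S) ∈ center S := Subgroup.mem_center_iff.mpr fun t =>
    Subtype.ext (mem_centralizer_singleton_iff.mp (hTC (hST t.2)))
  have hz1' : (⟨z, hzS⟩ : S) ≠ 1 := fun h => hz1 (congrArg Subtype.val h)
  have hz2' : (⟨z, hzS⟩ : S) ^ 2 = 1 := Subtype.ext (by simpa [pow_two] using hzz)
  have hphi : H46.SmallPhi (↥S) ⟨z, hzS⟩ := by
    exact H46.symp_exp_four_aux (Nat.card S) _ le_rfl hsy h4 _ hzc hz2' hz1'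
  refine ⟨S, hSp, hzS, hST.trans hTC, hCS, fun a ha => ?_, fun a ha b hb => ?_, fun x hx hxc hx2 => ?_,
    fun g hg hg2 hgS => ?_⟩
  · exact (hphi.1 ⟨a, ha⟩).imp (fun h => by simpa using congrArg Subtype.val h)
      (fun h => by simpa using congrArg Subtype.val h)
  · exact (hphi.2 ⟨a, ha⟩ ⟨b, hb⟩).imp (fun h => by simpa [commutatorElement_def] using congrArg Subtype.val h)
      (fun h => by simpa [commutatorElement_def] using congrArg Subtype.val h)
  · haveI : IsCyclic ↥(center S) := hsy.2 _ inferInstance inferInstance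
    exact (H46.involution_mem_cyclic (A := center S) (a := (⟨x, hx⟩ : S))
      (Subgroup.mem_center_iff.mpr fun s => Subtype.ext (hxc s s.2).eq) hzc (Subtype.ext (by simpa using hx2))
      hz2' hz1').imp (fun h => congrArg Subtype.val h) (fun h => congrArg Subtype.val h)
  · let a : MulAut T := T.normalizerMonoidHom ⟨g, hCT hg⟩
    have hcop : (orderOf a).Coprime 2 := Nat.Coprime.coprime_dvd_left
      ((orderOf_map_dvd _ _).trans (by rw [← Subgroup.orderOf_coe])) hg2
    have hmap : H.map (a : T ≃* T).toMonoidHom = H := Subgroup.characteristic_iff_map_eq.mp hHc a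
    let b : MulAut H := (a.subgroupMap H).trans (MulEquiv.subgroupCongr hmap)
    have hb : ∀ x : H, (b x : T) = a x := fun x => rfl
    have hbpow : ∀ (k : ℕ) (x : H), ((b ^ k) x : T) = (a ^ k) x := by
      intro k
      induction k with
      | zero => intro x; simp
      | succ k ih =>
        intro x
        rw [pow_succ', pow_succ', MulAut.mul_apply, MulAut.mul_apply, hb, ih]
    have hfix4 : ∀ x : H, x ^ 4 = 1 → b x = x := fun x hx => Subtype.ext (Subtype.ext (by
      rw [hb]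
      show g * ((x : T) : G) * g⁻¹ = ((x : T) : G)
      rw [(hgS ((x : T) : G) ⟨(x : T), ⟨x.2, by simpa using congrArg Subtype.val hx⟩, rfl⟩).eq, mul_inv_cancel_right]))
    have hb1 : b = 1 := H62.fix_all (hT.to_subgroup H) b hcop (MulEquiv.ext fun x => Subtype.ext (by
      rw [hbpow, pow_orderOf_eq_one]; rfl)) (fun x hx => hfix4 x (by
        rw [show (4 : ℕ) = 2 * 2 from rfl, pow_mul, hx, one_pow])) (fun _ => hfix4)
    have ha : a = 1 := PGroups.mulAut_eq_one_of_fixed hT H hCH a hcop fun x hx =>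
      (hb ⟨x, hx⟩).symm.trans (congrArg (fun f : MulAut H => ((f ⟨x, hx⟩ : H) : T)) hb1)
    have hmem : (⟨g, hg⟩ : C) ∈ Cfsg.pCore 2 ↥C := hc2 (mem_centralizer_iff.mpr fun t ht => Subtype.ext (by
      have := congrArg (fun f : MulAut T => (f ⟨t, ⟨t, ht, rfl⟩⟩ : G)) ha
      show (t : G) * g = g * t
      exact (mul_inv_eq_iff_eq_mul.mp this).symm))
    exact eq_one_of_coprime_of_pGroup hT ⟨_, hmem, rfl⟩ hg2

namespace Base

variable {z : G} {B S : Subgroup G} (hb : Base p n z B S)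
include hb

theorem zz : z * z = 1 := by rw [← pow_two, ← hb.z2]; exact pow_orderOf_eq_one z

theorem z_ne_one : z ≠ 1 := fun h => by simpa [h] using hb.z2

theorem mem_zpowers_cases {x : G} (hx : x ∈ zpowers z) : x = 1 ∨ x = z := by
  haveI : Fact (Nat.Prime 2) := ⟨Nat.prime_two⟩
  obtain ⟨k, rfl⟩ := hx
  show z ^ k = 1 ∨ z ^ k = z
  rw [zpow_eq_zpow_emod' k (show z ^ 2 = 1 by rw [pow_two, hb.zz])]
  rcases Int.emod_two_eq_zero_or_one k with h | h <;> simp [h]

theorem z_commute {s : G} (hs : s ∈ S) : Commute s z :=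
  mem_centralizer_singleton_iff.mp (hb.symp.le_cent hs)

theorem z_commute_B {b : G} (hb' : b ∈ B) : Commute b z :=
  mem_centralizer_singleton_iff.mp (hb.bz hb')

theorem norm : B ≤ normalizer (S : Set G) := hb.bz.trans hb.symp.norm

theorem conj_mem {b s : G} (hb' : b ∈ B) (hs : s ∈ S) : b * s * b⁻¹ ∈ S :=
  (mem_normalizer_iff.mp (hb.norm hb') s).mp hs

theorem coprime {b : G} (hb' : b ∈ B) (hp2 : p ≠ 2) : (orderOf b).Coprime 2 :=
  Nat.Coprime.coprime_dvd_left (orderOf_dvd_of_pow_eq_one (hb.elem.2 b hb'))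
    ((Nat.coprime_primes hp.out Nat.prime_two).mpr hp2)

/-- Conjugation inside `S` moves by at most `z`. -/
theorem conj_cases {c x : G} (hc : c ∈ S) (hx : x ∈ S) : c * x * c⁻¹ = x ∨ c * x * c⁻¹ = z * x := by
  rcases hb.symp.comm c hc x hx with h | h <;> [left; right] <;>
    rw [show c * x * c⁻¹ = ⁅c, x⁆ * x by simp [commutatorElement_def], h]
  rw [one_mul]

/-- An element of `B` moving `x ∈ S` by a fixed element of `S` fixes it. -/
theorem commute_of_error (hp2 : p ≠ 2) {b x d : G} (hb' : b ∈ B) (hd : d ∈ S) (hbd : Commute b d)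
    (h : b * x * b⁻¹ = d * x) : Commute b x := by
  obtain ⟨k, hk⟩ := hb.symp.pgroup ⟨d, hd⟩
  exact commute_of_fixed_error (hb.coprime hb' hp2) (by simpa using congrArg Subtype.val hk) hbd h

theorem card_ne_bot {A : Subgroup G} (hn : 2 ≤ n) (hA : Nat.card A = p ^ (n - 1)) : A ≠ ⊥ := fun h => by
  rw [h, card_bot] at hA
  exact absurd hA.symm (Nat.ne_of_gt (Nat.one_lt_pow (by omega) hp.out.one_lt))

section plane
variable {A : Subgroup G} (hA : IsPlane p n B S A)
include hA

theorem norm_cent : B ≤ normalizer ((S ⊓ centralizer (A : Set G) : Subgroup G) : Set G) :=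
  normalizer_inf_centralizer hb.norm (le_centralizer_of_elementary hb.elem hA.1)

theorem conj_mem_cent {b c : G} (hb' : b ∈ B) (hc : c ∈ S ⊓ centralizer (A : Set G)) :
    b * c * b⁻¹ ∈ S ⊓ centralizer (A : Set G) :=
  (mem_normalizer_iff.mp (hb.norm_cent hA hb') c).mp hc

theorem comm_mem {b c : G} (hb' : b ∈ B) (hc : c ∈ S ⊓ centralizer (A : Set G)) :
    ⁅b, c⁆ ∈ S ⊓ centralizer (A : Set G) := by
  rw [commutatorElement_def]
  exact mul_mem (hb.conj_mem_cent hA hb' hc) (inv_mem hc)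

theorem z_mem_cent : z ∈ S ⊓ centralizer (A : Set G) :=
  ⟨hb.symp.zmem, mem_centralizer_iff.mpr fun _ ha => (hb.z_commute_B (hA.1 ha)).eq⟩

theorem group_le : planeGroup z B S A ≤ S ⊓ centralizer (A : Set G) := by
  refine (closure_le _).mpr ?_
  rintro x (rfl | ⟨b, hb', c, hc, rfl⟩)
  exacts [hb.z_mem_cent hA, hb.comm_mem hA hb' hc]

theorem z_mem_group : z ∈ planeGroup z B S A := subset_closure (Or.inl rfl)

theorem norm_group : B ≤ normalizer (planeGroup z B S A : Set G) := by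
  intro g hg
  have key : ∀ g ∈ B, ∀ x ∈ planeGroup z B S A, g * x * g⁻¹ ∈ planeGroup z B S A := by
    intro g hg x hx
    have hle : planeGroup z B S A ≤ (planeGroup z B S A).comap (MulAut.conj g).toMonoidHom := by
      refine (closure_le _).mpr ?_
      rintro y (rfl | ⟨b, hb', c, hc, rfl⟩)
      · show g * y * g⁻¹ ∈ planeGroup y B S A
        rw [(hb.z_commute_B hg).eq, mul_inv_cancel_right]
        exact hb.z_mem_group hA
      · show g * ⁅b, c⁆ * g⁻¹ ∈ planeGroup z B S A
        refine subset_closure (Or.inr ⟨b, hb', _, hb.conj_mem_cent hA hg hc, ?_⟩)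
        have hgb : Commute g b := commute_of_elementaryAbelian hb.elem hg hb'
        rw [show g * ⁅b, c⁆ * g⁻¹ = ⁅g * b * g⁻¹, g * c * g⁻¹⁆ by simp only [commutatorElement_def]; group,
          hgb.eq, mul_inv_cancel_right]
    exact hle hx
  exact mem_normalizer_iff.mpr fun x => ⟨key g hg x, fun h => by
    simpa [mul_assoc] using key g⁻¹ (inv_mem hg) _ h⟩

theorem conj_group {c k : G} (hc : c ∈ S) (hk : k ∈ planeGroup z B S A) : c * k * c⁻¹ ∈ planeGroup z B S A := by
  rcases hb.conj_cases hc (hb.group_le hA hk).1 with h | h <;> rw [h]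
  exacts [hk, mul_mem (hb.z_mem_group hA) hk]

theorem sup_zpowers_eq {b : G} (hbB : b ∈ B) (hbA : b ∉ A) (hn : 1 ≤ n) : A ⊔ zpowers b = B := by
  refine eq_of_le_of_card_ge (sup_le hA.1 (zpowers_le.mpr hbB)) ?_
  calc Nat.card B = Nat.card A * p := by rw [hb.card, hA.2.1, ← pow_succ, Nat.sub_add_cancel hn]
    _ ≤ _ := card_mul_le ((isPGroup_of_elementaryAbelian hb.elem).to_le (sup_le hA.1 (zpowers_le.mpr hbB)))
      le_sup_left (mem_sup_right (mem_zpowers b)) hbA

/-- Modulo `⟨z⟩` the plane group consists of the commutators with any element of `B` outside `A`. -/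
theorem mem_group_iff {b : G} (hbB : b ∈ B) (hbA : b ∉ A) (hn : 1 ≤ n) {x : G} (hx : x ∈ planeGroup z B S A) :
    ∃ c ∈ S ⊓ centralizer (A : Set G), x = ⁅b, c⁆ ∨ x = z * ⁅b, c⁆ := by
  let R : G → Prop := fun x => ∃ c ∈ S ⊓ centralizer (A : Set G), x = ⁅b, c⁆ ∨ x = z * ⁅b, c⁆
  have Rz : ∀ {x}, R x → R (z * x) := by
    rintro x ⟨c, hc, rfl | rfl⟩
    · exact ⟨c, hc, Or.inr rfl⟩
    · exact ⟨c, hc, Or.inl (by rw [← mul_assoc, hb.zz, one_mul])⟩
  have Rone : R 1 := ⟨1, one_mem _, Or.inl (by simp)⟩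
  have Rmul : ∀ {x y}, R x → R y → R (x * y) := by
    have base : ∀ c ∈ S ⊓ centralizer (A : Set G), ∀ d ∈ S ⊓ centralizer (A : Set G), R (⁅b, c⁆ * ⁅b, d⁆) := by
      intro c hc d hd
      have h : R ⁅b, c * d⁆ := ⟨c * d, mul_mem hc hd, Or.inl rfl⟩
      rw [show ⁅b, c * d⁆ = ⁅b, c⁆ * (c * ⁅b, d⁆ * c⁻¹) by simp only [commutatorElement_def]; group] at h
      rcases hb.conj_cases hc.1 (hb.comm_mem hA hbB hd).1 with e | e <;> rw [e] at h
      · exact h
      · have := Rz h
        rwa [← mul_assoc, ← mul_assoc, (hb.z_commute (hb.comm_mem hA hbB hc).1).symm.eq, mul_assoc _ z z,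
          hb.zz, mul_one] at this
    rintro x y ⟨c, hc, rfl | rfl⟩ ⟨d, hd, rfl | rfl⟩
    · exact base c hc d hd
    · rw [← mul_assoc, (hb.z_commute (hb.comm_mem hA hbB hc).1).eq, mul_assoc]
      exact Rz (base c hc d hd)
    · rw [mul_assoc]; exact Rz (base c hc d hd)
    · rw [mul_assoc z, ← mul_assoc ⁅b, c⁆, (hb.z_commute (hb.comm_mem hA hbB hc).1).eq, mul_assoc]
      exact Rz (Rz (base c hc d hd))
  let M : Submonoid G :=
    { carrier := {x | R x}
      one_mem' := Rone
      mul_mem' := Rmul }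
  have hBg : ∀ g ∈ B, ∀ c ∈ S ⊓ centralizer (A : Set G), ⁅g, c⁆ ∈ M := by
    intro g hg
    let N : Submonoid G :=
      { carrier := {g | g ∈ B ∧ ∀ c ∈ S ⊓ centralizer (A : Set G), ⁅g, c⁆ ∈ M}
        one_mem' := ⟨one_mem _, fun c _ => by simp⟩
        mul_mem' := fun {g g'} h h' => ⟨mul_mem h.1 h'.1, fun c hc => by
          rw [show ⁅g * g', c⁆ = ⁅g, g' * c * g'⁻¹⁆ * ⁅g', c⁆ by simp only [commutatorElement_def]; group]
          exact mul_mem (h.2 _ (hb.conj_mem_cent hA h'.1 hc)) (h'.2 c hc)⟩ }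
    have hcl : (closure ((A : Set G) ∪ {b})).toSubmonoid ≤ N := by
      rw [closure_toSubmonoid_of_finite]
      refine Submonoid.closure_le.mpr ?_
      rintro y (hy | rfl)
      · exact ⟨hA.1 hy, fun c hc => by
          rw [commutatorElement_eq_one_iff_commute.mpr (mem_centralizer_iff.mp hc.2 y hy)]
          exact Rone⟩
      · exact ⟨hbB, fun c hc => ⟨c, hc, Or.inl rfl⟩⟩
    have hgcl : g ∈ closure ((A : Set G) ∪ {b}) := by
      rw [Subgroup.closure_union, Subgroup.closure_eq, ← zpowers_eq_closure, hb.sup_zpowers_eq hA hbB hbA hn]; exact hg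
    exact (hcl hgcl).2
  have hle : (planeGroup z B S A).toSubmonoid ≤ M := by
    rw [planeGroup, closure_toSubmonoid_of_finite]
    refine Submonoid.closure_le.mpr ?_
    rintro y (rfl | ⟨g, hg, c, hc, rfl⟩)
    · exact ⟨1, one_mem _, Or.inr (by simp)⟩
    · exact hBg g hg c hc
  exact hle hx

/-- Elements of `B` outside `A` fix only `⟨z⟩` in the plane group. -/
theorem fixed_mem (hp2 : p ≠ 2) (hn : 1 ≤ n) {b x : G} (hbB : b ∈ B) (hbA : b ∉ A)
    (hx : x ∈ planeGroup z B S A) (hfix : Commute b x) : x ∈ zpowers z := by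
  obtain ⟨c, hc, hxc⟩ := hb.mem_group_iff hA hbB hbA hn hx
  have hu : Commute b ⁅b, c⁆ := by
    rcases hxc with rfl | rfl
    · exact hfix
    · simpa [← mul_assoc, hb.zz] using (hb.z_commute_B hbB).mul_right hfix
  have hbc : Commute b c := hb.commute_of_error hp2 hbB (hb.comm_mem hA hbB hc).1 hu
    (by simp [commutatorElement_def])
  rw [commutatorElement_eq_one_iff_commute.mpr hbc, mul_one] at hxc
  rcases hxc with rfl | rfl
  exacts [one_mem _, mem_zpowers _]

/-- Elements of `B` outside `A` move the nontrivial cosets of `⟨z⟩` in the plane group. -/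
theorem moved (hp2 : p ≠ 2) (hn : 1 ≤ n) {b x : G} (hbB : b ∈ B) (hbA : b ∉ A)
    (hx : x ∈ planeGroup z B S A) (h : b * x * b⁻¹ * x⁻¹ ∈ zpowers z) : x ∈ zpowers z := by
  refine hb.fixed_mem hA hp2 hn hbB hbA hx (hb.commute_of_error hp2 hbB (d := b * x * b⁻¹ * x⁻¹) ?_ ?_
    (by group))
  · exact zpowers_le.mpr hb.symp.zmem h
  · rcases hb.mem_zpowers_cases h with e | e <;> rw [e]
    exacts [Commute.one_right b, hb.z_commute_B hbB]

theorem exists_notMem (hn : 1 ≤ n) : ∃ b ∈ B, b ∉ A := by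
  by_contra h
  push Not at h
  have := card_le_of_le h
  rw [hb.card, hA.2.1] at this
  exact absurd this (not_le.mpr (Nat.pow_lt_pow_right hp.out.one_lt (by omega)))

/-- The plane group commutes with whatever is fixed by an element of `B` outside `A`. -/
theorem commute_group {A' : Subgroup G} (hn : 1 ≤ n) {b : G} (hbB : b ∈ B) (hbA : b ∉ A) (hbA' : b ∈ A')
    {x d : G} (hx : x ∈ planeGroup z B S A) (hd : d ∈ S ⊓ centralizer (A' : Set G)) : Commute x d := by
  obtain ⟨c, hc, hxc⟩ := hb.mem_group_iff hA hbB hbA hn hx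
  suffices h : Commute ⁅b, c⁆ d by
    rcases hxc with rfl | rfl
    exacts [h, (hb.z_commute hd.1).symm.mul_left h]
  have hbd : b * d * b⁻¹ = d := by
    rw [mem_centralizer_iff.mp hd.2 b hbA', mul_inv_cancel_right]
  obtain ⟨e, he, hdc⟩ : ∃ e, (e = 1 ∨ e = z) ∧ d * c = e * (c * d) :=
    ⟨⁅d, c⁆, hb.symp.comm d hd.1 c hc.1, by simp only [commutatorElement_def]; group⟩
  have hec : ∀ y, y ∈ S → Commute e y := fun y hy => by
    rcases he with rfl | rfl
    exacts [Commute.one_left y, (hb.z_commute hy).symm]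
  have hdσ : d * (b * c * b⁻¹) = e * ((b * c * b⁻¹) * d) := by
    have := congrArg (fun t => b * t * b⁻¹) hdc
    have heb : b * e * b⁻¹ = e := by
      rcases he with rfl | rfl
      · simp
      · rw [(hb.z_commute_B hbB).eq, mul_inv_cancel_right]
    calc d * (b * c * b⁻¹) = (b * d * b⁻¹) * (b * c * b⁻¹) := by rw [hbd]
      _ = b * (d * c) * b⁻¹ := by group
      _ = b * (e * (c * d)) * b⁻¹ := by rw [hdc]
      _ = (b * e * b⁻¹) * ((b * c * b⁻¹) * (b * d * b⁻¹)) := by group
      _ = _ := by rw [heb, hbd]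
  have hdci : d * c⁻¹ = c⁻¹ * e⁻¹ * d := by
    calc d * c⁻¹ = c⁻¹ * e⁻¹ * (e * (c * d)) * c⁻¹ := by group
      _ = c⁻¹ * e⁻¹ * d := by rw [← hdc]; group
  show ⁅b, c⁆ * d = d * ⁅b, c⁆
  symm
  calc d * ⁅b, c⁆ = d * (b * c * b⁻¹) * c⁻¹ := by simp only [commutatorElement_def]; group
    _ = e * (b * c * b⁻¹) * (d * c⁻¹) := by rw [hdσ]; group
    _ = (b * c * b⁻¹) * (e * (c⁻¹ * e⁻¹)) * d := by
      rw [hdci, (hec _ (hb.conj_mem hbB hc.1)).eq]; group
    _ = (b * c * b⁻¹) * c⁻¹ * d := by rw [← mul_assoc e, (hec _ (inv_mem hc.1)).eq]; group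
    _ = _ := by simp only [commutatorElement_def]

/-- `S ⊓ C(A)` is the product of the plane group and `S ⊓ C(B)`. -/
theorem cent_eq_sup (hp2 : p ≠ 2) (hn : 1 ≤ n) {c : G} (hc : c ∈ S ⊓ centralizer (A : Set G)) :
    c ∈ planeGroup z B S A ⊔ (S ⊓ centralizer (B : Set G)) := by
  obtain ⟨b, hbB, hbA⟩ := hb.exists_notMem hA hn
  set K := planeGroup z B S A
  -- the ordered orbit product
  let N : ℕ → G := fun m => Nat.rec 1 (fun i acc => acc * (b ^ i * c * (b ^ i)⁻¹)) m
  have hσ : ∀ i : ℕ, b ^ i * c * (b ^ i)⁻¹ ∈ S ⊓ centralizer (A : Set G) := fun i =>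
    hb.conj_mem_cent hA (pow_mem hbB i) hc
  have hN : ∀ m, N m ∈ S ⊓ centralizer (A : Set G) ∧ N m * (c ^ m)⁻¹ ∈ K := by
    intro m
    induction m with
    | zero => exact ⟨one_mem _, by simp [N]⟩
    | succ m ih =>
      refine ⟨mul_mem ih.1 (hσ m), ?_⟩
      show N m * (b ^ m * c * (b ^ m)⁻¹) * (c ^ (m + 1))⁻¹ ∈ K
      have hk : ⁅b ^ m, c⁆ ∈ K := subset_closure (Or.inr ⟨_, pow_mem hbB m, c, hc, rfl⟩)
      rw [show N m * (b ^ m * c * (b ^ m)⁻¹) * (c ^ (m + 1))⁻¹ =
        (N m * (c ^ m)⁻¹) * (c ^ m * ⁅b ^ m, c⁆ * (c ^ m)⁻¹) by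
          rw [pow_succ' c]; simp only [commutatorElement_def]; group]
      exact mul_mem ih.2 (hb.conj_group hA (pow_mem hc.1 m) hk)
  have hshift : ∀ m, b * N m * b⁻¹ = c⁻¹ * N (m + 1) := by
    intro m
    induction m with
    | zero => simp [N]
    | succ m ih =>
      show b * (N m * (b ^ m * c * (b ^ m)⁻¹)) * b⁻¹ = c⁻¹ * (N (m + 1) * (b ^ (m + 1) * c * (b ^ (m + 1))⁻¹))
      rw [← mul_assoc c⁻¹, ← ih, pow_succ' b]; group
  have hNp : b * N p * b⁻¹ = c⁻¹ * N p * c := by
    rw [hshift p, mul_assoc]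
    show c⁻¹ * (N p * (b ^ p * c * (b ^ p)⁻¹)) = c⁻¹ * (N p * c)
    rw [hb.elem.2 b hbB, one_mul, inv_one, mul_one]
  have hNfix : Commute b (N p) := by
    refine hb.commute_of_error hp2 hbB (d := b * N p * b⁻¹ * (N p)⁻¹) ?_ ?_ (by group)
    · exact mul_mem (hb.conj_mem hbB (hN p).1.1) (inv_mem (hN p).1.1)
    · rw [hNp]
      rcases hb.conj_cases (inv_mem hc.1) (hN p).1.1 with e | e <;> rw [inv_inv] at e <;> rw [e]
      · simp
      · rw [mul_inv_cancel_right]; exact hb.z_commute_B hbB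
  have hNB : N p ∈ S ⊓ centralizer (B : Set G) := ⟨(hN p).1.1, mem_centralizer_iff.mpr fun g hg => by
    have hle : B ≤ centralizer ({N p} : Set G) := hb.sup_zpowers_eq hA hbB hbA hn ▸ sup_le
      (fun a ha => mem_centralizer_singleton_iff.mpr (mem_centralizer_iff.mp (hN p).1.2 a ha))
      (zpowers_le.mpr (mem_centralizer_singleton_iff.mpr hNfix.eq))
    exact mem_centralizer_singleton_iff.mp (hle hg)⟩
  have hcp : c ^ p ∈ K ⊔ (S ⊓ centralizer (B : Set G)) := by
    rw [show c ^ p = (N p * (c ^ p)⁻¹)⁻¹ * N p by group]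
    exact mul_mem (inv_mem (mem_sup_left (hN p).2)) (mem_sup_right hNB)
  obtain ⟨k, hk⟩ := hp.out.odd_of_ne_two hp2
  have hc2 : (c ^ 2) ^ k ∈ K := by
    rcases hb.symp.sq c hc.1 with e | e <;> rw [e]
    exacts [by rw [one_pow]; exact one_mem _, pow_mem (hb.z_mem_group hA) k]
  rw [show c = ((c ^ 2) ^ k)⁻¹ * c ^ p by rw [hk, pow_succ c (2 * k), pow_mul, inv_mul_cancel_left]]
  exact mul_mem (inv_mem (mem_sup_left hc2)) hcp

theorem exists_notMem_group (hp2 : p ≠ 2) (hn : 1 ≤ n) : ∃ x ∈ planeGroup z B S A, x ∉ zpowers z := by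
  by_contra h
  push Not at h
  refine hA.2.2 fun c hc => ?_
  have hle : planeGroup z B S A ⊔ (S ⊓ centralizer (B : Set G)) ≤ centralizer (B : Set G) :=
    sup_le (fun x hx => zpowers_le.mpr (mem_centralizer_iff.mpr fun g hg => (hb.z_commute_B hg).eq) (h x hx))
      inf_le_right
  exact hle (hb.cent_eq_sup hA hp2 hn hc)

end plane

theorem not_mem_of_ne {A A' : Subgroup G} (hA : Nat.card A = p ^ (n - 1)) (hA' : Nat.card A' = p ^ (n - 1))
    (hne : A ≠ A') : ∃ b ∈ A', b ∉ A := by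
  by_contra h
  push Not at h
  exact hne (eq_of_le_of_card_ge h (hA.le.trans hA'.ge)).symm

theorem commute_planes {A A' : Subgroup G} (hA : IsPlane p n B S A) (hA'B : A' ≤ B)
    (hA' : Nat.card A' = p ^ (n - 1)) (hne : A ≠ A') (hn : 1 ≤ n) {x d : G} (hx : x ∈ planeGroup z B S A)
    (hd : d ∈ S ⊓ centralizer (A' : Set G)) : Commute x d := by
  obtain ⟨b, hb', hbA⟩ := hb.not_mem_of_ne hA.2.1 hA' hne
  exact hb.commute_group hA hn (hA'B hb') hbA hb' hx hd

theorem inf_planeGroup {A A' : Subgroup G} (hA : IsPlane p n B S A) (hA' : IsPlane p n B S A')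
    (hp2 : p ≠ 2) (hn : 1 ≤ n) (hne : A ≠ A') {x : G} (hx : x ∈ planeGroup z B S A)
    (hx' : x ∈ planeGroup z B S A') : x ∈ zpowers z := by
  obtain ⟨b, hb', hbA⟩ := hb.not_mem_of_ne hA.2.1 hA'.2.1 hne
  exact hb.fixed_mem hA hp2 hn (hA'.1 hb') hbA hx (mem_centralizer_iff.mp (hb.group_le hA' hx').2 b hb')

theorem not_central {A : Subgroup G} (hA : IsPlane p n B S A) (hp2 : p ≠ 2) (hn : 2 ≤ n) {x : G}
    (hx : x ∈ planeGroup z B S A) (hxz : x ∉ zpowers z) : ∃ y ∈ planeGroup z B S A, ¬ Commute x y := by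
  by_contra h
  push Not at h
  set K := planeGroup z B S A with hK
  set Z := K ⊓ centralizer (K : Set G) with hZ
  have hZS : Z ≤ S := inf_le_left.trans ((hb.group_le hA).trans inf_le_left)
  have hKZ : K ≤ centralizer (Z : Set G) := fun k hk => mem_centralizer_iff.mpr fun y hy =>
    (mem_centralizer_iff.mp hy.2 k hk).symm
  have hBZ : B ≤ normalizer (Z : Set G) :=
    ((le_inf (hb.norm_group hA) ((hb.norm_group hA).trans (normalizer_le_normalizer_cent _))).trans
      Subgroup.inf_normalizer_le_normalizer_inf)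
  have hpS : ¬ p ∣ Nat.card S := fun hd => by
    haveI : Fact (Nat.Prime 2) := ⟨Nat.prime_two⟩
    obtain ⟨j, hj⟩ := IsPGroup.iff_card.mp hb.symp.pgroup
    exact hp2 ((Nat.prime_dvd_prime_iff_eq hp.out Nat.prime_two).mp (hp.out.dvd_of_dvd_pow (hj ▸ hd)))
  have hSZ : S ≤ centralizer (Z : Set G) := by
    refine H47.le_of_hyperplanes_le hb.elem (n := n - 1) (by rw [hb.card]; exact Nat.pow_le_pow_right hp.out.pos (by omega))
      (by omega) hb.norm hpS (hBZ.trans (normalizer_le_normalizer_cent _)) fun A' hA'B hA' => ?_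
    by_cases he : A = A'
    · subst he
      intro c hc
      refine (sup_le hKZ ?_) (hb.cent_eq_sup hA hp2 (by omega) hc)
      intro d hd
      obtain ⟨b, hbB, hbA⟩ := hb.exists_notMem hA (by omega)
      refine mem_centralizer_iff.mpr fun y hy => ?_
      exact (hb.commute_group (A' := B) hA (by omega) hbB hbA hbB hy.1 hd).eq
    · intro c hc
      exact mem_centralizer_iff.mpr fun y hy => (hb.commute_planes hA hA'B hA' he (by omega) hy.1 hc).eq
  have hxZ : x ∈ Z := ⟨hx, mem_centralizer_iff.mpr fun k hk => (h k hk).eq.symm⟩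
  have hcen : ∀ y ∈ Z, ∀ s ∈ S, Commute s y := fun y hy s hs => (mem_centralizer_iff.mp (hSZ hs) y hy).symm
  obtain ⟨b, hbB, hbA⟩ := hb.exists_notMem hA (by omega)
  refine hxz (hb.moved hA hp2 (by omega) hbB hbA hx ?_)
  have hσ : b * x * b⁻¹ ∈ Z := (mem_normalizer_iff.mp (hBZ hbB) x).mp hxZ
  have hsq : (b * x * b⁻¹) ^ 2 = x ^ 2 := by
    rw [conj_pow]
    rcases hb.symp.sq x (hZS hxZ) with e | e <;> rw [e]
    · simp
    · rw [(hb.z_commute_B hbB).eq, mul_inv_cancel_right]
  have hc : Commute (b * x * b⁻¹) x⁻¹ := (hcen x hxZ _ (hZS hσ)).inv_right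
  rcases hb.symp.centre (b * x * b⁻¹ * x⁻¹) (mul_mem (hZS hσ) (inv_mem (hZS hxZ))) (fun s hs =>
    (hcen _ hσ s hs).mul_right (hcen x hxZ s hs).inv_right) (by rw [hc.mul_pow, hsq, inv_pow, mul_inv_cancel])
    with e | e <;> rw [e]
  exacts [one_mem _, mem_zpowers _]

/-- Every nontrivial element of `B` lies outside some plane. -/
theorem exists_plane (hp2 : p ≠ 2) (hn : 2 ≤ n) {b : G} (hbB : b ∈ B) (hb1 : b ≠ 1) :
    ∃ A, IsPlane p n B S A ∧ b ∉ A := by
  by_contra h
  push Not at h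
  refine hb1 (hb.symp.faith b (hb.bz hbB) (hb.coprime hbB hp2) fun x hx => ?_)
  have hpS : ¬ p ∣ Nat.card S := fun hd => by
    haveI : Fact (Nat.Prime 2) := ⟨Nat.prime_two⟩
    obtain ⟨j, hj⟩ := IsPGroup.iff_card.mp hb.symp.pgroup
    exact hp2 ((Nat.prime_dvd_prime_iff_eq hp.out Nat.prime_two).mp (hp.out.dvd_of_dvd_pow (hj ▸ hd)))
  have hBb : B ≤ normalizer ((centralizer ({b} : Set G) : Subgroup G) : Set G) := fun g hg =>
    le_normalizer (mem_centralizer_singleton_iff.mpr (commute_of_elementaryAbelian hb.elem hg hbB).eq)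
  have hle : S ≤ centralizer ({b} : Set G) := by
    refine H47.le_of_hyperplanes_le hb.elem (n := n - 1) (by rw [hb.card]; exact Nat.pow_le_pow_right hp.out.pos (by omega))
      (by omega) hb.norm hpS hBb fun A hAB hA c hc => mem_centralizer_singleton_iff.mpr ?_
    by_cases hcB : S ⊓ centralizer (A : Set G) ≤ centralizer (B : Set G)
    · exact (mem_centralizer_iff.mp (hcB hc) b hbB).symm
    · exact (mem_centralizer_iff.mp hc.2 b (h A ⟨hAB, hA, hcB⟩)).symm
  exact (mem_centralizer_singleton_iff.mp (hle hx)).symm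

end Base

end Cfsg.Agent.H29.KM
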