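import Cfsg.Agent.H29.KM.Plane

/-!
Klinger–Mason: `p = 3` and the plane groups are quaternion of order eight.
-/

set_option autoImplicit false
set_option linter.style.haveILetI false
set_option linter.unusedSectionVars false

namespace Cfsg.Agent.H29.KM

open Subgroup
open scoped commutatorElement
open Cfsg.Agent.H47 (commute_of_elementaryAbelian elementaryAbelian_of_le isPGroup_of_elementaryAbelian)
open Cfsg.Agent.H47.Sympl (exists_ne_one_of_ne_bot elementary_sup_zpowers)

universe u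
variable {G : Type u} [Group G] [Finite G] {p n : ℕ} [hp : Fact p.Prime]

theorem elementary_zpowers {q : ℕ} {x : G} (hx : x ^ q = 1) : Cfsg.IsElementaryAbelian q (zpowers x) := by
  refine ⟨inferInstance, ?_⟩
  rintro _ ⟨i, rfl⟩
  show (x ^ i) ^ q = 1
  rw [← zpow_natCast (x ^ i), ← zpow_mul, mul_comm, zpow_mul, zpow_natCast, hx, one_zpow]

theorem mem_sup_zpowers {H : Subgroup G} {x w : G} (hc : ∀ h ∈ H, Commute h x) (hw : w ∈ H ⊔ zpowers x) :
    ∃ h ∈ H, ∃ t ∈ zpowers x, w = h * t := by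
  have hn : zpowers x ≤ normalizer (H : Set G) := zpowers_le.mpr (centralizer_le_normalizer _
    (mem_centralizer_iff.mpr fun h hh => (hc h hh).eq))
  obtain ⟨h, hh, t, ht, e⟩ := (Coprime.mem_sup_iff hn).mp hw
  exact ⟨h, hh, t, ht, e.symm⟩

theorem two_mul_card_le {W : Subgroup G} (hW : Cfsg.IsElementaryAbelian 2 W) {H : Subgroup G} (hHW : H ≤ W)
    {x : G} (hx : x ∈ W) (hxH : x ∉ H) : Nat.card H * 2 ≤ Nat.card W :=
  haveI : Fact (Nat.Prime 2) := ⟨Nat.prime_two⟩
  card_mul_le (isPGroup_of_elementaryAbelian hW) hHW hx hxH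

namespace Base

variable {z : G} {B S A : Subgroup G} (hb : Base p n z B S) (hA : IsPlane p n B S A)
include hb hA

theorem isPGroup_group : IsPGroup 2 (planeGroup z B S A) :=
  hb.symp.pgroup.to_le ((hb.group_le hA).trans inf_le_left)

theorem card_cases_eight : (∃ j, Nat.card (planeGroup z B S A) = 2 ^ j) := by
  haveI : Fact (Nat.Prime 2) := ⟨Nat.prime_two⟩
  exact IsPGroup.iff_card.mp (hb.isPGroup_group hA)

theorem eight_le_card (hp2 : p ≠ 2) (hn : 2 ≤ n) : 8 ≤ Nat.card (planeGroup z B S A) := by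
  classical
  set K := planeGroup z B S A
  obtain ⟨x, hx, hxz⟩ := hb.exists_notMem_group hA hp2 (by omega)
  obtain ⟨y, hy, hxy⟩ := hb.not_central hA hp2 hn hx hxz
  have hzK := hb.z_mem_group hA
  have hxz' : Commute x z := hb.z_commute (hb.group_le hA hx).1
  haveI := Fintype.ofFinite K
  by_contra hlt
  obtain ⟨j, hj⟩ := hb.card_cases_eight hA
  have h4 : Nat.card K ≤ 4 := by
    rw [hj] at hlt ⊢
    rcases Nat.lt_or_ge j 3 with h | h
    · exact (Nat.pow_le_pow_right two_pos (show j ≤ 2 by omega)).trans (by norm_num)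
    · exact absurd (le_trans (by norm_num) (Nat.pow_le_pow_right two_pos h)) hlt
  have hne : ∀ t : G, Commute x t → t ≠ y := fun t ht e => hxy (e ▸ ht)
  have h5 : ({⟨1, one_mem _⟩, ⟨z, hzK⟩, ⟨x, hx⟩, ⟨z * x, mul_mem hzK hx⟩, ⟨y, hy⟩} : Finset K).card = 5 := by
    have h1 := hb.z_ne_one
    have hx1 : x ≠ 1 := fun e => hxz (e ▸ one_mem _)
    have hxne : x ≠ z := fun e => hxz (e ▸ mem_zpowers _)
    have hzx1 : z * x ≠ 1 := fun e => hxz (by rw [← inv_eq_of_mul_eq_one_right e]; exact inv_mem (mem_zpowers z))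
    rw [Finset.card_insert_of_notMem, Finset.card_insert_of_notMem, Finset.card_insert_of_notMem,
      Finset.card_insert_of_notMem, Finset.card_singleton]
    · simp [Subtype.ext_iff, hne _ (hxz'.mul_right (Commute.refl x))]
    · simp [Subtype.ext_iff, h1, hne _ (Commute.refl x)]
    · simp [Subtype.ext_iff, hxne.symm, hx1, hne _ hxz']
    · simp [Subtype.ext_iff, h1.symm, hx1.symm, hzx1.symm, hne _ (Commute.one_right x)]
  have := Finset.card_le_univ ({⟨1, one_mem _⟩, ⟨z, hzK⟩, ⟨x, hx⟩, ⟨z * x, mul_mem hzK hx⟩, ⟨y, hy⟩} : Finset K)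
  rw [← Nat.card_eq_fintype_card] at this
  omega

theorem exists_commute (hp2 : p ≠ 2) (hn : 2 ≤ n) (h16 : 16 ≤ Nat.card (planeGroup z B S A)) {x : G}
    (hx : x ∈ planeGroup z B S A) (hxz : x ∉ zpowers z) :
    ∃ y ∈ planeGroup z B S A, Commute x y ∧ y ≠ 1 ∧ y ≠ z ∧ y ≠ x ∧ y ≠ z * x := by
  classical
  set K := planeGroup z B S A
  obtain ⟨y0, hy0, hxy0⟩ := hb.not_central hA hp2 hn hx hxz
  set C := K ⊓ centralizer ({x} : Set G)
  have hxS := (hb.group_le hA hx).1
  have hmove : ∀ y ∈ K, ¬ Commute x y → y * x * y⁻¹ = z * x := fun y hy h =>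
    (hb.conj_cases (hb.group_le hA hy).1 hxS).resolve_left fun e => h (mul_inv_eq_iff_eq_mul.mp e).symm
  have hmem : ∀ y : K, ¬ Commute x (y : G) → y0⁻¹ * y ∈ C := fun y h =>
    Subgroup.mem_inf.mpr ⟨mul_mem (inv_mem hy0) y.2, mem_centralizer_singleton_iff.mpr (by
      have h1 := hmove _ y.2 h
      have h0 := hmove _ hy0 hxy0
      rw [← mul_inv_eq_iff_eq_mul]
      calc y0⁻¹ * (y : G) * x * (y0⁻¹ * (y : G))⁻¹ = y0⁻¹ * ((y : G) * x * (y : G)⁻¹) * y0 := by group
        _ = x := by rw [h1, ← h0]; group)⟩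
  let f : K → C × Bool := fun y => if h : Commute x (y : G) then
    (⟨y, y.2, mem_centralizer_singleton_iff.mpr h.eq.symm⟩, false) else (⟨_, hmem y h⟩, true)
  have hf : Function.Injective f := fun a b hab => by
    by_cases ha : Commute x (a : G) <;> by_cases hb' : Commute x (b : G) <;> simp [f, ha, hb'] at hab
    all_goals first | exact hab | exact Subtype.ext hab | exact Subtype.ext (congrArg (fun t : C => (t : G)) hab)
  have hle := Nat.card_le_card_of_injective f hf
  rw [Nat.card_prod, Nat.card_eq_fintype_card (α := Bool), Fintype.card_bool] at hle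
  by_contra hno
  push Not at hno
  haveI := Fintype.ofFinite C
  let F : Finset G := {1, z, x, z * x}
  let g : C → F := fun y => ⟨y, by
    simp only [F, Finset.mem_insert, Finset.mem_singleton]
    by_cases h1 : (y : G) = 1
    · exact Or.inl h1
    by_cases h2 : (y : G) = z
    · exact Or.inr (Or.inl h2)
    by_cases h3 : (y : G) = x
    · exact Or.inr (Or.inr (Or.inl h3))
    · exact Or.inr (Or.inr (Or.inr (hno y y.2.1 (mem_centralizer_singleton_iff.mp y.2.2).symm h1 h2 h3)))⟩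
  have hC : Nat.card C ≤ 4 := by
    refine (Nat.card_le_card_of_injective g fun a b hab => Subtype.ext (congrArg (fun t : F => (t : G)) hab)).trans ?_
    rw [Nat.card_eq_fintype_card, Fintype.card_coe]
    exact Finset.card_le_four
  omega

theorem exists_involution (hp2 : p ≠ 2) (hn : 2 ≤ n) (h16 : 16 ≤ Nat.card (planeGroup z B S A)) :
    ∃ x ∈ planeGroup z B S A, x ∉ zpowers z ∧ x ^ 2 = 1 := by
  by_contra hno
  push Not at hno
  obtain ⟨x, hx, hxz⟩ := hb.exists_notMem_group hA hp2 (by omega)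
  obtain ⟨y, hy, hxy, hy1, hyz, hyx, hyzx⟩ := hb.exists_commute hA hp2 hn h16 hx hxz
  have hsq : ∀ t ∈ planeGroup z B S A, t ∉ zpowers z → t ^ 2 = z := fun t ht h =>
    (hb.symp.sq t (hb.group_le hA ht).1).resolve_left (hno t ht h)
  have hy' : y ∉ zpowers z := fun h => (hb.mem_zpowers_cases h).elim hy1 hyz
  have hx2 : x ^ 2 = z := hsq x hx hxz
  have hxy2 : (x * y) ∉ zpowers z := fun h => by
    have hxinv : x⁻¹ = z * x := inv_eq_of_mul_eq_one_right (by
      rw [← mul_assoc, (hb.z_commute (hb.group_le hA hx).1).eq, mul_assoc, ← pow_two x, hx2, hb.zz])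
    rcases hb.mem_zpowers_cases h with e | e
    · exact hyzx (by rw [← hxinv]; exact (inv_eq_of_mul_eq_one_right e).symm)
    · exact hyx (mul_left_cancel (a := x) (by rw [e, ← pow_two, hx2]))
  refine hno _ (mul_mem hx hy) hxy2 ?_
  rw [hxy.mul_pow, hx2, hsq y hy hy', hb.zz]

theorem not_mem_sup {x y : G} (hx2 : x ^ 2 = 1) (hxS : x ∈ S) (hy1 : y ≠ 1) (hyz : y ≠ z) (hyx : y ≠ x)
    (hyzx : y ≠ z * x) : y ∉ zpowers z ⊔ zpowers x := by
  intro h
  obtain ⟨a, ha, t, ht, rfl⟩ := mem_sup_zpowers (x := x) (fun a ha => by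
    obtain ⟨i, rfl⟩ := ha
    exact (hb.z_commute hxS).symm.zpow_left i) h
  haveI : Fact (Nat.Prime 2) := ⟨Nat.prime_two⟩
  obtain ⟨i, rfl⟩ := ht
  simp only at *
  rw [zpow_eq_zpow_emod' i hx2] at *
  rcases hb.mem_zpowers_cases ha with rfl | rfl <;> rcases Int.emod_two_eq_zero_or_one i with e | e <;>
    simp_all

theorem card_group_of_involution_free (hS : Setting p n G) (hp3 : p = 3) :
    Nat.card (planeGroup z B S A) = 8 ∧ ∀ x ∈ planeGroup z B S A, x ∉ zpowers z → x ^ 2 = z := by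
  haveI : Fact (Nat.Prime 2) := ⟨Nat.prime_two⟩
  have hn := hS.hn
  set K := planeGroup z B S A
  obtain ⟨b, hbB, hbA⟩ := hb.exists_notMem hA (by omega)
  have hb3 : b ^ 3 = 1 := hp3 ▸ hb.elem.2 b hbB
  have main : ∀ x ∈ K, x ∉ zpowers z → x ^ 2 = z := fun x hx hxz =>
    (hb.symp.sq x (hb.group_le hA hx).1).resolve_left fun hx2 => by
      have hnorm := fun t (ht : t ∈ K) => (mem_normalizer_iff.mp (hb.norm_group hA hbB) t).mp ht
      set x1 := b * x * b⁻¹ with hx1def
      set x2 := b * x1 * b⁻¹ with hx2def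
      have hx1 : x1 ∈ K := hnorm x hx
      have hx2' : x2 ∈ K := hnorm x1 hx1
      have hb31 : b * x2 * b⁻¹ = x := by
        rw [hx2def, hx1def, show b * (b * (b * x * b⁻¹) * b⁻¹) * b⁻¹ = b ^ 3 * x * (b ^ 3)⁻¹ by
          rw [pow_succ, pow_two]; group, hb3]
        simp
      have hN : x * x1 * x2 ∈ K := mul_mem (mul_mem hx hx1) hx2'
      have hNz : x * x1 * x2 ∈ zpowers z := by
        refine hb.moved hA hS.hp2 (by omega) hbB hbA hN ?_
        have : b * (x * x1 * x2) * b⁻¹ = x⁻¹ * (x * x1 * x2) * x := by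
          calc b * (x * x1 * x2) * b⁻¹ = (b * x * b⁻¹) * (b * x1 * b⁻¹) * (b * x2 * b⁻¹) := by group
            _ = x1 * x2 * x := by rw [hb31]
            _ = _ := by group
        rw [this]
        have hc := hb.conj_cases (inv_mem (hb.group_le hA hx).1) (hb.group_le hA hN).1
        rw [inv_inv] at hc
        rcases hc with e | e <;> rw [e]
        · simp
        · rw [mul_inv_cancel_right]; exact mem_zpowers z
      have hx12 : x1 ^ 2 = 1 := by rw [hx1def, conj_pow, hx2, mul_one, mul_inv_cancel]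
      have hx22 : x2 ^ 2 = 1 := by rw [hx2def, conj_pow, hx12, mul_one, mul_inv_cancel]
      have hprod : (x * x1) ^ 2 = 1 := by
        have hN2 : (x * x1 * x2) ^ 2 = 1 := by
          rcases hb.mem_zpowers_cases hNz with e | e <;> rw [e, pow_two]
          exacts [one_mul 1, hb.zz]
        have hNc : Commute (x * x1 * x2) x2⁻¹ := by
          rcases hb.mem_zpowers_cases hNz with e | e <;> rw [e]
          exacts [Commute.one_left _, (hb.z_commute (hb.group_le hA hx2').1).symm.inv_right]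
        rw [show x * x1 = (x * x1 * x2) * x2⁻¹ by group, hNc.mul_pow, hN2, one_mul, inv_pow, hx22, inv_one]
      have hcomm : Commute x x1 := by
        have hxi : x⁻¹ = x := inv_eq_of_mul_eq_one_right (by rw [← pow_two, hx2])
        have hx1i : x1⁻¹ = x1 := inv_eq_of_mul_eq_one_right (by rw [← pow_two, hx12])
        have := inv_eq_of_mul_eq_one_right (show x * x1 * (x * x1) = 1 by rw [← pow_two, hprod])
        rw [mul_inv_rev, hxi, hx1i] at this
        exact this.symm
      have hmoved : ¬ b * x * b⁻¹ * x⁻¹ ∈ zpowers z := fun h =>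
        hxz (hb.moved hA hS.hp2 (by omega) hbB hbA hx h)
      have hnm : x1 ∉ zpowers z ⊔ zpowers x := by
        refine hb.not_mem_sup hA hx2 (hb.group_le hA hx).1 (fun e => ?_) (fun e => ?_) (fun e => ?_) (fun e => ?_)
        · exact hxz ((conj_eq_one_iff.mp e) ▸ one_mem _)
        · apply hxz
          have : x = b⁻¹ * x1 * b := by rw [hx1def]; group
          rw [this, e, mul_assoc, ← (hb.z_commute_B hbB).eq, inv_mul_cancel_left]
          exact mem_zpowers z
        · exact hmoved (by rw [← hx1def, e, mul_inv_cancel]; exact one_mem _)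
        · exact hmoved (by rw [← hx1def, e, mul_inv_cancel_right]; exact mem_zpowers z)
      have hzx : ∀ a ∈ zpowers z, Commute a x := fun a ha => by
        obtain ⟨i, rfl⟩ := ha
        exact (hb.z_commute (hb.group_le hA hx).1).symm.zpow_left i
      have hE0 := elementary_zpowers (q := 2) (show z ^ 2 = 1 by rw [pow_two]; exact hb.zz)
      have hE1 := elementary_sup_zpowers hE0 hx2 hzx
      have hzx1 : ∀ a ∈ zpowers z ⊔ zpowers x, Commute a x1 := commute_sup
        (fun a ha => by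
          obtain ⟨i, rfl⟩ := ha
          exact (hb.z_commute (hb.group_le hA hx1).1).symm.zpow_left i)
        (fun a ha => by obtain ⟨i, rfl⟩ := ha; exact hcomm.zpow_left i)
      have hE2 := elementary_sup_zpowers hE1 hx12 hzx1
      refine H47.Sympl.no_eight (by omega) hS.hmax hS.hp2 (elementaryAbelian_of_le hb.elem hA.1) hA.2.1
        (genFitting_isPGroup (hS.constrained hb.elem hb.card hA.1 (hb.card_ne_bot (by omega) hA.2.1))) hE2
        (sup_le (sup_le (zpowers_le.mpr (hb.z_mem_cent hA).2) (zpowers_le.mpr (hb.group_le hA hx).2))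
          (zpowers_le.mpr (hb.group_le hA hx1).2)) ?_
      have h1 := two_mul_card_le hE1 (H := zpowers z) le_sup_left (x := x) (mem_sup_right (mem_zpowers x)) hxz
      have h2 := two_mul_card_le hE2 (H := zpowers z ⊔ zpowers x) le_sup_left (x := x1)
        (mem_sup_right (mem_zpowers x1)) hnm
      rw [Nat.card_zpowers, hb.z2] at h1
      omega
  refine ⟨?_, main⟩
  have h8 := hb.eight_le_card hA hS.hp2 (by omega)
  obtain ⟨j, hj⟩ := hb.card_cases_eight hA
  rcases Nat.lt_or_ge j 4 with h | h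
  · have h' := Nat.pow_le_pow_right two_pos (show j ≤ 3 by omega)
    rw [← hj] at h'
    change Nat.card K ≤ 2 ^ 3 at h'
    change 8 ≤ Nat.card K at h8
    omega
  · obtain ⟨x, hx, hxz, hx2⟩ := hb.exists_involution hA hS.hp2 (by omega)
      (hj ▸ le_trans (by norm_num) (Nat.pow_le_pow_right two_pos h))
    exact absurd ((main x hx hxz).symm.trans hx2) hb.z_ne_one

theorem sixteen_le_card (hp2 : p ≠ 2) (hn : 2 ≤ n) (hp5 : 5 ≤ p) : 16 ≤ Nat.card (planeGroup z B S A) := by
  obtain ⟨x, hx, hxz⟩ := hb.exists_notMem_group hA hp2 (by omega)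
  obtain ⟨b, hbB, hbA⟩ := hb.exists_notMem hA (by omega)
  set K := planeGroup z B S A
  let f : Fin 5 × Bool → K := fun i =>
    ⟨(if i.2 then z else 1) * (b ^ (i.1 : ℕ) * x * (b ^ (i.1 : ℕ))⁻¹), mul_mem
      (by split; exacts [hb.z_mem_group hA, one_mem _])
      ((mem_normalizer_iff.mp (hb.norm_group hA (pow_mem hbB _)) x).mp hx)⟩
  have hmove : ∀ i j : ℕ, i < j → j < 5 →
      b ^ j * x * (b ^ j)⁻¹ * (b ^ i * x * (b ^ i)⁻¹)⁻¹ ∉ zpowers z := by
    intro i j hij hj5 h
    have hk : b ^ (j - i) ∉ A := fun hmem => by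
      have hcop : (j - i).Coprime p := Nat.coprime_comm.mp ((Nat.Prime.coprime_iff_not_dvd hp.out).mpr
        (Nat.not_dvd_of_pos_of_lt (by omega) (by omega)))
      obtain ⟨m, -, hm⟩ := Nat.exists_mul_mod_eq_one_of_coprime hcop hp.out.one_lt
      have : (b ^ (j - i)) ^ m = b := by
        rw [← pow_mul, pow_eq_pow_mod _ (hb.elem.2 b hbB), hm, pow_one]
      exact hbA (this ▸ pow_mem hmem m)
    refine hxz (hb.moved hA hp2 (by omega) (pow_mem hbB _) hk hx ?_)
    set y := b ^ (j - i) * x * (b ^ (j - i))⁻¹ * x⁻¹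
    have e : b ^ j * x * (b ^ j)⁻¹ * (b ^ i * x * (b ^ i)⁻¹)⁻¹ = b ^ i * y * (b ^ i)⁻¹ := by
      rw [show b ^ j = b ^ i * b ^ (j - i) by rw [← pow_add]; congr 1; omega]; simp only [y]; group
    rw [e] at h
    have hy : y = (b ^ i)⁻¹ * (b ^ i * y * (b ^ i)⁻¹) * b ^ i := by group
    rw [hy]
    rcases hb.mem_zpowers_cases h with e' | e' <;> rw [e']
    · simp
    · rw [mul_assoc, ← (hb.z_commute_B (pow_mem hbB i)).eq, inv_mul_cancel_left]; exact mem_zpowers z
  have hf : Function.Injective f := by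
    rintro ⟨i, s⟩ ⟨j, t⟩ h
    have h' : (if s then z else 1) * (b ^ (i : ℕ) * x * (b ^ (i : ℕ))⁻¹) =
        (if t then z else 1) * (b ^ (j : ℕ) * x * (b ^ (j : ℕ))⁻¹) := congrArg Subtype.val h
    have hmemz : ∀ u : Bool, (if u then z else 1) ∈ zpowers z := fun u => by
      split <;> simp
    have hij : i = j := by
      by_contra hne
      rcases lt_or_gt_of_ne (fun e => hne (Fin.ext e)) with h0 | h0
      · refine hmove i j h0 j.2 ?_
        rw [show b ^ (j : ℕ) * x * (b ^ (j : ℕ))⁻¹ * (b ^ (i : ℕ) * x * (b ^ (i : ℕ))⁻¹)⁻¹ =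
          (if t then z else 1)⁻¹ * ((if t then z else 1) * (b ^ (j : ℕ) * x * (b ^ (j : ℕ))⁻¹)) *
            (b ^ (i : ℕ) * x * (b ^ (i : ℕ))⁻¹)⁻¹ by group, ← h', ← mul_assoc, mul_inv_cancel_right]
        exact mul_mem (inv_mem (hmemz t)) (hmemz s)
      · refine hmove j i h0 i.2 ?_
        rw [show b ^ (i : ℕ) * x * (b ^ (i : ℕ))⁻¹ * (b ^ (j : ℕ) * x * (b ^ (j : ℕ))⁻¹)⁻¹ =
          (if s then z else 1)⁻¹ * ((if s then z else 1) * (b ^ (i : ℕ) * x * (b ^ (i : ℕ))⁻¹)) *
            (b ^ (j : ℕ) * x * (b ^ (j : ℕ))⁻¹)⁻¹ by group, h', ← mul_assoc, mul_inv_cancel_right]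
        exact mul_mem (inv_mem (hmemz s)) (hmemz t)
    subst hij
    have hst := mul_right_cancel h'
    rcases s <;> rcases t <;> simp [hb.z_ne_one, hb.z_ne_one.symm] at hst ⊢
  have h10 := Nat.card_le_card_of_injective f hf
  simp only [Nat.card_eq_fintype_card (α := Fin 5 × Bool), Fintype.card_prod, Fintype.card_fin,
    Fintype.card_bool] at h10
  obtain ⟨j, hj⟩ := hb.card_cases_eight hA
  rw [hj] at h10 ⊢
  rcases Nat.lt_or_ge j 4 with h | h
  · have := Nat.pow_le_pow_right two_pos (show j ≤ 3 by omega)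
    omega
  · exact le_trans (by norm_num) (Nat.pow_le_pow_right two_pos h)

omit hA

theorem not_both_big (hS : Setting p n G) {A1 A2 : Subgroup G} (h1 : IsPlane p n B S A1)
    (h2 : IsPlane p n B S A2) (hne : A1 ≠ A2) (hc1 : 16 ≤ Nat.card (planeGroup z B S A1))
    (hc2 : 16 ≤ Nat.card (planeGroup z B S A2)) : False := by
  haveI : Fact (Nat.Prime 2) := ⟨Nat.prime_two⟩
  have hn := hS.hn
  obtain ⟨-, hinf⟩ := hyperplanes_inf_sup hb.elem hb.card (by omega) h1.1 h2.1 h1.2.1 h2.2.1 hne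
  obtain ⟨x1, hx1, hx1z, hx12⟩ := hb.exists_involution h1 hS.hp2 (by omega) hc1
  obtain ⟨x2, hx2, hx2z, hx22⟩ := hb.exists_involution h2 hS.hp2 (by omega) hc2
  obtain ⟨y1, hy1, hxy1, hy11, hy1z, hy1x, hy1zx⟩ := hb.exists_commute h1 hS.hp2 (by omega) hc1 hx1 hx1z
  obtain ⟨y2, hy2, hxy2, hy21, hy2z, hy2x, hy2zx⟩ := hb.exists_commute h2 hS.hp2 (by omega) hc2 hx2 hx2z
  have hn1 := hb.not_mem_sup h1 hx12 (hb.group_le h1 hx1).1 hy11 hy1z hy1x hy1zx
  have hn2 := hb.not_mem_sup h2 hx22 (hb.group_le h2 hx2).1 hy21 hy2z hy2x hy2zx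
  have hc12 : ∀ a ∈ planeGroup z B S A1, ∀ c ∈ planeGroup z B S A2, Commute a c := fun a ha c hc =>
    hb.commute_planes h1 h2.1 h2.2.1 hne (by omega) ha (hb.group_le h2 hc)
  have hint : ∀ a, a ∈ planeGroup z B S A1 → a ∈ planeGroup z B S A2 → a ∈ zpowers z :=
    fun a ha ha' => hb.inf_planeGroup h1 h2 hS.hp2 (by omega) hne ha ha'
  set P := zpowers z ⊔ zpowers x1 with hP
  have hPK : P ≤ planeGroup z B S A1 :=
    sup_le (zpowers_le.mpr (hb.z_mem_group h1)) (zpowers_le.mpr hx1)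
  have hzP : zpowers z ≤ P := le_sup_left
  have hPE : Cfsg.IsElementaryAbelian 2 P := elementary_sup_zpowers
    (elementary_zpowers (show z ^ 2 = 1 by rw [pow_two]; exact hb.zz)) hx12 (fun a ha => by
      obtain ⟨i, rfl⟩ := ha
      exact (hb.z_commute (hb.group_le h1 hx1).1).symm.zpow_left i)
  have hPx2 : ∀ a ∈ P, Commute a x2 := fun a ha => hc12 a (hPK ha) x2 hx2
  set Q := P ⊔ zpowers x2 with hQdef
  have hQE := elementary_sup_zpowers hPE hx22 hPx2
  have hQz : ∀ a, a ∈ Q → Commute a z := commute_sup (fun a ha => hb.z_commute (hb.group_le h1 (hPK ha)).1)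
    (fun a ha => by obtain ⟨i, rfl⟩ := ha; exact (hb.z_commute (hb.group_le h2 hx2).1).zpow_left i)
  suffices h : ∃ y, y ^ 2 = 1 ∧ y ∈ centralizer ((A1 ⊓ A2 : Subgroup G) : Set G) ∧
      (∀ a ∈ Q, Commute a y) ∧ y ∉ Q by
    obtain ⟨y, hy2', hyD, hyQ, hyn⟩ := h
    have hE := elementary_sup_zpowers hQE hy2' hyQ
    have hx2P : x2 ∉ P := fun h => hx2z (hint x2 (hPK h) hx2)
    refine gen hS (elementaryAbelian_of_le hb.elem (inf_le_left.trans h1.1 : A1 ⊓ A2 ≤ B))
      (fun h => ?_) hE ?_ 2 (hS.constrained hb.elem hb.card (inf_le_left.trans h1.1)) ?_ ?_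
    · rw [h, card_bot] at hinf
      exact absurd hinf.symm (Nat.ne_of_gt (Nat.one_lt_pow (by omega) hp.out.one_lt))
    · refine sup_le (sup_le (sup_le ?_ ?_) ?_) (zpowers_le.mpr hyD)
      · exact zpowers_le.mpr (centralizer_le inf_le_left (hb.z_mem_cent h1).2)
      · exact zpowers_le.mpr (centralizer_le inf_le_left (hb.group_le h1 hx1).2)
      · exact zpowers_le.mpr (centralizer_le inf_le_right (hb.group_le h2 hx2).2)
    · have e1 := two_mul_card_le hPE hzP (mem_sup_right (mem_zpowers x1)) hx1z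
      have e2 := two_mul_card_le hQE (le_sup_left : P ≤ Q) (mem_sup_right (mem_zpowers x2)) hx2P
      have e3 := two_mul_card_le hE (le_sup_left : Q ≤ Q ⊔ zpowers y) (mem_sup_right (mem_zpowers y)) hyn
      rw [Nat.card_zpowers, hb.z2] at e1
      change Nat.card P * 2 ≤ Nat.card Q at e2
      have : (2 : ℕ) ^ (2 + 2) = 16 := by norm_num
      omega
    · rw [hinf, ← pow_add]; exact Nat.pow_le_pow_right hp.out.pos (by omega)
  have hyQ1 : ∀ a ∈ Q, Commute a y1 := commute_sup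
    (commute_sup (fun a ha => by obtain ⟨i, rfl⟩ := ha; exact (hb.z_commute (hb.group_le h1 hy1).1).symm.zpow_left i)
      (fun a ha => by obtain ⟨i, rfl⟩ := ha; exact hxy1.zpow_left i))
    (fun a ha => by obtain ⟨i, rfl⟩ := ha; exact ((hc12 y1 hy1 x2 hx2).symm).zpow_left i)
  have hyQ2 : ∀ a ∈ Q, Commute a y2 := commute_sup
    (commute_sup (fun a ha => by obtain ⟨i, rfl⟩ := ha; exact (hb.z_commute (hb.group_le h2 hy2).1).symm.zpow_left i)
      (fun a ha => by obtain ⟨i, rfl⟩ := ha; exact (hc12 x1 hx1 y2 hy2).zpow_left i))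
    (fun a ha => by obtain ⟨i, rfl⟩ := ha; exact hxy2.zpow_left i)
  have hy1n : y1 ∉ Q := fun h => by
    obtain ⟨a, ha, t, ht, e⟩ := mem_sup_zpowers hPx2 h
    have ht1 : t ∈ zpowers z := hint t (by
      rw [show t = a⁻¹ * y1 by rw [e, inv_mul_cancel_left]]
      exact mul_mem (inv_mem (hPK ha)) hy1) (zpowers_le.mpr hx2 ht)
    exact hn1 (e ▸ mul_mem ha (hzP ht1))
  rcases hb.symp.sq y1 (hb.group_le h1 hy1).1 with e1 | e1
  · exact ⟨y1, e1, centralizer_le inf_le_left (hb.group_le h1 hy1).2, hyQ1, hy1n⟩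
  rcases hb.symp.sq y2 (hb.group_le h2 hy2).1 with e2 | e2
  · refine ⟨y2, e2, centralizer_le inf_le_right (hb.group_le h2 hy2).2, hyQ2, fun h => ?_⟩
    obtain ⟨a, ha, t, ht, e⟩ := mem_sup_zpowers hPx2 h
    have ht2 : a ∈ zpowers z := hint a (hPK ha) (by
      rw [show a = y2 * t⁻¹ by rw [e, mul_inv_cancel_right]]
      exact mul_mem hy2 (inv_mem (zpowers_le.mpr hx2 ht)))
    exact hn2 (e ▸ mul_mem (mem_sup_left ht2) (mem_sup_right ht))
  refine ⟨y1 * y2, by rw [(hc12 y1 hy1 y2 hy2).mul_pow, e1, e2, hb.zz],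
    mul_mem (centralizer_le inf_le_left (hb.group_le h1 hy1).2) (centralizer_le inf_le_right (hb.group_le h2 hy2).2),
    fun a ha => (hyQ1 a ha).mul_right (hyQ2 a ha), fun h => ?_⟩
  obtain ⟨a, ha, t, ht, e⟩ := mem_sup_zpowers hPx2 h
  have heq : a⁻¹ * y1 = t * y2⁻¹ := by
    rw [inv_mul_eq_iff_eq_mul, ← mul_assoc, ← e, mul_inv_cancel_right]
  have hm : a⁻¹ * y1 ∈ zpowers z := hint _ (mul_mem (inv_mem (hPK ha)) hy1)
    (heq ▸ mul_mem (zpowers_le.mpr hx2 ht) (inv_mem hy2))
  exact hn1 (show y1 ∈ P by simpa using mul_mem ha (hzP hm))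

theorem exists_two_planes (hS : Setting p n G) :
    ∃ A1 A2, IsPlane p n B S A1 ∧ IsPlane p n B S A2 ∧ A1 ≠ A2 := by
  have hn := hS.hn
  obtain ⟨b, hbB, hb1⟩ : ∃ b ∈ B, b ≠ 1 := exists_ne_one_of_ne_bot fun h => by
    have := hb.card
    rw [h, card_bot] at this
    exact absurd this.symm (Nat.ne_of_gt (Nat.one_lt_pow (by omega) hp.out.one_lt))
  obtain ⟨A1, hA1, -⟩ := hb.exists_plane hS.hp2 (by omega) hbB hb1
  obtain ⟨a, ha, ha1⟩ := exists_ne_one_of_ne_bot (hb.card_ne_bot (by omega) hA1.2.1)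
  obtain ⟨A2, hA2, haA2⟩ := hb.exists_plane hS.hp2 (by omega) (hA1.1 ha) ha1
  exact ⟨A1, A2, hA1, hA2, fun h => haA2 (h ▸ ha)⟩

theorem eq_three (hS : Setting p n G) : p = 3 := by
  by_contra h3
  have hp5 : 5 ≤ p := by
    rcases Nat.lt_or_ge p 5 with h | h
    · have := hp.out.two_le
      have := hS.hp2
      have hp' := hp.out
      interval_cases p <;> first | omega | (exact absurd hp' (by norm_num))
    · exact h
  have hn := hS.hn
  obtain ⟨A1, A2, h1, h2, hne⟩ := hb.exists_two_planes hS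
  exact hb.not_both_big hS h1 h2 hne (hb.sixteen_le_card h1 hS.hp2 (by omega) hp5)
    (hb.sixteen_le_card h2 hS.hp2 (by omega) hp5)

end Base

end Cfsg.Agent.H29.KM
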