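import Cfsg.Agent.H29.KM.Frame

/-!
Klinger–Mason: the contradiction for `p = 3` and rank three.
-/

set_option autoImplicit false
set_option linter.style.haveILetI false
set_option linter.unusedSectionVars false

namespace Cfsg.Agent.H29.KM

open Subgroup
open scoped commutatorElement
open Cfsg.Agent.H47 (commute_of_elementaryAbelian elementaryAbelian_of_le isPGroup_of_elementaryAbelian)
open Cfsg.Agent.H47.Sympl (exists_ne_one_of_ne_bot elementary_sup_zpowers eq_one_of_inverted)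

universe u
variable {G : Type u} [Group G] [Finite G] [hp : Fact (Nat.Prime 3)]

theorem cases_zpowers_three {x t : G} (hx : x ^ 3 = 1) (ht : t ∈ zpowers x) : t = 1 ∨ t = x ∨ t = x⁻¹ := by
  obtain ⟨i, rfl⟩ := ht
  simp only
  rw [zpow_eq_zpow_emod' i hx]
  have h : i % (3 : ℤ) = 0 ∨ i % (3 : ℤ) = 1 ∨ i % (3 : ℤ) = 2 := by omega
  rcases h with h | h | h <;> simp only [Nat.cast_ofNat, h]
  · exact Or.inl (zpow_zero x)
  · exact Or.inr (Or.inl (zpow_one x))
  · refine Or.inr (Or.inr (eq_inv_of_mul_eq_one_left ?_))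
    rw [← zpow_add_one, show (2 : ℤ) + 1 = ((3 : ℕ) : ℤ) by norm_num, zpow_natCast, hx]

theorem mem_of_order_three {H : Subgroup G} (hH : Nat.card H = 3) {a b : G} (ha : a ∈ H) (ha1 : a ≠ 1)
    (hb : b ∈ H) : b ∈ zpowers a := by
  have h3 : a ^ 3 = 1 := by
    have := congrArg Subtype.val (pow_card_eq_one' (x := (⟨a, ha⟩ : H)))
    rwa [hH] at this
  have : zpowers a = H := eq_of_le_of_card_ge (zpowers_le.mpr ha) (by
    rw [Nat.card_zpowers, orderOf_eq_prime h3 ha1, hH])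
  exact this ▸ hb

theorem coprime_two_of_three {P : Subgroup G} (hP : IsPGroup 3 P) {g : G} (hg : g ∈ P) :
    (orderOf g).Coprime 2 := by
  obtain ⟨k, hk⟩ := hP ⟨g, hg⟩
  exact Nat.Coprime.coprime_dvd_left (orderOf_dvd_of_pow_eq_one (by simpa using congrArg Subtype.val hk))
    (Nat.Coprime.pow_left k (by norm_num))

/-- Averaging an element with its conjugate by an involution. -/
theorem exists_fixed_translate {s g : G} (hs : s * s = 1) (hodd : (orderOf (s * g * s⁻¹ * g⁻¹)).Coprime 2) :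
    ∃ m : ℕ, Commute s ((s * g * s⁻¹ * g⁻¹) ^ m * g) := by
  set k := s * g * s⁻¹ * g⁻¹ with hk
  obtain ⟨j, hj⟩ : Odd (orderOf k) := by
    rw [Nat.odd_iff]
    by_contra h
    have : 2 ∣ orderOf k := by omega
    exact absurd (Nat.Prime.coprime_iff_not_dvd Nat.prime_two |>.mp (Nat.coprime_comm.mp hodd)) (not_not.mpr this)
  refine ⟨j + 1, commute_of_conj_eq ?_⟩
  have hsi : s⁻¹ = s := inv_eq_of_mul_eq_one_right hs
  have hki : s * k * s⁻¹ = k⁻¹ := by
    rw [hk, hsi]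
    simp only [mul_inv_rev, inv_inv, hsi]
    calc s * (s * g * s * g⁻¹) * s = (s * s) * g * s * g⁻¹ * s := by group
      _ = _ := by rw [hs]; group
  have hkk : (k ^ (j + 1))⁻¹ * k = k ^ (j + 1) := by
    rw [inv_mul_eq_iff_eq_mul, ← pow_add, show j + 1 + (j + 1) = orderOf k + 1 by omega, pow_succ,
      pow_orderOf_eq_one, one_mul]
  rw [← conj_mul, ← conj_pow, hki, inv_pow, show s * g * s⁻¹ = k * g by rw [hk, inv_mul_cancel_right],
    ← mul_assoc, hkk]

theorem conj_cube {g a c : G} (h : g * a * g⁻¹ = c * a) (hc : Commute g c) :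
    g ^ 3 * a * (g ^ 3)⁻¹ = c ^ 3 * a := by
  have step : ∀ x, Commute g x → g * (x * a) * g⁻¹ = x * (c * a) := fun x hx => by
    rw [← conj_mul, conj_eq_self hx, h]
  calc g ^ 3 * a * (g ^ 3)⁻¹ = g * (g * (g * a * g⁻¹) * g⁻¹) * g⁻¹ := by rw [pow_succ, pow_two]; group
    _ = _ := by
      rw [h, step c hc, ← mul_assoc c c a, step (c * c) (hc.mul_right hc), pow_succ, pow_two, mul_assoc (c * c)]

theorem phi_cube {H : Type*} [CommGroup H] (a b c : H) :
    a / c / (c / b) / (c / b / (b / a)) = b ^ 3 / c ^ 3 := by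
  apply Additive.ofMul.injective
  simp only [ofMul_div, ofMul_pow]
  abel

theorem card_ker_comp {H : Type*} [Group H] [Finite H] (f g : H →* H) :
    Nat.card (g.comp f).ker ≤ Nat.card f.ker * Nat.card g.ker := by
  let ψ : (g.comp f).ker →* g.ker :=
    { toFun := fun v => ⟨f (v : H), v.2⟩
      map_one' := Subtype.ext (map_one f)
      map_mul' := fun a b => Subtype.ext (map_mul f (a : H) (b : H)) }
  have h1 := ψ.ker.card_mul_index
  rw [Subgroup.index_ker] at h1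
  have h2 : Nat.card ψ.ker ≤ Nat.card f.ker :=
    Nat.card_le_card_of_injective (fun v => (⟨((v : (g.comp f).ker) : H), congrArg Subtype.val v.2⟩ : f.ker))
      (fun a b h => Subtype.ext (Subtype.ext (congrArg (fun t : f.ker => (t : H)) h)))
  have h3 : Nat.card ψ.range ≤ Nat.card g.ker := Subgroup.card_le_card_group ψ.range
  calc Nat.card (g.comp f).ker = Nat.card ψ.ker * Nat.card ψ.range := h1.symm
    _ ≤ _ := Nat.mul_le_mul h2 h3

namespace FD

variable (F : FD 3 3 G)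

/-- The translate of `T` by `r₁`. -/
def T2 : Subgroup G := F.T.map (MulAut.conj F.r1).toMonoidHom
/-- The elements inverted by `z`, as a subgroup. -/
def V : Subgroup G := F.T ⊔ F.T2

variable {F} (hS : Setting 3 3 G)
include hS

theorem D3 : Nat.card F.D = 3 := by simpa using F.D_card hS

theorem T9 : Nat.card F.T = 9 := by
  have h := F.E_card hS
  have hn : F.T ≤ normalizer (F.D : Set G) :=
    ((F.T_le hS).trans (F.Q_le hS)).trans (centralizer_le_normalizer _)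
  rw [FD.E, Coprime.card_sup hn ((eq_bot_iff_forall _).mpr fun a ha => F.eq_one_of_mem_D_T hS ha.1 ha.2),
    F.D3 hS] at h
  norm_num at h
  omega

theorem D_inf {A : Subgroup G} {a : G} (hA : ¬ F.D ≤ A) (haD : a ∈ F.D) (haA : a ∈ A) : a = 1 := by
  by_contra h
  exact hA fun b hb => zpowers_le.mpr haA (mem_of_order_three (F.D3 hS) haD h hb)

theorem T2_card : Nat.card F.T2 = 9 := by
  rw [FD.T2, card_map_of_injective (MulAut.conj F.r1).injective, F.T9 hS]

theorem T2_le : F.T2 ≤ F.Q := by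
  rintro _ ⟨t, ht, rfl⟩
  exact F.conj_Q hS (F.r1_mem_X hS).2 (F.T_le hS ht)

theorem T2_elem : Cfsg.IsElementaryAbelian 3 F.T2 := by
  refine ⟨⟨⟨?_⟩⟩, ?_⟩
  · rintro ⟨_, a, ha, rfl⟩ ⟨_, b, hb, rfl⟩
    exact Subtype.ext ((commute_of_elementaryAbelian (F.T_elem hS) ha hb).map
      (MulAut.conj F.r1).toMonoidHom).eq
  · rintro _ ⟨a, ha, rfl⟩
    rw [← map_pow, (F.T_elem hS).2 a ha, map_one]

theorem flip {g : G} (hgz : F.z * g * F.z⁻¹ = g⁻¹) (hgw : Commute F.w g) :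
    F.w * (F.r1 * g * F.r1⁻¹) * F.w⁻¹ = (F.r1 * g * F.r1⁻¹)⁻¹ := by
  rw [conj_transfer (a := F.w) (F.quad.w_r1 hS),
    show F.z * (F.q1 * F.q2) * g * (F.z * (F.q1 * F.q2))⁻¹ = F.z * (F.w * g * F.w⁻¹) * F.z⁻¹ by
      rw [FD.w]; group, conj_eq_self hgw, hgz]
  group

theorem flip' {g : G} (hgz : F.z * g * F.z⁻¹ = g⁻¹) (hgw : F.w * g * F.w⁻¹ = g⁻¹) :
    Commute F.w (F.r1 * g * F.r1⁻¹) := commute_of_conj_eq (by
  rw [conj_transfer (a := F.w) (F.quad.w_r1 hS),
    show F.z * (F.q1 * F.q2) * g * (F.z * (F.q1 * F.q2))⁻¹ = F.z * (F.w * g * F.w⁻¹) * F.z⁻¹ by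
      rw [FD.w]; group, hgw, ← conj_inv, hgz, inv_inv])

theorem conj_inverted {g v : G} (hgz : Commute g F.z) (hv : F.z * v * F.z⁻¹ = v⁻¹) :
    F.z * (g * v * g⁻¹) * F.z⁻¹ = (g * v * g⁻¹)⁻¹ := by
  rw [conj_transfer (e := F.z) hgz.symm.eq, hv, conj_inv]

theorem T2_z {b : G} (hb : b ∈ F.T2) : F.z * b * F.z⁻¹ = b⁻¹ := by
  obtain ⟨t, ht, rfl⟩ := hb
  exact F.conj_inverted hS (F.conj_z_X hS (F.r1_mem_X hS)) (F.T_inv hS ht)

theorem T2_w {b : G} (hb : b ∈ F.T2) : F.w * b * F.w⁻¹ = b⁻¹ := by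
  obtain ⟨t, ht, rfl⟩ := hb
  exact F.flip hS (F.T_inv hS ht) (F.T_w hS ht)

/-- Inverted elements of opposite sign for an element of `X` commute. -/
theorem commute_of_signs {a b : G} (ha : a ∈ F.Q) (hb : b ∈ F.Q) (_haz : F.z * a * F.z⁻¹ = a⁻¹)
    (_hbz : F.z * b * F.z⁻¹ = b⁻¹) {v : G} (hv : v ∈ F.X) (hva : v * a * v⁻¹ = a⁻¹) (hvb : Commute v b) :
    Commute a b := by
  rw [← commutatorElement_eq_one_iff_commute]
  have hk := F.faith.cls a ha b hb
  have hD := F.comm_mem_D hS ha hb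
  refine eq_one_of_inverted hS.hp2 ((F.D_elem hS).2 _ hD) (u := v) ?_ (F.D_comm hS hv.2 hD)
  rw [conj_commutatorElement, hva, conj_eq_self hvb, comm_inv_left (hk a ha).symm]

theorem T_T2 {a b : G} (ha : a ∈ F.T) (hb : b ∈ F.T2) : Commute a b :=
  (F.commute_of_signs hS (F.T2_le hS hb) (F.T_le hS ha) (F.T2_z hS hb) (F.T_inv hS ha) (F.w_mem_X hS)
    (F.T2_w hS hb) (F.T_w hS ha)).symm

theorem V_elem : Cfsg.IsElementaryAbelian 3 F.V :=
  elementary_sup (F.T_elem hS) (F.T2_elem hS) fun _ ha _ hb => F.T_T2 hS ha hb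

theorem V_le : F.V ≤ F.Q := sup_le (F.T_le hS) (F.T2_le hS)

theorem V_inv {v : G} (hv : v ∈ F.V) : F.z * v * F.z⁻¹ = v⁻¹ := by
  obtain ⟨a, ha, b, hb, rfl⟩ := (Coprime.mem_sup_iff (show F.T2 ≤ normalizer (F.T : Set G) from fun b hb =>
    centralizer_le_normalizer _ (mem_centralizer_iff.mpr fun a ha => (F.T_T2 hS ha hb).eq))).mp hv
  rw [← conj_mul, F.T_inv hS ha, F.T2_z hS hb, mul_inv_rev, ((F.T_T2 hS ha hb).inv_inv).eq]

theorem V_card : Nat.card F.V = 81 := by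
  have hn : F.T2 ≤ normalizer (F.T : Set G) := fun b hb =>
    centralizer_le_normalizer _ (mem_centralizer_iff.mpr fun a ha => (F.T_T2 hS ha hb).eq)
  rw [FD.V, Coprime.card_sup hn ((eq_bot_iff_forall _).mpr fun a ha =>
    eq_one_of_inverted hS.hp2 ((F.T_elem hS).2 a ha.1) (F.T2_w hS ha.2) (F.T_w hS ha.1)), F.T9 hS, F.T2_card hS]

theorem inter_ne_bot {U1 U2 : Subgroup G} (h1 : U1 ≤ F.V) (h2 : U2 ≤ F.V)
    (hc : 81 < Nat.card U1 * Nat.card U2) : ∃ v, v ∈ U1 ∧ v ∈ U2 ∧ v ≠ 1 := by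
  by_contra h
  push Not at h
  have hn : U2 ≤ normalizer (U1 : Set G) := fun b hb => centralizer_le_normalizer _
    (mem_centralizer_iff.mpr fun a ha => (commute_of_elementaryAbelian (F.V_elem hS) (h1 ha) (h2 hb)).eq)
  have hs := Coprime.card_sup hn ((eq_bot_iff_forall _).mpr fun a ha => h a ha.1 ha.2)
  have := card_le_of_le (sup_le h1 h2)
  rw [hs, F.V_card hS] at this
  omega

theorem exists_derived_FD :
    ∃ F' : FD 3 3 G, F'.z = F.w ∧ F'.B = F.E ∧ ¬ F.D ≤ F'.A1 ∧ F.x ∉ F'.A1 ∧ F'.D ≤ F.T := by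
  obtain ⟨S', hb⟩ := F.exists_derived hS
  obtain ⟨A, hA, hxA⟩ := F.exists_derived_plane hS hb
  obtain ⟨hnz, -⟩ := F.not_normalized hS hb hA hxA
  have hA2 := FD.map_conj_isPlane hb hA (show Commute F.z F.w from F.quad.z_w hS) (F.q1_normalizer hS).2
  obtain ⟨F', e1, e2, -, e4, e5⟩ := exists_FD hS hb hA hA2 (fun e => hnz
    (Components.mem_normalizer_of_map_conj_eq e.symm))
  refine ⟨F', e1, e2, e4 ▸ F.not_D_le hS hb hA, e4 ▸ hxA, fun a ha => ?_⟩
  have ha1 : a ∈ A := e4 ▸ ha.1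
  obtain ⟨a', ha', hae⟩ : a ∈ A.map (MulAut.conj F.z).toMonoidHom := e5 ▸ ha.2
  have hae' : F.z * a' * F.z⁻¹ = a := hae
  have hza : F.z * a * F.z⁻¹ ∈ A := by
    rw [← hae', show F.z * (F.z * a' * F.z⁻¹) * F.z⁻¹ = (F.z * F.z) * a' * (F.z * F.z)⁻¹ by group, F.z_sq hS]
    simpa using ha'
  obtain ⟨d, hd, t, ht, rfl⟩ := F.mem_E hS (hA.1 ha1)
  rw [← conj_mul, conj_eq_self (F.z_D hS hd), F.T_inv hS ht] at hza
  have hc := F.D_T_comm hS hd ht
  have htA : t ∈ A := by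
    have h := mul_mem (inv_mem ha1) hza
    have h3 : t ^ 3 = 1 := (F.T_elem hS).2 t ht
    rwa [mul_inv_rev, mul_assoc t⁻¹, inv_mul_cancel_left,
      show t⁻¹ * t⁻¹ = t by rw [← mul_inv_rev, inv_eq_iff_mul_eq_one, mul_assoc, ← pow_two, ← pow_succ', h3]] at h
  rw [F.D_inf hS (F.not_D_le hS hb hA) hd (by simpa using mul_mem ha1 (inv_mem htA)), one_mul]
  exact ht

/-- An element inverted by `z` and `w` lies in the derived kernel. -/
theorem J_kset {F' : FD 3 3 G} (e1 : F'.z = F.w) (eD : F'.D ≤ F.T) {g : G} (hg : g ∈ F.Q)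
    (hgz : F.z * g * F.z⁻¹ = g⁻¹) (hgw : F.w * g * F.w⁻¹ = g⁻¹) : g ∈ F'.kset := by
  refine F'.mem_kset_of_inverted hS (mem_centralizer_iff.mpr fun t ht => ?_) (by rw [e1]; exact hgw)
    (coprime_two_of_three F.faith.pgroup hg)
  exact (F.commute_of_signs hS hg (F.T_le hS (eD ht)) hgz (F.T_inv hS (eD ht)) (F.w_mem_X hS) hgw
    (F.T_w hS (eD ht))).symm.eq

theorem J_commute {g g' : G} (hg : g ∈ F.Q) (hgz : F.z * g * F.z⁻¹ = g⁻¹) (hgw : F.w * g * F.w⁻¹ = g⁻¹)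
    (hg' : g' ∈ F.Q) (hg'z : F.z * g' * F.z⁻¹ = g'⁻¹) (hg'w : F.w * g' * F.w⁻¹ = g'⁻¹) : Commute g g' := by
  obtain ⟨F', e1, e2, hDA, -, eD⟩ := F.exists_derived_FD hS
  have h1 := F.J_kset hS e1 eD hg hgz hgw
  have h2 := F.J_kset hS e1 eD hg' hg'z hg'w
  rw [← commutatorElement_eq_one_iff_commute]
  have hd := F.comm_mem_D hS hg hg'
  set d := ⁅g, g'⁆ with hddef
  have hdk : d ∈ F'.kset := by
    rw [hddef, commutatorElement_def]
    exact mul_mem (mul_mem (mul_mem h1 h2) (inv_mem h1)) (inv_mem h2)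
  have hdz : Commute d F'.z := by rw [e1]; exact (F.D_comm hS (F.w_mem_X hS).2 hd).symm
  have hc : Commute F'.q1 d :=
    F'.free hS (F'.kset_pgroup hS) (F'.cent_le_normalizer_kset hS) hdk hdz (F'.q1_mem_X hS)
  refine F.D_inf hS hDA hd ?_
  by_contra hdA
  have hq := F'.quad.base.fixed_mem F'.quad.pl1 hS.hp2 (by norm_num) (e2 ▸ mem_sup_left hd) hdA F'.quad.hq1 hc.symm
  rcases F'.quad.base.mem_zpowers_cases hq with e | e
  · exact F'.quad.base.z_ne_one (by rw [← F'.quad.q1sq, e, one_pow])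
  · exact F'.quad.base.z_ne_one (by rw [← F'.quad.q1sq, e, pow_two]; exact F'.quad.base.zz)

/-- The elements inverted by `z` and fixed by `w` form `T`. -/
theorem mem_T_of_signs {g : G} (hg : g ∈ F.Q) (hgz : F.z * g * F.z⁻¹ = g⁻¹) (hgw : Commute F.w g) :
    g ∈ F.T := by
  have hX := F.r1_mem_X hS
  have hcT : ∀ t ∈ F.T, Commute g t := fun t ht => by
    have h := F.J_commute hS (F.conj_Q hS hX.2 hg) (F.conj_inverted hS (F.conj_z_X hS hX) hgz)
      (F.flip hS hgz hgw) (F.conj_Q hS hX.2 (F.T_le hS ht))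
      (F.conj_inverted hS (F.conj_z_X hS hX) (F.T_inv hS ht)) (F.flip hS (F.T_inv hS ht) (F.T_w hS ht))
    simpa [mul_assoc] using (h.map (MulAut.conj F.r1⁻¹).toMonoidHom)
  obtain ⟨d, hd, t, ht, rfl⟩ := F.mem_E hS (F.mem_E_of_commute hS hg hgw.symm
    (hcT _ (mem_sup_left (mem_zpowers _))) (hcT _ (mem_sup_right (mem_zpowers _))))
  have : d = 1 := by
    refine eq_one_of_inverted hS.hp2 ((F.D_elem hS).2 d hd) (u := F.z) ?_ (F.z_D hS hd)
    rw [← conj_mul, F.T_inv hS ht, mul_inv_rev] at hgz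
    exact mul_right_cancel (hgz.trans (F.D_T_comm hS hd ht).inv_inv.eq.symm)
  rw [this, one_mul]
  exact ht

theorem mem_T2_of_signs {g : G} (hg : g ∈ F.Q) (hgz : F.z * g * F.z⁻¹ = g⁻¹)
    (hgw : F.w * g * F.w⁻¹ = g⁻¹) : g ∈ F.T2 := by
  have h := F.mem_T_of_signs hS (F.conj_Q hS (F.r1_mem_X hS).2 hg)
    (F.conj_inverted hS (F.conj_z_X hS (F.r1_mem_X hS)) hgz) (F.flip' hS hgz hgw)
  have h2 : F.r1 * (F.r1 * g * F.r1⁻¹) * F.r1⁻¹ ∈ F.T2 := ⟨_, h, rfl⟩
  rw [show F.r1 * (F.r1 * g * F.r1⁻¹) * F.r1⁻¹ = F.r1 ^ 2 * g * (F.r1 ^ 2)⁻¹ by rw [pow_two]; group,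
    F.quad.r1sq, hgz] at h2
  simpa using inv_mem h2

theorem mem_V {q : G} (hq : q ∈ F.Q) (hqz : F.z * q * F.z⁻¹ = q⁻¹) : q ∈ F.V := by
  have hw := F.w_mem_X hS
  set b := F.w * q * F.w⁻¹ with hb
  have hbQ : b ∈ F.Q := F.conj_Q hS hw.2 hq
  have hbz : F.z * b * F.z⁻¹ = b⁻¹ := F.conj_inverted hS (F.conj_z_X hS hw) hqz
  have hwb : F.w * b * F.w⁻¹ = q := by
    rw [hb, show F.w * (F.w * q * F.w⁻¹) * F.w⁻¹ = (F.w * F.w) * q * (F.w * F.w)⁻¹ by group, F.w_sq hS]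
    simp
  clear_value b
  have hc : Commute q b := by
    rw [← commutatorElement_eq_one_iff_commute]
    have hD := F.comm_mem_D hS hq hbQ
    refine eq_one_of_inverted hS.hp2 ((F.D_elem hS).2 _ hD) (u := F.w) ?_ (F.D_comm hS hw.2 hD)
    rw [conj_commutatorElement, hwb, ← hb, commutatorElement_inv]
  have h1 : q * b ∈ F.T := F.mem_T_of_signs hS (mul_mem hq hbQ)
    (by rw [← conj_mul, hqz, hbz, mul_inv_rev, (hc.inv_inv).eq])
    (commute_of_conj_eq (by rw [← conj_mul, hwb, ← hb, hc.eq]))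
  have h2 : q * b⁻¹ ∈ F.T2 := F.mem_T2_of_signs hS (mul_mem hq (inv_mem hbQ))
    (by rw [← conj_mul, ← conj_inv, hqz, hbz, mul_inv_rev, inv_inv, (hc.symm.inv_right).eq])
    (by rw [← conj_mul, ← conj_inv, hwb, ← hb, mul_inv_rev, inv_inv])
  have h : q * b * (q * b⁻¹) ∈ F.V := mul_mem (mem_sup_left h1) (mem_sup_right h2)
  rw [hc.eq, show b * q * (q * b⁻¹) = b * (q * q) * b⁻¹ by group, conj_eq_self (hc.symm.mul_right hc.symm)] at h
  rw [show q = q * q * (q * q) by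
    rw [← mul_assoc, mul_assoc q q q, show q * (q * q) = q ^ 3 by rw [pow_succ', pow_two], F.faith.exp q hq, one_mul]]
  exact mul_mem h h

theorem conj_V {g v : G} (hgD : g ∈ centralizer (F.D : Set G)) (hgz : Commute g F.z) (hv : v ∈ F.V) :
    g * v * g⁻¹ ∈ F.V :=
  F.mem_V hS (F.conj_Q hS hgD (F.V_le hS hv)) (F.conj_inverted hS hgz (F.V_inv hS hv))

/-- An element of `C(D)` centralising `V` centralises `Q`. -/
theorem commute_Q {g : G} (hg : g ∈ centralizer (F.D : Set G)) (hV : ∀ v ∈ F.V, Commute g v) :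
    ∀ q ∈ F.Q, Commute g q := fun q hq => by
  obtain ⟨d, hd, -, t, ht, htz, rfl⟩ := F.decomp hS hq
  exact (F.D_comm hS hg hd).mul_right (hV t (F.mem_V hS ht htz))

theorem commute_V {g : G} (hx : Commute g F.x) (hy : Commute g F.y)
    (hx2 : Commute g (F.r1 * F.x * F.r1⁻¹)) (hy2 : Commute g (F.r1 * F.y * F.r1⁻¹)) :
    ∀ v ∈ F.V, Commute g v := by
  intro v hv
  refine (commute_sup (fun a ha => ?_) (fun a ha => ?_) v hv).symm
  · obtain ⟨i, j, rfl⟩ := F.mem_T hS ha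
    exact ((hx.zpow_right i).mul_right (hy.zpow_right j)).symm
  · obtain ⟨a, ha, rfl⟩ := ha
    obtain ⟨i, j, rfl⟩ := F.mem_T hS ha
    show Commute (F.r1 * (F.x ^ i * F.y ^ j) * F.r1⁻¹) g
    rw [← conj_mul, ← conj_zpow, ← conj_zpow]
    exact ((hx2.zpow_right i).mul_right (hy2.zpow_right j)).symm

theorem eq_one_of_fix_V {s : G} (hs : s ∈ F.X) (h : ∀ v ∈ F.V, Commute s v) : s = 1 :=
  F.faith.faith s hs.2 (coprime_of_mem_twoGroup hS.hp2 F.quad.base.symp.pgroup hs.1) (F.commute_Q hS hs.2 h)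

/-- Only `⟨z⟩` commutes with all generators in `X`. -/
theorem mem_zpowers_of_commute {s : G} (hs : s ∈ F.X) (hq1 : Commute s F.q1) (hr1 : Commute s F.r1)
    (hq2 : Commute s F.q2) (hr2 : Commute s F.r2) : s ∈ zpowers F.z := by
  have key : ∀ s ∈ F.X, Commute s F.q1 → Commute s F.r1 → Commute s F.x → s = 1 := by
    intro s hs hq hr hx
    have hy : Commute s F.y := (hq.mul_right hx).mul_right hq.inv_right
    exact F.eq_one_of_fix_V hS hs (F.commute_V hS hx hy ((hr.mul_right hx).mul_right hr.inv_right)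
      ((hr.mul_right hy).mul_right hr.inv_right))
  have hsw : Commute s F.w := hq1.mul_right hq2
  have hsu : Commute s F.u := hr1.mul_right hr2
  have hsx : s * F.x * s⁻¹ ∈ zpowers F.x := by
    refine F.T_u hS (F.mem_T_of_signs hS (F.conj_Q hS hs.2 F.hx) (F.conj_inverted hS (F.conj_z_X hS hs) F.zx)
      (commute_of_conj_eq ?_)) (commute_of_conj_eq ?_)
    · rw [conj_transfer (a := F.w) (e := F.w) hsw.symm.eq, conj_eq_self (a := F.w) F.wx]
    · rw [conj_transfer (a := F.u) (e := F.u) hsu.symm.eq, conj_eq_self (a := F.u) F.ux]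
  rcases cases_zpowers_three (F.faith.exp _ F.hx) hsx with e | e | e
  · exact absurd (conj_eq_one_iff.mp e) F.x_ne
  · rw [key s hs hq1 hr1 (commute_of_conj_eq e)]; exact one_mem _
  · have hz := F.conj_z_X hS hs
    have := key (F.z * s) (mul_mem (F.z_mem_X hS) hs)
      ((F.conj_z_X hS (F.q1_mem_X hS)).symm.mul_left hq1) ((F.conj_z_X hS (F.r1_mem_X hS)).symm.mul_left hr1)
      (commute_of_conj_eq (by
        rw [show F.z * s * F.x * (F.z * s)⁻¹ = F.z * (s * F.x * s⁻¹) * F.z⁻¹ by group, e, ← conj_inv, F.zx,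
          inv_inv]))
    rw [eq_inv_of_mul_eq_one_right this]
    exact inv_mem (mem_zpowers _)

theorem no_third {A3 : Subgroup G} (h3 : IsPlane 3 3 F.B F.S A3) (hD : F.D ≤ A3) :
    A3 = F.A1 ∨ A3 = F.A2 := by
  by_contra h
  push Not at h
  obtain ⟨q, r, hq, -, hqs, -, -⟩ := F.quad.base.exists_generators hS h3
  have hqX : q ∈ F.X := ⟨(F.quad.base.group_le h3 hq).1, centralizer_le hD (F.quad.base.group_le h3 hq).2⟩
  have hc1 : ∀ c ∈ planeGroup F.z F.B F.S F.A1, Commute q c := fun c hc =>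
    F.quad.base.commute_planes h3 F.quad.pl1.1 F.quad.pl1.2.1 h.1 (by norm_num) hq (F.quad.base.group_le F.quad.pl1 hc)
  have hc2 : ∀ c ∈ planeGroup F.z F.B F.S F.A2, Commute q c := fun c hc =>
    F.quad.base.commute_planes h3 F.quad.pl2.1 F.quad.pl2.2.1 h.2 (by norm_num) hq (F.quad.base.group_le F.quad.pl2 hc)
  have hmem := F.mem_zpowers_of_commute hS hqX (hc1 _ F.quad.hq1) (hc1 _ F.quad.hr1) (hc2 _ F.quad.hq2)
    (hc2 _ F.quad.hr2)
  rcases F.quad.base.mem_zpowers_cases hmem with e | e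
  · exact F.quad.base.z_ne_one (by rw [← hqs, e, one_pow])
  · exact F.quad.base.z_ne_one (by rw [← hqs, e, pow_two]; exact F.z_sq hS)

theorem kset_comm_conj {g s v : G} (hs : s ∈ F.X) (hg : g ∈ F.kset) (hv : v ∈ F.Q) :
    ⁅s * g * s⁻¹, v⁆ = ⁅g, s⁻¹ * v * s⁆ := by
  have h : s⁻¹ * v * s⁻¹⁻¹ ∈ F.Q := F.conj_Q hS (inv_mem hs.2) hv
  rw [inv_inv] at h
  rw [← conj_eq_self (F.D_comm hS hs.2 (hg.2 _ h))]
  simp only [commutatorElement_def]; group

theorem kset_comm_mul {g h v : G} (hg : g ∈ F.kset) (hh : h ∈ F.kset) (hv : v ∈ F.Q) :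
    ⁅g * h, v⁆ = ⁅h, v⁆ * ⁅g, v⁆ := by
  rw [show ⁅g * h, v⁆ = g * ⁅h, v⁆ * g⁻¹ * ⁅g, v⁆ by simp only [commutatorElement_def]; group,
    conj_eq_self (F.D_comm hS hg.1 (hh.2 v hv))]

/-- The kernel centralises `x`. -/
theorem kset_x {g0 : G} (hg0 : g0 ∈ F.kset) : Commute g0 F.x := by
  rw [← commutatorElement_eq_one_iff_commute]
  by_contra hne
  have hyQ := F.y_mem hS
  have hcD : ⁅g0, F.x⁆ ∈ F.D := hg0.2 _ F.hx
  have hXk : ∀ {s g}, s ∈ F.X → g ∈ F.kset → s * g * s⁻¹ ∈ F.kset := fun hs hg => F.kset_conj hS hs.2 hg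
  have hu := F.u_mem_X hS
  have huk := hXk hu hg0
  have hui : F.u⁻¹ = F.u := inv_eq_of_mul_eq_one_right (by rw [← pow_two]; exact F.quad.u_sq hS)
  -- `g1` moves `x` and fixes `y`
  set g1 := g0 * (F.u * g0 * F.u⁻¹) with hg1def
  have hg1 : g1 ∈ F.kset := mul_mem hg0 huk
  have h1x : ⁅g1, F.x⁆ = ⁅g0, F.x⁆ * ⁅g0, F.x⁆ := by
    rw [hg1def, F.kset_comm_mul hS hg0 huk F.hx, F.kset_comm_conj hS hu hg0 F.hx, mul_assoc F.u⁻¹,
      ← (show Commute F.u F.x from F.ux).eq, inv_mul_cancel_left]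
  have h1y : ⁅g1, F.y⁆ = 1 := by
    rw [hg1def, F.kset_comm_mul hS hg0 huk hyQ, F.kset_comm_conj hS hu hg0 hyQ]
    conv_lhs => arg 1; arg 2; rw [hui]; arg 2; rw [← hui]
    rw [F.uy hS, comm_inv_right (F.D_comm hS (F.Q_le hS hyQ) (hg0.2 _ hyQ)), inv_mul_cancel]
  have hw := F.w_mem_X hS
  have hwi : F.w⁻¹ = F.w := inv_eq_of_mul_eq_one_right (F.w_sq hS)
  set k := F.w * g1 * F.w⁻¹ * g1⁻¹ with hkdef
  have hk : k ∈ F.kset := mul_mem (hXk hw hg1) (inv_mem hg1)
  have hkfix : ∀ v ∈ F.Q, Commute F.w v → ⁅k, v⁆ = 1 := fun v hv hwv => by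
    rw [hkdef, F.kset_comm_mul hS (hXk hw hg1) (inv_mem hg1) hv, F.kset_comm_conj hS hw hg1 hv,
      mul_assoc F.w⁻¹, ← hwv.eq, inv_mul_cancel_left, ← F.kset_comm_mul hS hg1 (inv_mem hg1) hv, mul_inv_cancel,
      commutatorElement_one_left]
  obtain ⟨m, hm⟩ := exists_fixed_translate (g := g1) (F.w_sq hS) (coprime_two_of_three (F.kset_pgroup hS) hk)
  set g := k ^ m * g1 with hgdef
  have hg : g ∈ F.kset := mul_mem (pow_mem hk m) hg1
  have hkpow : ∀ v ∈ F.Q, Commute F.w v → ⁅k ^ m, v⁆ = 1 := fun v hv hwv =>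
    commutatorElement_eq_one_iff_commute.mpr ((commutatorElement_eq_one_iff_commute.mp (hkfix v hv hwv)).pow_left m)
  have hgx : ⁅g, F.x⁆ = ⁅g0, F.x⁆ * ⁅g0, F.x⁆ := by
    rw [hgdef, F.kset_comm_mul hS (pow_mem hk m) hg1 F.hx, hkpow _ F.hx F.wx, mul_one, h1x]
  have hgy : Commute g F.y := by
    rw [← commutatorElement_eq_one_iff_commute, hgdef, F.kset_comm_mul hS (pow_mem hk m) hg1 hyQ,
      hkpow _ hyQ (F.wy hS), mul_one, h1y]
  have hgnx : ¬ Commute g F.x := fun h => by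
    rw [commutatorElement_eq_one_iff_commute.mpr h] at hgx
    have h3 := (F.D_elem hS).2 _ hcD
    rw [pow_succ, pow_two, ← hgx, one_mul] at h3
    exact hne h3
  clear_value g
  -- the action of `g` on the derived planes
  obtain ⟨S', hb⟩ := F.exists_derived hS
  obtain ⟨A, hA, hxA⟩ := F.exists_derived_plane hS hb
  have hgE : ∀ e ∈ F.E, ⁅g, e⁆ ∈ F.D := fun e he => by
    obtain ⟨d, hd, t, ht, rfl⟩ := F.mem_E hS he
    rw [show ⁅g, d * t⁆ = ⁅g, d⁆ * (d * ⁅g, t⁆ * d⁻¹) by simp only [commutatorElement_def]; group,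
      commutatorElement_eq_one_iff_commute.mpr (F.D_comm hS hg.1 hd), one_mul]
    exact mul_mem (mul_mem hd (hg.2 t (F.T_le hS ht))) (inv_mem hd)
  have hgN : g ∈ normalizer (F.E : Set G) := by
    refine Components.mem_normalizer_of_map_conj_eq (eq_of_le_of_card_ge ?_
      (card_map_of_injective (MulAut.conj g).injective).ge)
    rintro _ ⟨e, he, rfl⟩
    show g * e * g⁻¹ ∈ F.E
    rw [show g * e * g⁻¹ = ⁅g, e⁆ * e by simp [commutatorElement_def]]
    exact mul_mem (mem_sup_left (hgE e he)) he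
  have hnA : g ∉ normalizer (A : Set G) := fun h => hgnx (by
    have hcA : ∀ a ∈ A, Commute g a := fun a ha => by
      rw [← commutatorElement_eq_one_iff_commute]
      refine F.D_inf hS (F.not_D_le hS hb hA) (hgE a (hA.1 ha)) ?_
      rw [commutatorElement_def]
      exact mul_mem ((mem_normalizer_iff.mp h a).mp ha) (inv_mem ha)
    exact (commute_sup (fun a ha => (hcA a ha).symm) (fun d hd => (F.D_comm hS hg.1 hd).symm) F.x
      (F.sup_D_eq hS hb hA ▸ mem_sup_right (mem_sup_left (mem_zpowers _)))).symm)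
  have hg3 : g ^ 3 ∈ normalizer (A : Set G) := centralizer_le_normalizer _ (mem_centralizer_iff.mpr fun a ha => by
    have hcD' := hgE a (hA.1 ha)
    refine (commute_of_conj_eq ?_ : Commute (g ^ 3) a).eq.symm
    have h1 : g * a * g⁻¹ = ⁅g, a⁆ * a := by simp [commutatorElement_def]
    have hgc := F.D_comm hS hg.1 hcD'
    rw [conj_cube h1 hgc, (F.D_elem hS).2 _ hcD', one_mul])
  have hgw : Commute g F.w := hm.symm
  set P1 := A.map (MulAut.conj g).toMonoidHom with hP1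
  set P2 := A.map (MulAut.conj (g ^ 2)).toMonoidHom with hP2
  have hpl1 := FD.map_conj_isPlane hb hA hgw hgN
  have hpl2 := FD.map_conj_isPlane hb hA (hgw.pow_left 2) (pow_mem hgN 2)
  have hne1 : A ≠ P1 := fun e => hnA (Components.mem_normalizer_of_map_conj_eq e.symm)
  have hne2 : A ≠ P2 := fun e => hnA (by
    have h2 : g ^ 2 ∈ normalizer (A : Set G) := Components.mem_normalizer_of_map_conj_eq e.symm
    have := mul_mem (inv_mem h2) hg3
    rwa [show (g ^ 2)⁻¹ * g ^ 3 = g by group] at this)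
  have hne12 : P1 ≠ P2 := fun e => hnA (by
    have h := congrArg (Subgroup.map (MulAut.conj g⁻¹).toMonoidHom) e
    rw [hP1, hP2, FD.conj_conj_map, FD.conj_conj_map, inv_mul_cancel, map_one,
      show g⁻¹ * g ^ 2 = g by rw [pow_two, inv_mul_cancel_left],
      show (1 : MulAut G).toMonoidHom = MonoidHom.id G from rfl, map_id] at h
    exact Components.mem_normalizer_of_map_conj_eq h.symm)
  obtain ⟨F'', f1, f2, f3, f4, f5⟩ := exists_FD hS hb hA hpl1 hne1
  -- a common point of the three planes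
  obtain ⟨a, haA, ha2, ha1⟩ : ∃ a, a ∈ A ∧ a ∈ F.D ⊔ zpowers F.y ∧ a ≠ 1 := by
    by_contra hh
    push Not at hh
    have hle : F.D ⊔ zpowers F.y ≤ F.E := sup_le_sup_left le_sup_right _
    have hn : F.D ⊔ zpowers F.y ≤ normalizer (A : Set G) := fun e he => centralizer_le_normalizer _
      (mem_centralizer_iff.mpr fun b hb' => (commute_of_elementaryAbelian (F.E_elem hS) (hA.1 hb') (hle he)).eq)
    have hs := Coprime.card_sup hn ((eq_bot_iff_forall _).mpr fun b hb' => hh b hb'.1 hb'.2)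
    have hle2 := card_le_of_le (sup_le hA.1 hle : A ⊔ (F.D ⊔ zpowers F.y) ≤ F.E)
    have hyD : F.y ∉ F.D := fun h => F.y_ne hS (F.eq_one_of_mem_D_T hS h (mem_sup_right (mem_zpowers _)))
    have h9 := card_mul_le ((isPGroup_of_elementaryAbelian (F.E_elem hS)).to_le hle) le_sup_left
      (mem_sup_right (mem_zpowers F.y)) hyD
    rw [F.D3 hS] at h9
    rw [hs, hA.2.1, F.E_card hS] at hle2
    norm_num at hle2
    omega
  have hga : Commute g a := (commute_sup (fun d hd => (F.D_comm hS hg.1 hd).symm)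
    (fun b hb' => by obtain ⟨i, rfl⟩ := hb'; exact hgy.symm.zpow_left i) a ha2).symm
  have haP1 : a ∈ P1 := ⟨a, haA, conj_eq_self hga⟩
  have haP2 : a ∈ P2 := ⟨a, haA, conj_eq_self (hga.pow_left 2)⟩
  have haD : a ∈ F''.D := ⟨f4 ▸ haA, f5 ▸ haP1⟩
  have hD2 : F''.D ≤ P2 := fun b hb' => zpowers_le.mpr haP2 (mem_of_order_three (F''.D3 hS) haD ha1 hb')
  have hP2' : IsPlane 3 3 F''.B F''.S P2 := by rw [f2, f3]; exact hpl2
  rcases F''.no_third hS hP2' hD2 with e | e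
  · exact hne2 (by rw [← f4, e])
  · exact hne12 (by rw [e, f5])

theorem kset_V {g : G} (hg : g ∈ F.kset) : ∀ v ∈ F.V, Commute g v := by
  have move : ∀ s ∈ F.X, Commute g (s * F.x * s⁻¹) := fun s hs => by
    have h := (F.kset_x hS (F.kset_conj hS (inv_mem hs.2) hg)).map (MulAut.conj s).toMonoidHom
    simpa [mul_assoc] using h
  refine F.commute_V hS (F.kset_x hS hg) (move _ (F.q1_mem_X hS)) (move _ (F.r1_mem_X hS)) ?_
  have := move _ (mul_mem (F.r1_mem_X hS) (F.q1_mem_X hS))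
  rwa [FD.y, show F.r1 * (F.q1 * F.x * F.q1⁻¹) * F.r1⁻¹ = F.r1 * F.q1 * F.x * (F.r1 * F.q1)⁻¹ by group]

/-- An element of `C(z) ⊓ C(D)` acting with order three and fixing a hyperplane of `V` fixes `x`. -/
theorem commute_x_of_fix {c : G} (hcD : c ∈ centralizer (F.D : Set G)) (hcz : Commute c F.z)
    (hc3 : ∀ q ∈ F.Q, Commute (c ^ 3) q) {t : G} (ht : t ∈ F.T) (ht1 : t ≠ 1) (hct : Commute c t)
    (hc2 : ∀ b ∈ F.T2, Commute c b) : Commute c F.x := by
  set U := zpowers t ⊔ F.T2 with hU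
  have hUV : U ≤ F.V := sup_le (le_sup_of_le_left (zpowers_le.mpr ht)) le_sup_right
  have hcU : ∀ v ∈ U, Commute c v := fun v hv => (commute_sup
    (fun a ha => by obtain ⟨i, rfl⟩ := ha; exact hct.symm.zpow_left i) (fun b hb => (hc2 b hb).symm) v hv).symm
  have hUc : Nat.card U = 27 := by
    have hn : F.T2 ≤ normalizer ((zpowers t : Subgroup G) : Set G) := fun b hb => centralizer_le_normalizer _
      (mem_centralizer_iff.mpr fun a ha => (F.T_T2 hS (zpowers_le.mpr ht ha) hb).eq)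
    rw [hU, Coprime.card_sup hn ((eq_bot_iff_forall _).mpr fun a ha =>
      eq_one_of_inverted hS.hp2 ((F.T_elem hS).2 a (zpowers_le.mpr ht ha.1)) (F.T2_w hS ha.2)
        (F.T_w hS (zpowers_le.mpr ht ha.1))), Nat.card_zpowers, orderOf_eq_prime ((F.T_elem hS).2 t ht) ht1,
      F.T2_card hS]
  have hcS : c ∈ normalizer (F.S : Set G) :=
    F.quad.base.symp.norm (mem_centralizer_singleton_iff.mpr hcz.eq)
  have hX : ∀ q ∈ F.X, ⁅c, q⁆ ∈ F.X := fun q hq => by
    refine Subgroup.mem_inf.mpr ⟨?_, ?_⟩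
    · rw [commutatorElement_def]
      exact mul_mem ((mem_normalizer_iff.mp hcS q).mp hq.1) (inv_mem hq.1)
    · rw [commutatorElement_def]
      exact mul_mem (mul_mem (mul_mem hcD hq.2) (inv_mem hcD)) (inv_mem hq.2)
  have hsmall : ∀ q ∈ F.X, ⁅c, q⁆ ^ 2 = 1 ∧ ⁅c, q⁆ ≠ F.z := by
    intro q hq
    have hqU : U.map (MulAut.conj q).toMonoidHom ≤ F.V := by
      rintro _ ⟨v, hv, rfl⟩
      exact F.conj_V hS hq.2 (F.conj_z_X hS hq) (hUV hv)
    obtain ⟨v, hv, ⟨v', hv', hvv⟩, hv1⟩ := F.inter_ne_bot hS hUV hqU (by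
      rw [card_map_of_injective (MulAut.conj q).injective, hUc]; norm_num)
    have hvv' : q * v' * q⁻¹ = v := hvv
    have hh : Commute ⁅c, q⁆ v := commute_of_conj_eq (by
      calc ⁅c, q⁆ * v * ⁅c, q⁆⁻¹ = c * (q * (c⁻¹ * (q⁻¹ * v * q) * c) * q⁻¹) * c⁻¹ := by
            simp only [commutatorElement_def]; group
        _ = c * (q * (c⁻¹ * v' * c) * q⁻¹) * c⁻¹ := by rw [← hvv']; group
        _ = c * v * c⁻¹ := by rw [mul_assoc c⁻¹, ← (hcU v' hv').eq, inv_mul_cancel_left, hvv']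
        _ = v := conj_eq_self (hcU v hv))
    have hnz : ¬ Commute F.z v := fun h => hv1 (eq_one_of_inverted hS.hp2 ((F.V_elem hS).2 v (hUV hv))
      (F.V_inv hS (hUV hv)) h)
    refine ⟨(F.quad.base.symp.sq _ (hX q hq).1).resolve_right fun e => hnz (e ▸ hh.pow_left 2), fun e => hnz (e ▸ hh)⟩
  have hcomm : ∀ q ∈ F.X, ∀ q' ∈ F.X, Commute ⁅c, q⁆ ⁅c, q'⁆ := by
    intro q hq q' hq'
    have hi : ∀ a : G, a ^ 2 = 1 → a⁻¹ = a := fun a ha => inv_eq_of_mul_eq_one_right (by rw [← pow_two, ha])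
    have hsq : (⁅c, q⁆ * ⁅c, q'⁆) ^ 2 = 1 := by
      have h := (hsmall _ (mul_mem hq hq')).1
      rw [show ⁅c, q * q'⁆ = ⁅c, q⁆ * (q * ⁅c, q'⁆ * q⁻¹) by simp only [commutatorElement_def]; group] at h
      rcases F.quad.base.conj_cases hq.1 (hX q' hq').1 with e | e <;> rw [e] at h
      · exact h
      · rw [← mul_assoc, (F.conj_z_X hS (hX q hq)).eq, mul_assoc,
          ((F.conj_z_X hS (hX q hq)).mul_left (F.conj_z_X hS (hX q' hq'))).symm.mul_pow, pow_two F.z,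
          F.z_sq hS, one_mul] at h
        exact h
    have := hi _ hsq
    rw [mul_inv_rev, hi _ (hsmall q hq).1, hi _ (hsmall q' hq').1] at this
    exact this.symm
  have hfix : ∀ r ∈ F.X, Commute c ⁅c, r⁆ := by
    intro r hr
    set b := ⁅c, ⁅c, r⁆⁆ with hbdef
    have hbX := hX _ (hX r hr)
    have hb : ∀ q ∈ F.X, Commute b q := by
      intro q hq
      set q'' := ⁅c, r⁆ with hq''
      have ha : c * q * c⁻¹ = ⁅c, q⁆ * q := by simp [commutatorElement_def]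
      have hb' : c * q'' * c⁻¹ = b * q'' := by simp [hbdef, commutatorElement_def]
      obtain ⟨e, he, hqe⟩ : ∃ e, (e = 1 ∨ e = F.z) ∧ q * q'' = e * (q'' * q) :=
        ⟨⁅q, q''⁆, F.quad.base.symp.comm q hq.1 q'' (hX r hr).1, by simp only [commutatorElement_def]; group⟩
      have hec : ∀ s, s ∈ F.X → Commute e s := fun s hs => by
        rcases he with rfl | rfl
        exacts [Commute.one_left s, (F.conj_z_X hS hs).symm]
      have hce : c * e * c⁻¹ = e := by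
        rcases he with rfl | rfl
        exacts [by simp, conj_eq_self hcz]
      have h := congrArg (fun s => c * s * c⁻¹) hqe
      simp only [← conj_mul, ha, hb', hce] at h
      have hab : Commute ⁅c, q⁆ b := hcomm q hq _ (hX r hr)
      have haq : Commute ⁅c, q⁆ q'' := hcomm q hq r hr
      -- `⁅c,q⁆ q b q'' = e b q'' ⁅c,q⁆ q`
      have h' : ⁅c, q⁆ * (q * b * q'') = ⁅c, q⁆ * (b * q * q'') := by
        calc ⁅c, q⁆ * (q * b * q'') = ⁅c, q⁆ * q * (b * q'') := by group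
          _ = e * (b * q'' * (⁅c, q⁆ * q)) := h
          _ = e * ((b * q'' * ⁅c, q⁆) * q) := by group
          _ = e * (⁅c, q⁆ * (b * q'') * q) := by rw [(hab.mul_right haq).eq]
          _ = (e * ⁅c, q⁆) * b * (q'' * q) := by group
          _ = ⁅c, q⁆ * (e * b) * (q'' * q) := by rw [(hec _ (hX q hq)).eq]; group
          _ = ⁅c, q⁆ * (b * (e * (q'' * q))) := by rw [(hec b hbX).eq]; group
          _ = _ := by rw [← hqe]; group
      exact (mul_right_cancel (mul_left_cancel h')).symm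
    rcases F.quad.base.mem_zpowers_cases (F.mem_zpowers_of_commute hS hbX (hb _ (F.q1_mem_X hS))
      (hb _ (F.r1_mem_X hS)) (hb _ (F.q2_mem_X hS)) (hb _ (F.r2_mem_X hS))) with e | e
    · exact commutatorElement_eq_one_iff_commute.mp e
    · exact absurd e (hsmall _ (hX r hr)).2
  have hq1 : ∀ q ∈ F.X, Commute c q := by
    intro q hq
    have h0 : c * q * c⁻¹ = ⁅c, q⁆ * q := by simp [commutatorElement_def]
    have h3 : c ^ 3 * q * (c ^ 3)⁻¹ = ⁅c, q⁆ ^ 3 * q := conj_cube h0 (hfix q hq)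
    have hk : ⁅c, q⁆ ^ 3 = ⁅c, q⁆ := by rw [pow_succ, (hsmall q hq).1, one_mul]
    rw [← commutatorElement_eq_one_iff_commute]
    refine F.eq_one_of_fix_V hS (hX q hq) fun v hv => commute_of_conj_eq ?_
    rw [← hk, show ⁅c, q⁆ ^ 3 = c ^ 3 * q * (c ^ 3)⁻¹ * q⁻¹ by rw [h3, mul_inv_cancel_right]]
    have hw : q⁻¹ * v * q ∈ F.Q := by simpa using F.conj_Q hS (inv_mem hq.2) (F.V_le hS hv)
    calc c ^ 3 * q * (c ^ 3)⁻¹ * q⁻¹ * v * (c ^ 3 * q * (c ^ 3)⁻¹ * q⁻¹)⁻¹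
        = c ^ 3 * (q * ((c ^ 3)⁻¹ * (q⁻¹ * v * q) * c ^ 3) * q⁻¹) * (c ^ 3)⁻¹ := by group
      _ = c ^ 3 * v * (c ^ 3)⁻¹ := by
        rw [mul_assoc (c ^ 3)⁻¹, ← (hc3 _ hw).eq, inv_mul_cancel_left]; group
      _ = v := conj_eq_self (hc3 v (F.V_le hS hv))
  have hr := hq1 _ (F.r1_mem_X hS)
  have h2 : Commute c (F.r1 * F.x * F.r1⁻¹) := hc2 _ ⟨F.x, mem_sup_left (mem_zpowers _), rfl⟩
  have := (hr.inv_right.mul_right h2).mul_right hr
  simpa [mul_assoc] using this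

/-- `B` fixes at most three elements of `V`. -/
theorem cent_B_small : Nat.card ↥(F.V ⊓ centralizer (F.B : Set G)) ≤ 3 := by
  have disj : ∀ {A : Subgroup G}, IsPlane 3 3 F.B F.S A → ∀ {q b : G}, q ∈ planeGroup F.z F.B F.S A →
      q ∈ F.X → q ^ 2 = F.z → b ∈ F.B → b ∉ A →
      ∀ v, v ∈ F.V → Commute b v → Commute b (q⁻¹ * v * q) → v = 1 := by
    intro A hA q b hq hqX hqs hbB hbA v hv hbv hbv'
    have hqz : q ∉ zpowers F.z := fun h => F.quad.base.z_ne_one (by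
      rcases F.quad.base.mem_zpowers_cases h with e | e <;> rw [← hqs, e]
      exacts [one_pow 2, by rw [pow_two]; exact F.z_sq hS])
    have hnot : ¬ ⁅b, q⁆ ∈ zpowers F.z := fun h => hqz (F.quad.base.moved hA hS.hp2 (by norm_num) hbB hbA hq
      (by rwa [commutatorElement_def] at h))
    have hmem : ⁅b, q⁆ ∈ F.S := (F.quad.base.comm_mem hA hbB (F.quad.base.group_le hA hq)).1
    have hh : Commute ⁅b, q⁆ v := commute_of_conj_eq (by
      calc ⁅b, q⁆ * v * ⁅b, q⁆⁻¹ = b * (q * (b⁻¹ * (q⁻¹ * v * q) * b) * q⁻¹) * b⁻¹ := by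
            simp only [commutatorElement_def]; group
        _ = b * v * b⁻¹ := by rw [mul_assoc b⁻¹, ← hbv'.eq, inv_mul_cancel_left]; group
        _ = v := conj_eq_self hbv)
    rcases F.quad.base.symp.sq _ hmem with e | e
    · exfalso
      apply hnot
      have hK : ⁅b, q⁆ ∈ planeGroup F.z F.B F.S A :=
        subset_closure (Or.inr ⟨b, hbB, q, F.quad.base.group_le hA hq, rfl⟩)
      by_contra hne
      obtain ⟨-, hsq⟩ := F.quad.base.card_group_of_involution_free hA hS rfl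
      exact F.quad.base.z_ne_one ((hsq _ hK hne).symm.trans e)
    · exact eq_one_of_inverted hS.hp2 ((F.V_elem hS).2 v hv) (F.V_inv hS hv) (e ▸ hh.pow_left 2)
  obtain ⟨b2, hb2, hb2'⟩ := F.quad.base.not_mem_of_ne F.quad.pl2.2.1 F.quad.pl1.2.1 F.quad.ne.symm
  obtain ⟨b1, hb1, hb1'⟩ := F.quad.base.not_mem_of_ne F.quad.pl1.2.1 F.quad.pl2.2.1 F.quad.ne
  set W := F.V ⊓ centralizer (F.B : Set G) with hW
  set U := F.V ⊓ centralizer ({b2} : Set G) with hU
  have hU9 : Nat.card U * Nat.card U ≤ 81 := by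
    by_contra h
    have hq := F.q2_mem_X hS
    obtain ⟨v, hv, ⟨v', hv', hvv⟩, hv1⟩ := F.inter_ne_bot hS (inf_le_left : U ≤ F.V)
      (show U.map (MulAut.conj F.q2).toMonoidHom ≤ F.V by
        rintro _ ⟨a, ha, rfl⟩
        exact F.conj_V hS hq.2 (F.conj_z_X hS hq) ha.1)
      (by rw [card_map_of_injective (MulAut.conj F.q2).injective]; exact lt_of_not_ge h)
    have hvv' : F.q2 * v' * F.q2⁻¹ = v := hvv
    refine hv1 (disj F.quad.pl2 F.quad.hq2 hq F.quad.q2sq (F.quad.pl1.1 hb2) hb2' v hv.1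
      (mem_centralizer_singleton_iff.mp hv.2).symm ?_)
    rw [← hvv', show F.q2⁻¹ * (F.q2 * v' * F.q2⁻¹) * F.q2 = v' by group]
    exact (mem_centralizer_singleton_iff.mp hv'.2).symm
  by_contra h3
  have hWU : W ≤ U := inf_le_inf_left _ (centralizer_le (Set.singleton_subset_iff.mpr (F.quad.pl1.1 hb2)))
  have hVp := isPGroup_of_elementaryAbelian (F.V_elem hS)
  obtain ⟨i, hi⟩ := IsPGroup.iff_card.mp (hVp.to_le (inf_le_left : W ≤ F.V))
  obtain ⟨j, hj⟩ := IsPGroup.iff_card.mp (hVp.to_le (inf_le_left : U ≤ F.V))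
  have hi2 : 2 ≤ i := by
    by_contra hlt
    have := Nat.pow_le_pow_right (show 0 < 3 by norm_num) (show i ≤ 1 by omega)
    rw [← hi, pow_one] at this
    change Nat.card W ≤ 3 at this
    exact h3 this
  have hj2 : j ≤ 2 := by
    by_contra hlt
    have := Nat.pow_le_pow_right (show 0 < 3 by norm_num) (show 3 ≤ j by omega)
    rw [← hj] at this
    change 3 ^ 3 ≤ Nat.card U at this
    nlinarith
  have hWeq : W = U := eq_of_le_of_card_ge hWU (by rw [hi, hj]; exact Nat.pow_le_pow_right (by norm_num) (by omega))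
  have hW1 : W ≠ ⊥ := fun e => by
    change Nat.card W = _ at hi
    rw [e, card_bot] at hi
    exact absurd hi.symm (Nat.ne_of_gt (Nat.one_lt_pow (by omega) (by norm_num)))
  obtain ⟨v, hv, hv1⟩ := exists_ne_one_of_ne_bot hW1
  have hq := F.q1_mem_X hS
  refine hv1 (disj F.quad.pl1 F.quad.hq1 hq F.quad.q1sq (F.quad.pl2.1 hb1) hb1' v hv.1
    (mem_centralizer_iff.mp hv.2 b1 (F.quad.pl2.1 hb1)) ?_)
  have hqb : Commute b2 F.q1 := mem_centralizer_iff.mp (F.quad.base.group_le F.quad.pl1 F.quad.hq1).2 b2 hb2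
  have hmem : F.q1⁻¹ * v * F.q1 ∈ U := ⟨by
    simpa using F.conj_V hS (inv_mem hq.2) (F.conj_z_X hS (inv_mem hq)) hv.1,
    mem_centralizer_singleton_iff.mpr ((hqb.inv_right.mul_right
      (mem_centralizer_iff.mp hv.2 b2 (F.quad.pl1.1 hb2))).mul_right hqb).eq.symm⟩
  rw [← hWeq] at hmem
  exact mem_centralizer_iff.mp hmem.2 b1 (F.quad.pl2.1 hb1)

/-- An element of `C(D)` of order three agrees on `Q` with an element of `C(z)`. -/
theorem exists_centralizing {v : G} (hv : v ∈ centralizer (F.D : Set G)) :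
    ∃ k, k ∈ centralizer (F.D : Set G) ∧ (∀ q ∈ F.Q, Commute k q) ∧ Commute (k * v) F.z := by
  set k1 := F.z * v * F.z⁻¹ * v⁻¹ with hk1
  have hzD := (F.z_mem_X hS).2
  have hk : k1 ∈ F.kset := by
    refine ⟨mul_mem (mul_mem (mul_mem hzD hv) (inv_mem hzD)) (inv_mem hv), fun q hq => ?_⟩
    obtain ⟨d, hd, -, t, ht, htz, rfl⟩ := F.decomp hS hq
    obtain ⟨d0, hd0, -, t0, ht0, ht0z, hvt⟩ := F.decomp hS (F.conj_Q hS (inv_mem hv) ht)
    rw [inv_inv] at hvt
    have hkd : Commute k1 d :=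
      F.D_comm hS (mul_mem (mul_mem (mul_mem hzD hv) (inv_mem hzD)) (inv_mem hv)) hd
    have hzd := conj_eq_self (F.z_D hS hd0)
    have hvd := conj_eq_self (F.D_comm hS hv hd0)
    have h0 : v * t0 * v⁻¹ = d0⁻¹ * t := by
      rw [show t0 = d0⁻¹ * (v⁻¹ * t * v) by rw [hvt, inv_mul_cancel_left], ← conj_mul, ← conj_inv, hvd]; group
    have h1 : k1 * t * k1⁻¹ = d0 * t * d0 := by
      calc k1 * t * k1⁻¹ = F.z * (v * (F.z⁻¹ * (v⁻¹ * t * v) * F.z) * v⁻¹) * F.z⁻¹ := by rw [hk1]; group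
        _ = F.z * (v * (F.z * (d0 * t0) * F.z⁻¹) * v⁻¹) * F.z⁻¹ := by rw [hvt, F.z_inv hS]
        _ = F.z * (d0 * (t⁻¹ * d0)) * F.z⁻¹ := by
          have e1 : F.z * (d0 * t0) * F.z⁻¹ = d0 * t0⁻¹ := by rw [← conj_mul, hzd, ht0z]
          have e2 : v * (d0 * t0⁻¹) * v⁻¹ = d0 * (t⁻¹ * d0) := by
            rw [← conj_mul, hvd, ← conj_inv, h0, mul_inv_rev, inv_inv]
          rw [e1, e2]
        _ = _ := by rw [← conj_mul, ← conj_mul, hzd, ← conj_inv, htz, inv_inv, mul_assoc]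
    have h2 : ⁅k1, t⁆ = d0 * d0 := by
      rw [commutatorElement_def, h1, mul_assoc d0 t, ← (F.D_comm hS (F.Q_le hS ht) hd0).symm.eq,
        ← mul_assoc d0 d0, mul_inv_cancel_right]
    rw [show ⁅k1, d * t⁆ = ⁅k1, d⁆ * (d * ⁅k1, t⁆ * d⁻¹) by simp only [commutatorElement_def]; group,
      commutatorElement_eq_one_iff_commute.mpr hkd, one_mul, h2]
    exact mul_mem (mul_mem hd (mul_mem hd0 hd0)) (inv_mem hd)
  obtain ⟨m, hm⟩ := exists_fixed_translate (g := v) (F.z_sq hS) (coprime_two_of_three (F.kset_pgroup hS) hk)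
  exact ⟨k1 ^ m, pow_mem hk.1 m, F.commute_Q hS (pow_mem hk.1 m) (F.kset_V hS (pow_mem hk m)), hm.symm⟩

theorem contradiction_three (F : FD 3 3 G) : False := by
  obtain ⟨F', e1, e2, hDA, hxA, eD⟩ := F.exists_derived_FD hS
  obtain ⟨d, hd, hd1⟩ := exists_ne_one_of_ne_bot (F.D_ne_bot hS)
  obtain ⟨t, ht, ht1⟩ := exists_ne_one_of_ne_bot (F'.D_ne_bot hS)
  have hdB : d ∈ F'.B := e2 ▸ mem_sup_left hd
  have hdC : d ∈ centralizer (F'.D : Set G) := mem_centralizer_iff.mpr fun a ha =>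
    (commute_of_elementaryAbelian F'.quad.base.elem (F'.D_le hS ha) hdB).eq
  have hdz : Commute d F'.z := by rw [e1]; exact (F.D_comm hS (F.w_mem_X hS).2 hd).symm
  have hVc : ∀ a b : F'.V, a * b = b * a := fun a b =>
    Subtype.ext (commute_of_elementaryAbelian (F'.V_elem hS) a.2 b.2).eq
  let φ : F'.V →* F'.V :=
    { toFun := fun a => ⟨⁅d, (a : G)⁆, by
        rw [commutatorElement_def]; exact mul_mem (F'.conj_V hS hdC hdz a.2) (inv_mem a.2)⟩
      map_one' := Subtype.ext (by simp)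
      map_mul' := fun a b => Subtype.ext (by
        show ⁅d, (a : G) * b⁆ = ⁅d, (a : G)⁆ * ⁅d, (b : G)⁆
        rw [show ⁅d, (a : G) * b⁆ = ⁅d, (a : G)⁆ * ((a : G) * ⁅d, (b : G)⁆ * (a : G)⁻¹) by
            simp only [commutatorElement_def]; group, conj_eq_self (commute_of_elementaryAbelian (F'.V_elem hS) a.2
            (by rw [commutatorElement_def]; exact mul_mem (F'.conj_V hS hdC hdz b.2) (inv_mem b.2)))]) }
  have hcube : (φ.comp (φ.comp φ)).ker = ⊤ := by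
    rw [eq_top_iff]
    intro a _
    rw [MonoidHom.mem_ker]
    let σ : F'.V →* F'.V :=
      { toFun := fun a => ⟨d * a * d⁻¹, F'.conj_V hS hdC hdz a.2⟩
        map_one' := Subtype.ext (by simp)
        map_mul' := fun a b => Subtype.ext (by simp [mul_assoc]) }
    letI : CommGroup F'.V := { (inferInstance : Group F'.V) with mul_comm := hVc }
    have hφ : ∀ a, φ a = σ a / a := fun a => by
      rw [div_eq_mul_inv]; exact Subtype.ext (commutatorElement_def d (a : G))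
    have h3 : σ (σ (σ a)) = a := Subtype.ext (by
      show d * (d * (d * (a : G) * d⁻¹) * d⁻¹) * d⁻¹ = (a : G)
      rw [show d * (d * (d * (a : G) * d⁻¹) * d⁻¹) * d⁻¹ = d ^ 3 * a * (d ^ 3)⁻¹ by rw [pow_succ, pow_two]; group,
        (F.D_elem hS).2 d hd]; simp)
    have hexp : ∀ b : F'.V, b ^ 3 = 1 := fun b => Subtype.ext (by simpa using (F'.V_elem hS).2 b b.2)
    show φ (φ (φ a)) = 1
    simp only [hφ, map_div, h3]
    have h1 := hexp (σ a)
    have h2 := hexp (σ (σ a))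
    rw [phi_cube, h1, h2, div_one]
  have h81 : 81 ≤ Nat.card φ.ker * Nat.card φ.ker * Nat.card φ.ker := by
    have h1 := card_ker_comp (φ.comp φ) φ
    have h2 := card_ker_comp φ φ
    rw [hcube, card_top, F'.V_card hS] at h1
    calc 81 ≤ Nat.card (φ.comp φ).ker * Nat.card φ.ker := h1
      _ ≤ _ := Nat.mul_le_mul_right _ h2
  -- the fixed points of `d` centralise `E`
  have hsub : ∀ a : φ.ker, ((a : F'.V) : G) ∈ F'.V ⊓ centralizer (F'.B : Set G) := by
    rintro ⟨⟨v, hv⟩, hker⟩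
    refine ⟨hv, ?_⟩
    have hvd : Commute d v := commutatorElement_eq_one_iff_commute.mp (congrArg Subtype.val hker)
    have hvD : v ∈ centralizer (F.D : Set G) := mem_centralizer_iff.mpr fun a ha => by
      obtain ⟨i, rfl⟩ := mem_of_order_three (F.D3 hS) hd hd1 ha
      exact (hvd.zpow_left i).eq
    obtain ⟨k, hkD, hkQ, hkz⟩ := F.exists_centralizing hS hvD
    have hvt : Commute v t := F'.D_comm hS (F'.Q_le hS (F'.V_le hS hv)) ht
    have hvT2 : ∀ b ∈ F.T2, Commute v b := fun b hb =>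
      (F'.kset_V hS (F.J_kset hS e1 eD (F.T2_le hS hb) (F.T2_z hS hb) (F.T2_w hS hb)) v hv).symm
    have hv3 : v ^ 3 = 1 := (F'.V_elem hS).2 v hv
    have hstep : ∀ q ∈ F.Q, k * v * q * (k * v)⁻¹ = v * q * v⁻¹ := fun q hq => by
      rw [show k * v * q * (k * v)⁻¹ = k * (v * q * v⁻¹) * k⁻¹ by group, conj_eq_self (hkQ _ (F.conj_Q hS hvD hq))]
    have hfixof : ∀ q ∈ F.Q, Commute v q → Commute (k * v) q := fun q hq h => commute_of_conj_eq (by
      rw [hstep q hq, conj_eq_self h])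
    have hkvD : k * v ∈ centralizer (F.D : Set G) := mul_mem hkD hvD
    have hc3 : ∀ q ∈ F.Q, Commute ((k * v) ^ 3) q := fun q hq => commute_of_conj_eq (by
      have h1 := F.conj_Q hS hvD hq
      have h2 := F.conj_Q hS hvD h1
      calc (k * v) ^ 3 * q * ((k * v) ^ 3)⁻¹
          = k * v * (k * v * (k * v * q * (k * v)⁻¹) * (k * v)⁻¹) * (k * v)⁻¹ := by rw [pow_succ, pow_two]; group
        _ = v * (v * (v * q * v⁻¹) * v⁻¹) * v⁻¹ := by rw [hstep q hq, hstep _ h1, hstep _ h2]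
        _ = v ^ 3 * q * (v ^ 3)⁻¹ := by rw [pow_succ, pow_two]; group
        _ = q := by rw [hv3]; simp)
    have hx := F.commute_x_of_fix hS hkvD hkz hc3 (eD ht) ht1 (hfixof t (F.T_le hS (eD ht)) hvt)
      (fun b hb => hfixof b (F.T2_le hS hb) (hvT2 b hb))
    have hvx : Commute v F.x := commute_of_conj_eq (by rw [← hstep F.x F.hx, conj_eq_self hx])
    have hTx : F.T = zpowers F.x ⊔ zpowers t := by
      refine (eq_of_le_of_card_ge (sup_le le_sup_left (zpowers_le.mpr (eD ht))) ?_).symm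
      have htx : t ∉ zpowers F.x := fun h => hxA (zpowers_le.mpr ht.1 (mem_of_order_three
        (show Nat.card (zpowers F.x) = 3 by rw [Nat.card_zpowers, orderOf_eq_prime (F.faith.exp _ F.hx) F.x_ne])
        h ht1 (mem_zpowers F.x)))
      have h9 := card_mul_le ((isPGroup_of_elementaryAbelian (F.T_elem hS)).to_le
        (sup_le le_sup_left (zpowers_le.mpr (eD ht)) : zpowers F.x ⊔ zpowers t ≤ F.T))
        le_sup_left (mem_sup_right (mem_zpowers t)) htx
      rw [Nat.card_zpowers, orderOf_eq_prime (F.faith.exp _ F.hx) F.x_ne] at h9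
      exact (F.T9 hS).le.trans h9
    rw [e2]
    refine mem_centralizer_iff.mpr fun e he => ?_
    obtain ⟨a, ha, b, hb, rfl⟩ := F.mem_E hS he
    rw [hTx] at hb
    exact ((F.D_comm hS hvD ha).symm.mul_left (commute_sup
      (fun c hc => by obtain ⟨i, rfl⟩ := hc; exact hvx.symm.zpow_left i)
      (fun c hc => by obtain ⟨i, rfl⟩ := hc; exact hvt.symm.zpow_left i) b hb)).eq
  have hle : Nat.card φ.ker ≤ 3 := le_trans (Nat.card_le_card_of_injective
    (fun a => (⟨((a : F'.V) : G), hsub a⟩ : ↥(F'.V ⊓ centralizer (F'.B : Set G))))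
    (fun a b h => Subtype.ext (Subtype.ext (congrArg Subtype.val h :)))) (F'.cent_B_small hS)
  have := Nat.mul_le_mul (Nat.mul_le_mul hle hle) hle
  omega

end FD

end Cfsg.Agent.H29.KM
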